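import Groth.Agent.SDiv.K476.HomSh5
import Groth.Agent.Htor.H255.HomStalk
import Groth.Agent.Grpsch.PicGrp
import Groth.Prelude.Def_ClSub2

/-!
# Comparison with the internal Hom of the library; duals of invertible modules

* `cmpIso F G : homSh F G ≅ CohqB.HomSheaf.homSheaf F G`, with `comp_cmp`
* `isInvertible_dual`, `tensor_dual_iso : L ⊗ dual L ≅ O` for `L` invertible
* `dual_iso_of_isInverseOf`, `dual_pullback` : the dual of an invertible module commutes with pullback
* `homStructIso : homSh O G ≅ G`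
-/

set_option autoImplicit false
universe u
open CategoryTheory CategoryTheory.Limits AlgebraicGeometry TopologicalSpace Opposite

noncomputable section

namespace K476.HomSh6

open RefHull Groth.Agent.CycB.StalkExact Groth.Agent.Ega1.QCohLoc K476.HomSh1 K476.HomSh2
open K476.HomSh4
open Groth.Agent.CohqB.HomSheaf (homSheaf comp mkSec comp_mkSec)
open Groth.Agent.Htor.H255.HomStalk (secStalk secStalk_germ secStalk_germ_le)

variable {X Y : Scheme.{u}} {F G F' G' H : X.Modules}

/-! ### The comparison -/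

/-- The family of maps on sections defined by a section of the sheaf Hom. -/
def cmpSec (U : X.Opens) (g : Γ(homSh F G, U)) : Γ(homSheaf F G, U) :=
  mkSec (fun _ hV => secMap g hV) (fun _ _ hV h m => secMap_res g hV h m)

theorem comp_cmpSec (U : X.Opens) (g : Γ(homSh F G, U)) (V : X.Opens) (hV : V ≤ U) (m : Γ(F, V)) :
    comp (cmpSec U g) V hV m = secMap g hV m := rfl

theorem cmpSec_add (U : X.Opens) (g h : Γ(homSh F G, U)) :
    cmpSec U (g + h) = cmpSec U g + cmpSec U h :=
  Groth.Agent.CohqB.HomSheaf.sec_ext (fun V hV m => by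
    rw [comp_cmpSec, secMap_add]; rfl)

/-- The comparison morphism. -/
def cmp (F G : X.Modules) : homSh F G ⟶ homSheaf F G :=
  ⟨PresheafOfModules.homMk (M₁ := (homSh F G).val) (M₂ := (homSheaf F G).val)
    { app := fun U => AddCommGrpCat.ofHom (AddMonoidHom.mk' (cmpSec U.unop) (cmpSec_add U.unop))
      naturality := fun {U V} i => by
        ext g
        exact Groth.Agent.CohqB.HomSheaf.sec_ext (fun W hW m =>
          secMap_res_left g i.unop.le hW m) }
    (fun U r g => Groth.Agent.CohqB.HomSheaf.sec_ext (fun V hV m => by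
      change secMap (r • g : Γ(homSh F G, U.unop)) hV m =
        X.presheaf.map (homOfLE hV).op r • secMap g hV m
      refine sec_ext G (fun x hx => ?_)
      rw [germ_secMap, Mero.germ_smul, germ_secMap, TopCat.Presheaf.germ_res_apply]
      rfl))⟩

theorem cmp_app (U : X.Opens) (g : Γ(homSh F G, U)) : (cmp F G).app U g = cmpSec U g := rfl

theorem comp_cmp (U : X.Opens) (g : Γ(homSh F G, U)) (V : X.Opens) (hV : V ≤ U) (m : Γ(F, V)) :
    comp ((cmp F G).app U g) V hV m = secMap g hV m := rfl

/-- The section of the sheaf Hom defined by a compatible family of maps on sections. -/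
def ofComp (U : X.Opens) (s : Γ(homSheaf F G, U)) : Γ(homSh F G, U) :=
  ⟨fun x => secStalk x.1 x.2 s, fun V i m x => ⟨V, x.2, 𝟙 V, comp s V i.le m, fun y => by
    exact secStalk_germ_le y.1 (i.le y.2) s V y.2 i.le m⟩⟩

theorem ofComp_apply (U : X.Opens) (s : Γ(homSheaf F G, U)) (x : U) :
    (ofComp U s).1 x = secStalk x.1 x.2 s := rfl

theorem secMap_ofComp (U : X.Opens) (s : Γ(homSheaf F G, U)) {V : X.Opens} (hV : V ≤ U)
    (m : Γ(F, V)) : secMap (ofComp U s) hV m = comp s V hV m := by
  refine sec_ext G (fun x hx => ?_)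
  rw [germ_secMap, ofComp_apply]
  exact secStalk_germ_le x (hV hx) s V hx hV m

instance isIso_cmp (F G : X.Modules) : IsIso (cmp F G) := by
  rw [Scheme.Modules.Hom.isIso_iff_isIso_app]
  intro U
  rw [ConcreteCategory.isIso_iff_bijective]
  constructor
  · intro g h hgh
    refine homSec_ext_secMap (fun V hV m => ?_)
    rw [← comp_cmp U g, hgh, comp_cmp]
  · intro s
    refine ⟨ofComp U s, Groth.Agent.CohqB.HomSheaf.sec_ext (fun V hV m => ?_)⟩
    rw [comp_cmp, secMap_ofComp]

/-- `RefHull.homSh` is the internal Hom `CohqB.HomSheaf.homSheaf`. -/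
def cmpIso (F G : X.Modules) : homSh F G ≅ homSheaf F G := asIso (cmp F G)

/-! ### Invertible modules -/

theorem isInvertible_of_iso {L L' : X.Modules} (e : L ≅ L') (h : PicF.IsInvertible L) :
    PicF.IsInvertible L' := by
  intro x
  obtain ⟨U, hx, ⟨f⟩⟩ := h x
  exact ⟨U, hx, ⟨(Scheme.Modules.restrictFunctor U.ι).mapIso e.symm ≪≫ f⟩⟩

theorem isInvertible_dual {L : X.Modules} (hL : PicF.IsInvertible L) :
    PicF.IsInvertible (dual L) :=
  isInvertible_of_iso (cmpIso L _).symm (Groth.Agent.Grpsch.PicGrp.isInvertible_dual hL)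

/-- `L ⊗ dual L ≅ O` for `L` invertible. -/
theorem nonempty_tensor_dual {L : X.Modules} (hL : PicF.IsInvertible L) :
    Nonempty (CohB1.tensorMod L (dual L) ≅ Coh.structureModule X) := by
  have := Groth.Agent.Grpsch.PicGrp.isIso_ev hL
  exact ⟨Groth.Agent.Ega2.Tens.mapTIso (Iso.refl L) (cmpIso L _) ≪≫
    asIso (Groth.Agent.Grpsch.PicGrp.ev L)⟩

theorem nonempty_dual_tensor {L : X.Modules} (hL : PicF.IsInvertible L) :
    Nonempty (CohB1.tensorMod (dual L) L ≅ Coh.structureModule X) := by
  obtain ⟨e⟩ := nonempty_tensor_dual hL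
  exact ⟨Groth.Agent.Ega2.Tens.swap _ _ ≪≫ e⟩

/-- Inverses for the tensor product are unique. -/
theorem nonempty_iso_of_tensor {L M N : X.Modules}
    (e : CohB1.tensorMod L M ≅ Coh.structureModule X)
    (e' : CohB1.tensorMod L N ≅ Coh.structureModule X) : Nonempty (M ≅ N) :=
  -- M ≅ O ⊗ M ≅ (L ⊗ N) ⊗ M ≅ (N ⊗ L) ⊗ M ≅ N ⊗ (L ⊗ M) ≅ N
  ⟨(Groth.Agent.Ega2.Tens.lunit M).symm ≪≫
    Groth.Agent.Ega2.Tens.mapTIso (e'.symm ≪≫ Groth.Agent.Ega2.Tens.swap _ _) (Iso.refl M) ≪≫
    Groth.Agent.Ega2.Tens.assoc _ _ _ ≪≫ Groth.Agent.Ega2.Tens.mapTIso (Iso.refl N) e ≪≫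
    Groth.Agent.Ega2.Tens.runit N⟩

/-- An inverse of an invertible module is its dual. -/
theorem nonempty_iso_dual {L M : X.Modules} (hL : PicF.IsInvertible L)
    (e : CohB1.tensorMod L M ≅ Coh.structureModule X) : Nonempty (M ≅ dual L) := by
  obtain ⟨e'⟩ := nonempty_tensor_dual hL
  exact nonempty_iso_of_tensor e e'

/-- The dual of an invertible module commutes with pullback. -/
theorem nonempty_dual_pullback (f : Y ⟶ X) {L : X.Modules} (hL : PicF.IsInvertible L) :
    Nonempty (dual ((Scheme.Modules.pullback f).obj L) ≅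
      (Scheme.Modules.pullback f).obj (dual L)) := by
  have hL' : PicF.IsInvertible ((Scheme.Modules.pullback f).obj L) :=
    Groth.Agent.Fdesc.LocGen.isInvertible_pullback f hL
  obtain ⟨e⟩ := nonempty_tensor_dual hL
  have h1 := Groth.Agent.Grpsch.PicGrp.isIso_pullTensor f hL (isInvertible_dual hL)
  have h2 := Groth.Agent.Grpsch.PicGrp.isIso_pullOne f
  obtain ⟨e'⟩ := nonempty_iso_dual hL' ((asIso (Groth.Agent.Grpsch.PicGrp.pullTensor f L
    (dual L))).symm ≪≫ (Scheme.Modules.pullback f).mapIso e ≪≫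
    (@asIso _ _ _ _ _ h2).symm)
  exact ⟨e'.symm⟩

/-! ### The sheaf Hom out of the structure sheaf -/

theorem isFP_structureModule (X : Scheme.{u}) : CohB1.IsFP (Coh.structureModule X) := by
  have hq := Groth.Agent.Fdesc.StructMod.isQCoh_structureModule X
  refine (Groth.Agent.Desc.FPSections.isFP_iff_sections hq).mpr (fun V _ => ?_)
  exact Module.FinitePresentation.of_equiv
    (Groth.Agent.Fdesc.StructMod.sectionsEquiv V).symm

open Groth.Agent.Fdesc.LocGen in
/-- Evaluation at `1`. -/
def evOne (G : X.Modules) : homSh (Coh.structureModule X) G ⟶ G :=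
  Groth.Agent.Fdesc.LocGen.mkHom
    (fun U => AddMonoidHom.mk' (fun g => secMap g le_rfl (one U)) (fun g h => by
      rw [secMap_add]; rfl))
    (fun U r g => secMap_smul r g (one U))
    (fun U V h g => by
      change secMap (Groth.Agent.Ega1.QCohLoc.res _ h g) le_rfl (one V) =
        Groth.Agent.Ega1.QCohLoc.res G h (secMap g le_rfl (one U))
      rw [secMap_res_left, ← secMap_res g le_rfl h]
      exact congrArg (fun t => secMap g h t) (Groth.Agent.Fdesc.LocGen.res_one h).symm)

theorem evOne_app (U : X.Opens) (g : Γ(homSh (Coh.structureModule X) G, U)) :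
    (evOne G).app U g = secMap g le_rfl (Groth.Agent.Fdesc.LocGen.one U) := rfl

theorem stalkMapₗ_evOne (G : X.Modules) (x : X)
    (θ : (homSh (Coh.structureModule X) G).presheaf.stalk x) :
    stalkMapₗ (evOne G) x θ = evalStalk (Coh.structureModule X) G x θ
      (Groth.Agent.Fdesc.StructMod.stalkEquiv x 1) := by
  obtain ⟨V, hV, g, rfl⟩ := (homSh (Coh.structureModule X) G).presheaf.exists_germ_eq θ
  rw [stalkMapₗ_germ, evOne_app, germ_secMap, evalStalk_germ]
  congr 1
  rw [← map_one (X.presheaf.germ V x hV).hom]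
  exact (Groth.Agent.Fdesc.StructMod.stalkEquiv_germ x hV 1).symm

instance isIso_evOne (G : X.Modules) : IsIso (evOne G) := by
  refine isIso_of_stalk _ (fun x => ?_)
  have h : ⇑(stalkMapₗ (evOne G) x) =
      (fun α : StalkHom (Coh.structureModule X) G x =>
        α (Groth.Agent.Fdesc.StructMod.stalkEquiv x 1)) ∘
        (evalStalk (Coh.structureModule X) G x) := funext (stalkMapₗ_evOne G x)
  rw [h]
  refine Function.Bijective.comp ⟨?_, ?_⟩ (K476.HomSh3.evalStalk_bijective _ _ ?_ x)
  · intro α β hαβ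
    refine LinearMap.ext (fun t => ?_)
    obtain ⟨r, rfl⟩ := (Groth.Agent.Fdesc.StructMod.stalkEquiv x).surjective t
    have e : Groth.Agent.Fdesc.StructMod.stalkEquiv x r =
        r • Groth.Agent.Fdesc.StructMod.stalkEquiv x 1 := by
      rw [← map_smul, smul_eq_mul, mul_one]
    rw [e, map_smul, map_smul]
    exact congrArg (r • ·) hαβ
  · intro m
    refine ⟨(LinearMap.toSpanSingleton _ _ m).comp
      (Groth.Agent.Fdesc.StructMod.stalkEquiv x).symm.toLinearMap, ?_⟩
    change LinearMap.toSpanSingleton _ _ m ((Groth.Agent.Fdesc.StructMod.stalkEquiv x).symm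
      (Groth.Agent.Fdesc.StructMod.stalkEquiv x 1)) = m
    rw [LinearEquiv.symm_apply_apply, LinearMap.toSpanSingleton_apply, one_smul]
  · exact isFP_structureModule X

/-- `𝓗om(O, G) ≅ G`. -/
def homStructIso (G : X.Modules) : homSh (Coh.structureModule X) G ≅ G := asIso (evOne G)

end K476.HomSh6

end
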