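import Groth.Agent.SDiv.K476.HomSh4
import Groth.Agent.SDiv.K476.HomSh6
import Groth.Prelude.Def_RefPow

/-!
# The locus where a morphism of modules is bijective on stalks

For `φ : F ⟶ G` with `F` of finite type and `G` of finite presentation, the set of points `x` at which the stalk
map of `φ` is bijective is open (`isOpen_setOf_bijective`), and `φ` is an isomorphism over it
(`isIso_restrict_of_forall_bijective`).
-/

set_option autoImplicit false
set_option backward.isDefEq.respectTransparency false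

universe u

noncomputable section

open CategoryTheory CategoryTheory.Limits AlgebraicGeometry TopologicalSpace Opposite
open RefHull K476.HomSh1 K476.HomSh2 K476.HomSh3 K476.HomSh4 Groth.Agent.Ega1.QCohLoc

namespace K476.IsoLoc

variable {X : Scheme.{u}} {F G : X.Modules}

/-- Two sections of the sheaf Hom (out of a module of finite type) which agree at a point agree nearby. -/
theorem exists_nhd_eq (hF : CohB1.IsFT F) {U : X.Opens} (g h : Γ(homSh F G, U)) {x : X}
    (hx : x ∈ U) (e : g.1 ⟨x, hx⟩ = h.1 ⟨x, hx⟩) :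
    ∃ (W : X.Opens) (hW : W ≤ U), x ∈ W ∧ ∀ (y : X) (hy : y ∈ W), g.1 ⟨y, hW hy⟩ = h.1 ⟨y, hW hy⟩ := by
  have h1 : (homSh F G).presheaf.germ U x hx g = (homSh F G).presheaf.germ U x hx h := by
    refine evalStalk_injective F G hF x ?_
    rw [evalStalk_germ, evalStalk_germ, e]
  obtain ⟨W, h1, h2, hxW, e⟩ := exists_res_eq (homSh F G) x hx hx g h h1
  refine ⟨W, h1, hxW, fun y hy => ?_⟩
  exact congrFun (congrArg Subtype.val e) ⟨y, hy⟩

/-- The locus where a morphism is bijective on stalks is open. -/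
theorem isOpen_setOf_bijective (hF : CohB1.IsFT F) (hG : CohB1.IsFP G) (φ : F ⟶ G) :
    IsOpen {x : X | Function.Bijective (stalkMapₗ φ x)} := by
  rw [isOpen_iff_forall_mem_open]
  intro x hx
  let e : F.presheaf.stalk x ≃ₗ[X.presheaf.stalk x] G.presheaf.stalk x :=
    LinearEquiv.ofBijective (stalkMapₗ φ x) hx
  obtain ⟨θ, hθ⟩ := evalStalk_surjective G F hG x e.symm.toLinearMap
  obtain ⟨U, hU, g, rfl⟩ := (homSh G F).presheaf.exists_germ_eq θ
  rw [evalStalk_germ] at hθ
  have h1 : (postCompSec G φ U g).1 ⟨x, hU⟩ = (ofHom (𝟙 G) U).1 ⟨x, hU⟩ := by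
    rw [postCompSec_apply, ofHom_apply, stalkMapₗ_id, hθ]
    ext m
    exact e.apply_symm_apply m
  have h2 : ((preComp φ F).app U g).1 ⟨x, hU⟩ = (ofHom (𝟙 F) U).1 ⟨x, hU⟩ := by
    rw [preComp_app_apply, ofHom_apply, stalkMapₗ_id, hθ]
    ext m
    exact e.symm_apply_apply m
  obtain ⟨W₁, hW₁, hx₁, H₁⟩ := exists_nhd_eq (isFT_of_isFP hG) _ _ hU h1
  obtain ⟨W₂, hW₂, hx₂, H₂⟩ := exists_nhd_eq hF _ _ hU h2
  refine ⟨((W₁ ⊓ W₂ : X.Opens) : Set X), fun y hy => ?_, (W₁ ⊓ W₂).2, ⟨hx₁, hx₂⟩⟩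
  have e₁ := H₁ y hy.1
  have e₂ := H₂ y hy.2
  rw [postCompSec_apply, ofHom_apply, stalkMapₗ_id] at e₁
  rw [preComp_app_apply, ofHom_apply, stalkMapₗ_id] at e₂
  refine ⟨fun a b hab => ?_, fun b => ⟨g.1 ⟨y, hW₁ hy.1⟩ b, LinearMap.congr_fun e₁ b⟩⟩
  have ea := LinearMap.congr_fun e₂ a
  have eb := LinearMap.congr_fun e₂ b
  rw [LinearMap.comp_apply] at ea eb
  rw [hab] at ea
  exact ea.symm.trans eb

/-- The isomorphism locus of a section of a coherent module on a locally Noetherian scheme is open. -/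
theorem isOpen_isoLocus [IsLocallyNoetherian X] (hF : Coh.IsCoh F)
    (s : Coh.structureModule X ⟶ F) : IsOpen (RefPow.isoLocus s) :=
  isOpen_setOf_bijective (isFT_of_isFP (K476.HomSh6.isFP_structureModule X)) (isFP_of_isCoh hF) s

end K476.IsoLoc
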