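import Groth.Agent.SDiv.K476.TensStalk
import Groth.Agent.SDiv.K476.IsoLoc
import Groth.Agent.SDiv.K475.Codim1
import Groth.Agent.CurvesC.DualInvGen
import Groth.Agent.CycB.C1Basic
import Groth.Agent.S2297
import Mathlib.RingTheory.DiscreteValuationRing.TFAE
import Mathlib.LinearAlgebra.FreeModule.PID

/-!
# Rank one reflexive modules: generators of stalks

* `isGen_spec`: generators of stalks specialize to generators, for quasi-coherent modules;
* `genInvertible_iff`: `RefHull.GenInvertible F` iff the generic stalk has a generator (coherent `F`, integral locally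
  Noetherian `X`);
* `exists_isGen_of_dim_one`: stalks of torsion free rank one coherent modules at regular codimension one points;
* `inj_of_isReflexive`, `isReflexive_dual`, `isReflexive_ddual`;
* `isRef1_dual`, `isRef1_refTensor`, `isRef1_refPow`;
* `secOrdAt_smul`: the order formula for any module with a generator at `x`.
-/

set_option autoImplicit false
set_option backward.isDefEq.respectTransparency false

universe u

noncomputable section

open CategoryTheory CategoryTheory.Limits AlgebraicGeometry TopologicalSpace Opposite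
open RefHull K476.HomSh1 K476.HomSh3 K476.HomSh4 Groth.Agent.CycB.ModStalk K475.GenStalk
open K476.TensStalk

namespace K476.Ref1

variable {X : Scheme.{u}} {F G : X.Modules}

/-! ### Generators and specialization -/

/-- Generators specialize to generators. -/
theorem isGen_spec (hF : Coh.IsQCoh F) {x y : X} (h : y ⤳ x) {t : F.presheaf.stalk x}
    (ht : IsGen F x t) : IsGen F y (F.presheaf.stalkSpecializes h t) := by
  let i1 := Groth.Agent.CycB.CohStalk.specModule F h
  have i2 := Groth.Agent.CycB.CohStalk.isLocalizedModule_stalkSpecializes F hF h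
  let i3 : Algebra (X.presheaf.stalk x) (X.presheaf.stalk y) :=
    (X.presheaf.stalkSpecializes h).hom.toAlgebra
  have i4 : IsLocalization.AtPrime (X.presheaf.stalk y) (RingHom.ker (Cyc.specMap x y h)) :=
    Groth.Agent.CycB.LocQuot.isLocalization_stalkSpecializes h
  have key : ∀ a : X.presheaf.stalk x, (algebraMap (X.presheaf.stalk x) (X.presheaf.stalk y) a) •
      F.presheaf.stalkSpecializes h t = F.presheaf.stalkSpecializes h (a • t) := fun a =>
    (stalkSpecializes_smul h a t).symm
  constructor
  · intro a b hab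
    rw [← sub_eq_zero]
    have h0 : (a - b) • F.presheaf.stalkSpecializes h t = 0 := by
      rw [sub_smul, sub_eq_zero]; exact hab
    generalize a - b = c at h0 ⊢
    obtain ⟨⟨r, s⟩, hrs⟩ := IsLocalization.surj (RingHom.ker (Cyc.specMap x y h)).primeCompl c
    have h1 : F.presheaf.stalkSpecializes h (r • t) = 0 := by
      rw [← key, ← hrs, mul_comm, mul_smul, h0, smul_zero]
    obtain ⟨u, hu, hur⟩ := Groth.Agent.CycB.CohStalk.exists_smul_eq_zero F hF h _ h1
    have h2 : u * r = 0 := by
      apply ht.1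
      change (u * r) • t = (0 : X.presheaf.stalk x) • t
      rw [mul_smul, hur, zero_smul]
    have h3 : algebraMap (X.presheaf.stalk x) (X.presheaf.stalk y) r = 0 := by
      rw [IsLocalization.map_eq_zero_iff (RingHom.ker (Cyc.specMap x y h)).primeCompl]
      exact ⟨⟨u, hu⟩, h2⟩
    rw [h3] at hrs
    exact (IsLocalization.map_units (X.presheaf.stalk y) s).mul_left_eq_zero.mp hrs
  · intro m
    obtain ⟨⟨n, s⟩, hs⟩ := IsLocalizedModule.surj (RingHom.ker (Cyc.specMap x y h)).primeCompl
      (Groth.Agent.CycB.CohStalk.specLin F h) m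
    obtain ⟨r, rfl⟩ := ht.2 n
    have hs' : (algebraMap (X.presheaf.stalk x) (X.presheaf.stalk y) s.1) • m =
      F.presheaf.stalkSpecializes h (r • t) := hs
    obtain ⟨u, hu⟩ := IsLocalization.map_units (X.presheaf.stalk y) s
    refine ⟨(↑u⁻¹ : X.presheaf.stalk y) * algebraMap _ _ r, ?_⟩
    change ((↑u⁻¹ : X.presheaf.stalk y) * algebraMap _ _ r) • F.presheaf.stalkSpecializes h t = m
    rw [mul_smul, key, ← hs', ← hu, smul_smul, Units.inv_mul, one_smul]

/-- Generators are unique up to units, and being a generator passes to elements spanning the stalk. -/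
theorem isGen_of_span {x : X} {t t₀ : F.presheaf.stalk x} (ht : IsGen F x t)
    (h : Submodule.span (X.presheaf.stalk x) {t₀} = ⊤) : IsGen F x t₀ := by
  obtain ⟨a, ha⟩ := ht.2 t₀
  obtain ⟨b, hb⟩ := Submodule.mem_span_singleton.mp (h ▸ Submodule.mem_top : t ∈
    Submodule.span (X.presheaf.stalk x) {t₀})
  have hab : b * a = 1 := by
    apply ht.1
    change (b * a) • t = (1 : X.presheaf.stalk x) • t
    rw [one_smul, mul_smul]
    exact (congrArg (b • ·) ha).trans hb
  have hu : IsUnit a := isUnit_iff_exists_inv'.mpr ⟨b, hab⟩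
  have e : (fun r : X.presheaf.stalk x => r • t₀) =
      (fun r : X.presheaf.stalk x => r • t) ∘ (fun r => r * a) := by
    funext r
    change r • t₀ = (r * a) • t
    rw [mul_smul]
    exact congrArg (r • ·) ha.symm
  change Function.Bijective (fun r : X.presheaf.stalk x => r • t₀)
  rw [e]
  exact ht.comp (IsUnit.isUnit_iff_mulRight_bijective.mp hu)

theorem free_of_isGen {x : X} {t : F.presheaf.stalk x} (ht : IsGen F x t) :
    Module.Free (X.presheaf.stalk x) (F.presheaf.stalk x) :=
  Module.Free.of_equiv (LinearEquiv.ofBijective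
    (LinearMap.toSpanSingleton (X.presheaf.stalk x) (F.presheaf.stalk x) t) ht)

/-- The bidual of a generator is a generator. -/
theorem isGen_bidual [IsLocallyNoetherian X] (hF : Coh.IsCoh F) {x : X} {t : F.presheaf.stalk x}
    (ht : IsGen F x t) : IsGen (ddual F) x (stalkMapₗ (bidualMap F) x t) :=
  isGen_map ht _ (bijective_stalkMapₗ_bidualMap_of_free hF x (free_of_isGen ht))

/-! ### Lattices over principal ideal domains -/

theorem exists_generator_of_equiv {R : Type*} [CommRing R] {M : Type*} [AddCommGroup M] [Module R M]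
    (e : R ≃ₗ[R] M) : Function.Bijective (fun a : R => a • e 1) := by
  have h : (fun a : R => a • e 1) = e := by
    funext a
    rw [← map_smul, smul_eq_mul, mul_one]
  rw [h]
  exact e.bijective

/-- A finite torsion free module over a PID with one-dimensional generic fibre has a generator. -/
theorem exists_generator_pid {R K M N : Type*} [CommRing R] [IsDomain R] [IsPrincipalIdealRing R]
    [Field K] [Algebra R K] [IsFractionRing R K] [AddCommGroup M] [Module R M] [Module.Finite R M]
    [Module.IsTorsionFree R M] [AddCommGroup N] [Module R N] [Module K N] [IsScalarTower R K N]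
    (l : M →ₗ[R] N) [IsLocalizedModule (nonZeroDivisors R) l] (v : N)
    (hv : Function.Bijective (fun a : K => a • v)) :
    ∃ t : M, Function.Bijective (fun a : R => a • t) := by
  have hfree : Module.Free R M := Module.free_of_finite_type_torsion_free'
  let b := Module.Free.chooseBasis R M
  let b' := b.ofIsLocalizedModule K (nonZeroDivisors R) l
  have h1 : Module.finrank K N = Fintype.card (Module.Free.ChooseBasisIndex R M) :=
    Module.finrank_eq_card_basis b'
  have h2 : Module.finrank K N = 1 := by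
    let e : K ≃ₗ[K] N := LinearEquiv.ofBijective (LinearMap.toSpanSingleton K N v) hv
    rw [← e.finrank_eq, Module.finrank_self]
  rw [h2] at h1
  have h3 : Module.finrank R M = 1 := by
    rw [Module.finrank_eq_card_basis b, h1]
  let e : R ≃ₗ[R] M := LinearEquiv.ofFinrankEq R M (by rw [h3, Module.finrank_self])
  exact ⟨e 1, exists_generator_of_equiv e⟩

/-! ### Spreading out generators -/

/-- A generator of the stalk spreads out. -/
theorem exists_isGenOn [IsLocallyNoetherian X] (hF : Coh.IsCoh F) {x : X} {t : F.presheaf.stalk x}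
    (ht : IsGen F x t) : ∃ W : X.Opens, x ∈ W ∧ ∃ e : Γ(F, W), IsGenOn F W e :=
  Groth.Agent.CurvesC.DualInvGen.exists_isGen F hF x t ht

theorem isInvertible_restrict_of_isGenOn {W : X.Opens} {e : Γ(F, W)} (he : IsGenOn F W e) :
    PicF.IsInvertible (F.restrict W.ι) := by
  refine Groth.Agent.CurvesC.Gen.isInvertible_of_isGen (fun x => ⟨⊤, trivial, ?_⟩)
  have h0 : W.ι ''ᵁ ⊤ ≤ W := by simp
  have h1 : Groth.Agent.CurvesC.Gen.IsGen F (W.ι ''ᵁ ⊤) (F.presheaf.map (homOfLE h0).op e) :=
    Groth.Agent.CurvesC.Gen.IsGen.mono he h0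
  exact ⟨_, (Groth.Agent.CurvesC.Gen.isGen_restrict_iff W.ι F ⊤ _).2 h1⟩

/-- Invertibility on an open gives generators of the stalks there. -/
theorem exists_isGen_of_restrict {U : X.Opens} (h : PicF.IsInvertible (F.restrict U.ι)) {x : X}
    (hx : x ∈ U) : ∃ t, IsGen F x t := by
  obtain ⟨V, hxV, e, he⟩ := Groth.Agent.CurvesC.Gen.exists_isGen h (⟨x, hx⟩ : U)
  have h1 := (Groth.Agent.CurvesC.Gen.isGen_restrict_iff U.ι F V e).1 he
  have hx' : x ∈ U.ι ''ᵁ V := ⟨⟨x, hx⟩, hxV, rfl⟩
  exact ⟨_, IsGenOn.isGen (L := F) (U := U.ι ''ᵁ V) (t := e) h1 x hx'⟩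

section integral

variable [IsIntegral X]

theorem exists_isGen_eta (h : GenInvertible F) : ∃ t, IsGen F (η X) t := by
  obtain ⟨U, hU, hF⟩ := h
  obtain ⟨y, hy⟩ := hU.nonempty
  exact exists_isGen_of_restrict hF (mem_of_nonempty hy)

theorem genInvertible_iff [IsLocallyNoetherian X] (hF : Coh.IsCoh F) :
    GenInvertible F ↔ ∃ t, IsGen F (η X) t := by
  refine ⟨exists_isGen_eta, fun ⟨t, ht⟩ => ?_⟩
  obtain ⟨W, hW, e, he⟩ := exists_isGenOn hF ht
  exact ⟨W, W.2.dense ⟨_, hW⟩, isInvertible_restrict_of_isGenOn he⟩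

theorem isTorsionFree_of_isReflexive [IsLocallyNoetherian X] (hF : Coh.IsCoh F)
    (h : IsReflexive F) (x : X) : Module.IsTorsionFree (X.presheaf.stalk x) (F.presheaf.stalk x) := by
  have h1 : Module.IsReflexive (X.presheaf.stalk x) (F.presheaf.stalk x) :=
    (isReflexive_iff_isReflexiveAt hF).mp h x
  infer_instance

theorem inj_of_isReflexive [IsLocallyNoetherian X] (hF : Coh.IsCoh F) (h : IsReflexive F) : Inj F :=
  inj_of_isTorsionFree hF.1 (isTorsionFree_of_isReflexive hF h)

/-- Duals of coherent modules are reflexive. -/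
theorem isReflexive_dual [IsLocallyNoetherian X] (hF : Coh.IsCoh F) : IsReflexive (dual F) := by
  rw [isReflexive_iff_isReflexiveAt (isCoh_dual hF)]
  intro x
  have h1 := Groth.Agent.Divis.StalkMod.finite_stalk hF x
  have h2 := K475.RefAlg.isReflexive_dual (R := X.presheaf.stalk x) (F.presheaf.stalk x)
  exact Module.equiv (dualStalkEquiv F (isFP_of_isCoh hF) x).symm

theorem isReflexive_ddual [IsLocallyNoetherian X] (hF : Coh.IsCoh F) : IsReflexive (ddual F) :=
  isReflexive_dual (isCoh_dual hF)

/-- The dual generator. -/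
theorem exists_isGen_dual [IsLocallyNoetherian X] (hF : Coh.IsCoh F) {x : X}
    {t : F.presheaf.stalk x} (ht : IsGen F x t) : ∃ t', IsGen (dual F) x t' := by
  let e : X.presheaf.stalk x ≃ₗ[X.presheaf.stalk x] F.presheaf.stalk x :=
    LinearEquiv.ofBijective (LinearMap.toSpanSingleton (X.presheaf.stalk x) _ t) ht
  let e' : X.presheaf.stalk x ≃ₗ[X.presheaf.stalk x] (dual F).presheaf.stalk x :=
    ((LinearMap.ringLmapEquivSelf (X.presheaf.stalk x) (X.presheaf.stalk x)
      (X.presheaf.stalk x)).symm.trans e.symm.dualMap).trans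
      (dualStalkEquiv F (isFP_of_isCoh hF) x).symm
  refine ⟨e' 1, ?_⟩
  have h : (fun r : X.presheaf.stalk x => r • e' 1) = e' := by
    funext r
    rw [← map_smul, smul_eq_mul, mul_one]
  change Function.Bijective (fun r : X.presheaf.stalk x => r • e' 1)
  rw [h]
  exact e'.bijective

theorem isCoh_tensorMod (hF : Coh.IsCoh F) (hG : Coh.IsCoh G) :
    Coh.IsCoh (CohB1.tensorMod F G) := by
  have := hF.1
  have := hG.1
  exact ⟨(Groth.Agent.S2297.result F G).1, (Groth.Agent.S2297.result F G).2 hF.2 hG.2⟩

theorem isRef1_structureModule [IsLocallyNoetherian X] : IsRef1 (Coh.structureModule X) := by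
  have hc := Groth.Agent.Fdesc.StructMod.isCoh_structureModule X
  refine ⟨hc, ?_, (genInvertible_iff hc).mpr ⟨_, isGen_unitGerm _⟩⟩
  rw [isReflexive_iff_isReflexiveAt hc]
  intro x
  have h1 := Groth.Agent.Divis.StalkMod.finite_stalk hc x
  have h2 := free_of_isGen (isGen_unitGerm x)
  change Module.IsReflexive _ _
  infer_instance

theorem isRef1_dual [IsLocallyNoetherian X] (hF : Coh.IsCoh F) (h : GenInvertible F) :
    IsRef1 (dual F) := by
  obtain ⟨t, ht⟩ := (genInvertible_iff hF).mp h
  exact ⟨isCoh_dual hF, isReflexive_dual hF,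
    (genInvertible_iff (isCoh_dual hF)).mpr (exists_isGen_dual hF ht)⟩

theorem isRef1_ddual [IsLocallyNoetherian X] (hF : Coh.IsCoh F) (h : GenInvertible F) :
    IsRef1 (ddual F) :=
  isRef1_dual (isCoh_dual hF) (isRef1_dual hF h).2.2

theorem genInvertible_tensorMod [IsLocallyNoetherian X] (hF : Coh.IsCoh F) (hG : Coh.IsCoh G)
    (h : GenInvertible F) (h' : GenInvertible G) : GenInvertible (CohB1.tensorMod F G) := by
  obtain ⟨t, ht⟩ := (genInvertible_iff hF).mp h
  obtain ⟨t', ht'⟩ := (genInvertible_iff hG).mp h'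
  exact (genInvertible_iff (isCoh_tensorMod hF hG)).mpr ⟨_, isGen_stmul ht ht'⟩

theorem isRef1_refTensor [IsLocallyNoetherian X] (hF : IsRef1 F) (hG : IsRef1 G) :
    IsRef1 (RefPow.refTensor F G) :=
  isRef1_ddual (isCoh_tensorMod hF.1 hG.1) (genInvertible_tensorMod hF.1 hG.1 hF.2.2 hG.2.2)

theorem isRef1_refPow [IsLocallyNoetherian X] (hF : IsRef1 F) : ∀ n, IsRef1 (RefPow.refPow F n)
  | 0 => isRef1_structureModule
  | 1 => hF
  | n + 2 => isRef1_refTensor (isRef1_refPow hF (n + 1)) hF

/-! ### Codimension one -/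

/-- Stalks at points of codimension one of a normal scheme are discrete valuation rings. -/
theorem isDVR_of_dim_one [IsLocallyNoetherian X] (hX : Pi1.IsNormalScheme X) (x : X)
    (hx : ringKrullDim (X.presheaf.stalk x) = 1) :
    IsDiscreteValuationRing (X.presheaf.stalk x) := by
  have h1 := (hX x).2
  have hd : ∀ I : Ideal (X.presheaf.stalk x), I ≠ ⊥ → I.IsPrime → I.IsMaximal :=
    Ring.krullDimLE_one_iff_of_noZeroDivisors.mp (Ring.krullDimLE_iff.mpr (by simp [hx]))
  have hf : ¬ IsField (X.presheaf.stalk x) := fun h2 =>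
    zero_ne_one ((ringKrullDim_eq_zero_of_isField h2) ▸ hx)
  have key : IsIntegrallyClosed (X.presheaf.stalk x) ∧
      ∃! P : Ideal (X.presheaf.stalk x), P ≠ ⊥ ∧ P.IsPrime :=
    ⟨h1, ⟨IsLocalRing.maximalIdeal (X.presheaf.stalk x),
      ⟨fun h2 => hf (IsLocalRing.isField_iff_maximalIdeal_eq.mpr h2), inferInstance⟩,
      fun P hP => IsLocalRing.eq_maximalIdeal (hd P hP.1 hP.2)⟩⟩
  exact ((IsDiscreteValuationRing.TFAE (X.presheaf.stalk x) hf).out 3 0).mp key

theorem exists_isGen_of_pid (hF : Coh.IsCoh F) (hr : GenInvertible F) (x : X)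
    (hp : IsPrincipalIdealRing (X.presheaf.stalk x))
    (ht : Module.IsTorsionFree (X.presheaf.stalk x) (F.presheaf.stalk x)) : ∃ t, IsGen F x t := by
  obtain ⟨v, hv⟩ := exists_isGen_eta hr
  let i1 := Groth.Agent.CycB.CohStalk.specModule F (spec x)
  let i2 := K475.Codim1.ffModule F
  have i3 := K475.Codim1.isScalarTower_eta F x
  have i4 := K475.Codim1.isLocalizedModule_eta F hF.1 x
  have i6 := Groth.Agent.Divis.StalkMod.finite_stalk hF x
  exact exists_generator_pid (K := X.functionField)
    (Groth.Agent.CycB.CohStalk.specLin F (spec x)) v hv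

/-- Rank one torsion free coherent modules have a generator at points of codimension one. -/
theorem exists_isGen_of_dim_one [IsLocallyNoetherian X] (hX : Pi1.IsNormalScheme X)
    (hF : Coh.IsCoh F) (hr : GenInvertible F) (x : X)
    (hx : ringKrullDim (X.presheaf.stalk x) = 1)
    (ht : Module.IsTorsionFree (X.presheaf.stalk x) (F.presheaf.stalk x)) : ∃ t, IsGen F x t := by
  have := isDVR_of_dim_one hX x hx
  exact exists_isGen_of_pid hF hr x inferInstance ht

theorem exists_isGen_of_isRef1 [IsLocallyNoetherian X] (hX : Pi1.IsNormalScheme X)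
    (hF : IsRef1 F) (x : X) (hx : ringKrullDim (X.presheaf.stalk x) = 1) : ∃ t, IsGen F x t :=
  exists_isGen_of_dim_one hX hF.1 hF.2.2 x hx (isTorsionFree_of_isReflexive hF.1 hF.2.1 x)

end integral

/-! ### Orders of rational sections -/

open Groth.Agent.CycB.C1Basic Cyc in
/-- The order of a rational section with respect to a generator of the stalk, for a module which has generators of
the stalks at `x` and at `ξ`. -/
theorem secOrdAt_smul {ξ x : X} (h : ξ ⤳ x) {t : F.presheaf.stalk x} (ht : IsGen F x t)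
    (ht' : IsGen F ξ (F.presheaf.stalkSpecializes h t)) (φ : X.presheaf.stalk ξ)
    (hφ : X.residue ξ φ ≠ 0) :
    secOrdAt F ξ x h (φ • cl F ξ (F.presheaf.stalkSpecializes h t)) =
      ordAt x ξ h (X.residue ξ φ) := by
  have h1 : ∃ t : F.presheaf.stalk x, Submodule.span (X.presheaf.stalk x) {t} = ⊤ :=
    ⟨t, ht.span_eq_top⟩
  have ht₀ : IsGen F x h1.choose := isGen_of_span ht h1.choose_spec
  obtain ⟨a, ha⟩ := ht.exists_unit_smul ht₀
  change Classical.choose h1 = _ at ha
  rw [Units.smul_def] at ha
  have hsp : F.presheaf.stalkSpecializes h (Classical.choose h1) =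
      (X.presheaf.stalkSpecializes h a) • F.presheaf.stalkSpecializes h t := by
    rw [ha, stalkSpecializes_smul]
  have hu : IsUnit (X.presheaf.stalkSpecializes h a) := a.isUnit.map (X.presheaf.stalkSpecializes h).hom
  have ht₀' : IsGen F ξ (F.presheaf.stalkSpecializes h (Classical.choose h1)) := by
    refine isGen_of_span ht' ?_
    rw [hsp, Submodule.span_singleton_smul_eq hu]
    exact ht'.span_eq_top
  have h2 : ∃ φ' : X.presheaf.stalk ξ, φ • cl F ξ (F.presheaf.stalkSpecializes h t) =
      φ' • (Submodule.Quotient.mk ((F.presheaf.stalkSpecializes h) (Classical.choose h1)) :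
          secFibre F ξ) :=
    exists_smul_cl ht₀' _
  unfold secOrdAt
  rw [dif_pos h1, dif_pos h2]
  have h3 := h2.choose_spec
  set φ₀ := h2.choose
  have h4 : (Submodule.Quotient.mk ((F.presheaf.stalkSpecializes h) (Classical.choose h1)) :
          secFibre F ξ) = (X.presheaf.stalkSpecializes h a) •
            cl F ξ (F.presheaf.stalkSpecializes h t) := by
    change cl F ξ _ = _
    rw [hsp, map_smul]
  rw [h4, smul_smul, smul_cl_eq_iff ht', map_mul] at h3
  rw [h3] at hφ ⊢
  rw [ordAt_mul _ (left_ne_zero_of_mul hφ) (right_ne_zero_of_mul hφ)]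
  have h5 : ordAt x ξ h (X.residue ξ (X.presheaf.stalkSpecializes h a)) = 0 :=
    ordAt_specMap_of_isUnit h a.isUnit
  rw [h5, add_zero]

end K476.Ref1
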