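import Groth.Agent.SDiv.K476.HomSh4
import Groth.Agent.Dcoh.StalkRestrict

/-!
# The sheaf Hom and restriction along open immersions

For an open immersion `j : Y ⟶ X`:
* `conj j y : StalkHom F G (j y) ≃+ StalkHom (F.restrict j) (G.restrict j) y`
* `restrictHom j : (homSh F G).restrict j ≅ homSh (F.restrict j) (G.restrict j)`
* `restrictDual j : (dual F).restrict j ≅ dual (F.restrict j)`
* `restrictDDual j : (ddual F).restrict j ≅ ddual (F.restrict j)`, compatible with `bidualMap`
-/

set_option autoImplicit false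
universe u
open CategoryTheory CategoryTheory.Limits AlgebraicGeometry TopologicalSpace Opposite

noncomputable section

namespace K476.HomSh5

open RefHull Groth.Agent.CycB.StalkExact Groth.Agent.Ega1.QCohLoc K476.HomSh1 K476.HomSh2
open K476.HomSh4 Groth.Agent.Dcoh.StalkRestrict

variable {X Y : Scheme.{u}} (j : Y ⟶ X) [IsOpenImmersion j] {F G F' G' H : X.Modules}

/-- Conjugation of stalk maps by the identification of the stalks of a restriction. -/
def conj (F G : X.Modules) (y : Y) :
    StalkHom F G (j y) ≃+ StalkHom (F.restrict j) (G.restrict j) y where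
  toFun f :=
    { toFun := fun m => (ρ j G y).symm (f (ρ j F y m))
      map_add' := fun a b => by rw [map_add, map_add, map_add]
      map_smul' := fun r m => by
        rw [ρ_smul', map_smul, ρ_symm_smul, RingEquiv.apply_symm_apply, RingHom.id_apply] }
  invFun g :=
    { toFun := fun m => ρ j G y (g ((ρ j F y).symm m))
      map_add' := fun a b => by rw [map_add, map_add, map_add]
      map_smul' := fun r m => by
        rw [ρ_symm_smul, map_smul, ρ_stalkEquiv_smul, RingHom.id_apply] }
  left_inv f := LinearMap.ext fun m => by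
    change ρ j G y ((ρ j G y).symm (f (ρ j F y ((ρ j F y).symm m)))) = f m
    rw [AddEquiv.apply_symm_apply, AddEquiv.apply_symm_apply]
  right_inv g := LinearMap.ext fun m => by
    change (ρ j G y).symm (ρ j G y (g ((ρ j F y).symm (ρ j F y m)))) = g m
    rw [AddEquiv.symm_apply_apply, AddEquiv.symm_apply_apply]
  map_add' f g := LinearMap.ext fun m => by
    change (ρ j G y).symm (f (ρ j F y m) + g (ρ j F y m)) = _
    rw [map_add]
    rfl

theorem conj_apply (y : Y) (f : StalkHom F G (j y)) (m : (F.restrict j).presheaf.stalk y) :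
    conj j F G y f m = (ρ j G y).symm (f (ρ j F y m)) := rfl

theorem conj_symm_apply (y : Y) (g : StalkHom (F.restrict j) (G.restrict j) y)
    (m : F.presheaf.stalk (j y)) :
    (conj j F G y).symm g m = ρ j G y (g ((ρ j F y).symm m)) := rfl

theorem conj_smul (y : Y) (r : X.presheaf.stalk (j y)) (f : StalkHom F G (j y)) :
    conj j F G y (r • f) = stalkEquiv j y r • conj j F G y f :=
  LinearMap.ext fun m => by
    rw [conj_apply, LinearMap.smul_apply, ρ_symm_smul]
    rfl

theorem stalkEquiv_germ_appIso_inv {V : Y.Opens} (y : Y) (hy : y ∈ V) (r : Γ(Y, V)) :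
    stalkEquiv j y (X.presheaf.germ (j ''ᵁ V) (j y) ⟨y, hy, rfl⟩ ((j.appIso V).inv r)) =
      Y.presheaf.germ V y hy r := by
  rw [stalkEquiv_apply]
  have h1 := Scheme.Hom.germ_stalkMap_apply j (j ''ᵁ V) y ⟨y, hy, rfl⟩ ((j.appIso V).inv r)
  rw [h1]
  have h2 : j.app (j ''ᵁ V) ((j.appIso V).inv r) =
      Y.presheaf.map (eqToHom (j.preimage_image_eq V)).op r :=
    ConcreteCategory.congr_hom (j.appIso_inv_app V) r
  rw [h2]
  exact TopCat.Presheaf.germ_res_apply _ _ _ _ _

/-- The comparison on sections. -/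
def restrictHomSec (V : Y.Opens) (g : Γ(homSh F G, j ''ᵁ V)) :
    Γ(homSh (F.restrict j) (G.restrict j), V) :=
  ⟨fun y => conj j F G y.1 (g.1 ⟨j y.1, ⟨y.1, y.2, rfl⟩⟩), fun V' i m y => by
    have hV' : j ''ᵁ V' ≤ j ''ᵁ V := j.image_mono i.le
    obtain ⟨W, hW, k, n, h⟩ := isLocSect_of_mem g (j ''ᵁ V') (homOfLE hV')
      ((F.restrictAppIso j V').hom m) ⟨j y.1, ⟨y.1, y.2, rfl⟩⟩
    have hle : j ⁻¹ᵁ W ≤ V' := by
      intro z hz
      obtain ⟨z', hz', e⟩ := k.le hz
      rwa [← j.isOpenEmbedding.injective e]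
    have hle' : j ''ᵁ (j ⁻¹ᵁ W) ≤ W := j.image_preimage_le W
    refine ⟨j ⁻¹ᵁ W, hW, homOfLE hle, (G.restrictAppIso j (j ⁻¹ᵁ W)).inv (res G hle' n),
      fun z => ?_⟩
    have e1 := h ⟨j z.1, z.2⟩
    rw [conj_apply, ρ_germ]
    refine (congrArg (ρ j G z.1).symm e1).trans ?_
    rw [← germ_res G hle' (j z.1) ⟨z.1, z.2, rfl⟩ n]
    exact ρ_symm_germ j G z.1 (j ⁻¹ᵁ W) z.2 (res G hle' n)⟩

theorem restrictHomSec_apply (V : Y.Opens) (g : Γ(homSh F G, j ''ᵁ V)) (y : V) :
    (restrictHomSec j V g).1 y = conj j F G y.1 (g.1 ⟨j y.1, ⟨y.1, y.2, rfl⟩⟩) := rfl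

theorem restrictHomSec_add (V : Y.Opens) (g h : Γ(homSh F G, j ''ᵁ V)) :
    restrictHomSec j V (g + h) = restrictHomSec j V g + restrictHomSec j V h :=
  homSec_ext fun y => by
    rw [restrictHomSec_apply]
    exact map_add (conj j F G y.1) _ _

theorem restrictHomSec_smul (V : Y.Opens) (r : Γ(Y, V)) (g : Γ(homSh F G, j ''ᵁ V)) :
    restrictHomSec j V ((j.appIso V).inv r • g) = r • restrictHomSec j V g :=
  homSec_ext fun y => by
    rw [restrictHomSec_apply]
    change conj j F G y.1 (X.presheaf.germ (j ''ᵁ V) (j y.1) ⟨y.1, y.2, rfl⟩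
      ((j.appIso V).inv r) • g.1 ⟨j y.1, ⟨y.1, y.2, rfl⟩⟩) = _
    rw [conj_smul, stalkEquiv_germ_appIso_inv]
    rfl

/-- The comparison morphism for the sheaf Hom and restriction. -/
def restrictHomMap (F G : X.Modules) :
    (homSh F G).restrict j ⟶ homSh (F.restrict j) (G.restrict j) :=
  ⟨PresheafOfModules.homMk (M₁ := ((homSh F G).restrict j).val)
    (M₂ := (homSh (F.restrict j) (G.restrict j)).val)
    { app := fun V => AddCommGrpCat.ofHom
        (AddMonoidHom.mk' (fun (g : Γ((homSh F G).restrict j, V.unop)) =>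
          restrictHomSec j V.unop (((homSh F G).restrictAppIso j V.unop).hom g))
          (fun g h => restrictHomSec_add j V.unop _ _))
      naturality := by intros; rfl }
    (fun V r g => restrictHomSec_smul j V.unop r g)⟩

theorem restrictHomMap_app (V : Y.Opens) (g : Γ((homSh F G).restrict j, V)) :
    (restrictHomMap j F G).app V g =
      restrictHomSec j V (((homSh F G).restrictAppIso j V).hom g) := rfl

theorem restrictHomSec_injective (V : Y.Opens) :
    Function.Injective (restrictHomSec j (F := F) (G := G) V) := by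
  intro g h hgh
  refine homSec_ext (fun x => ?_)
  obtain ⟨x, y, hy, rfl⟩ := x
  exact (conj j F G y).injective (congrFun (congrArg Subtype.val hgh) ⟨y, hy⟩)

/-- Transport of a stalk map along `j y = x`. -/
def unconj (F G : X.Modules) {y : Y} {x : X} (e : j y = x)
    (g : StalkHom (F.restrict j) (G.restrict j) y) : StalkHom F G x :=
  e ▸ (conj j F G y).symm g

theorem unconj_rfl (y : Y) (g : StalkHom (F.restrict j) (G.restrict j) y) :
    unconj j F G rfl g = (conj j F G y).symm g := rfl

theorem exists_unconj_fam (V : Y.Opens) (h : ∀ y : V, StalkHom (F.restrict j) (G.restrict j) y.1) :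
    ∃ g : ∀ x : (j ''ᵁ V : X.Opens), StalkHom F G x.1,
      ∀ y : V, g ⟨j y.1, ⟨y.1, y.2, rfl⟩⟩ = (conj j F G y.1).symm (h y) := by
  refine ⟨fun x => unconj j F G x.2.choose_spec.2 (h ⟨x.2.choose, x.2.choose_spec.1⟩),
    fun y => ?_⟩
  have key : ∀ (y' : Y) (hy' : y' ∈ V) (e : j y' = j y.1),
      unconj j F G e (h ⟨y', hy'⟩) = (conj j F G y.1).symm (h y) := by
    intro y' hy' e
    have e' := j.isOpenEmbedding.injective e
    subst e'
    rfl
  exact key _ _ _

theorem restrictHomSec_surjective (V : Y.Opens) :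
    Function.Surjective (restrictHomSec j (F := F) (G := G) V) := by
  intro h
  obtain ⟨g, hg⟩ := exists_unconj_fam j V h.1
  have hloc : IsLocSect F G g := by
    rintro V' i m ⟨x, hx⟩
    obtain ⟨y, hy, rfl⟩ := i.le hx
    have hle : j ⁻¹ᵁ V' ≤ V := by
      intro z hz
      obtain ⟨z', hz', e⟩ := i.le hz
      rwa [← j.isOpenEmbedding.injective e]
    have hle' : j ''ᵁ (j ⁻¹ᵁ V') ≤ V' := j.image_preimage_le V'
    obtain ⟨W, hW, k, n, hn⟩ := isLocSect_of_mem h (j ⁻¹ᵁ V') (homOfLE hle)
      ((F.restrictAppIso j (j ⁻¹ᵁ V')).inv (res F hle' m)) ⟨y, hx⟩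
    have hWV' : j ''ᵁ W ≤ V' := (j.image_mono k.le).trans hle'
    refine ⟨j ''ᵁ W, ⟨y, hW, rfl⟩, homOfLE hWV', (G.restrictAppIso j W).hom n, ?_⟩
    rintro ⟨z, z', hz', rfl⟩
    have e1 := hn ⟨z', hz'⟩
    dsimp only at e1
    refine (LinearMap.congr_fun (hg ⟨z', hle (k.le hz')⟩) _).trans ?_
    rw [conj_symm_apply]
    have e2 : (ρ j F z').symm (F.presheaf.germ V' (j z') (hWV' ⟨z', hz', rfl⟩) m) =
        (F.restrict j).presheaf.germ (j ⁻¹ᵁ V') z' (k.le hz')
          ((F.restrictAppIso j (j ⁻¹ᵁ V')).inv (res F hle' m)) := by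
      rw [← germ_res F hle' (j z') ⟨z', k.le hz', rfl⟩ m]
      exact ρ_symm_germ j F z' (j ⁻¹ᵁ V') (k.le hz') (res F hle' m)
    refine (congrArg (fun t => ρ j G z' ((h.1 ⟨z', hle (k.le hz')⟩) t)) e2).trans ?_
    refine (congrArg (ρ j G z') e1).trans ?_
    exact ρ_germ j G z' W hz' n
  refine ⟨⟨g, hloc⟩, homSec_ext (fun y => ?_)⟩
  rw [restrictHomSec_apply]
  change conj j F G y.1 (g ⟨j y.1, ⟨y.1, y.2, rfl⟩⟩) = _
  rw [hg, AddEquiv.apply_symm_apply]

instance isIso_restrictHomMap (F G : X.Modules) : IsIso (restrictHomMap j F G) := by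
  rw [Scheme.Modules.Hom.isIso_iff_isIso_app]
  intro V
  rw [ConcreteCategory.isIso_iff_bijective]
  exact ⟨restrictHomSec_injective j V, restrictHomSec_surjective j V⟩

/-- The sheaf Hom commutes with restriction along open immersions. -/
def restrictHom (F G : X.Modules) :
    (homSh F G).restrict j ≅ homSh (F.restrict j) (G.restrict j) :=
  asIso (restrictHomMap j F G)

theorem evalStalk_restrictHomMap (y : Y) (θ : ((homSh F G).restrict j).presheaf.stalk y) :
    evalStalk (F.restrict j) (G.restrict j) y (stalkMapₗ (restrictHomMap j F G) y θ) =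
      conj j F G y (evalStalk F G (j y) (ρ j (homSh F G) y θ)) := by
  obtain ⟨V, hV, g, rfl⟩ := ((homSh F G).restrict j).presheaf.exists_germ_eq θ
  rw [stalkMapₗ_germ, evalStalk_germ, ρ_germ]
  exact congrArg (conj j F G y)
    (evalStalk_germ F G (U := j ''ᵁ V) (j y) ⟨y, hV, rfl⟩ g).symm

theorem ρ_stalkMapₗ (φ : F ⟶ G) (y : Y) (m : (F.restrict j).presheaf.stalk y) :
    ρ j G y (stalkMapₗ ((Scheme.Modules.restrictFunctor j).map φ) y m) =
      stalkMapₗ φ (j y) (ρ j F y m) := by
  rw [stalkMapₗ_eq, stalkMapₗ_eq]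
  exact ρ_naturality j φ y m

/-- Naturality of the comparison in the first variable. -/
theorem restrictHomMap_preComp (φ : F' ⟶ F) :
    (Scheme.Modules.restrictFunctor j).map (preComp φ G) ≫ restrictHomMap j F' G =
      restrictHomMap j F G ≫ preComp ((Scheme.Modules.restrictFunctor j).map φ)
        (G.restrict j) :=
  hom_ext_homSh (fun V g y => LinearMap.ext (fun m => by
    change (ρ j G y.1).symm (((g : Γ(homSh F G, j ''ᵁ V)).1 ⟨j y.1, ⟨y.1, y.2, rfl⟩⟩)
      (stalkMapₗ φ (j y.1) (ρ j F' y.1 m))) =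
      (ρ j G y.1).symm (((g : Γ(homSh F G, j ''ᵁ V)).1 ⟨j y.1, ⟨y.1, y.2, rfl⟩⟩)
      (ρ j F y.1 (stalkMapₗ ((Scheme.Modules.restrictFunctor j).map φ) y.1 m)))
    rw [ρ_stalkMapₗ]))

/-- Naturality of the comparison in the second variable. -/
theorem restrictHomMap_postComp (ψ : G ⟶ G') :
    (Scheme.Modules.restrictFunctor j).map (postComp F ψ) ≫ restrictHomMap j F G' =
      restrictHomMap j F G ≫ postComp (F.restrict j)
        ((Scheme.Modules.restrictFunctor j).map ψ) :=
  hom_ext_homSh (fun V g y => LinearMap.ext (fun m => by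
    change (ρ j G' y.1).symm (stalkMapₗ ψ (j y.1)
      (((g : Γ(homSh F G, j ''ᵁ V)).1 ⟨j y.1, ⟨y.1, y.2, rfl⟩⟩) (ρ j F y.1 m))) =
      stalkMapₗ ((Scheme.Modules.restrictFunctor j).map ψ) y.1 ((ρ j G y.1).symm
      (((g : Γ(homSh F G, j ''ᵁ V)).1 ⟨j y.1, ⟨y.1, y.2, rfl⟩⟩) (ρ j F y.1 m)))
    rw [AddEquiv.symm_apply_eq, ρ_stalkMapₗ, AddEquiv.apply_symm_apply]))

/-! ### Duals -/

/-- The dual commutes with restriction along open immersions. -/
def restrictDual (F : X.Modules) : (dual F).restrict j ≅ dual (F.restrict j) :=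
  restrictHom j F (Coh.structureModule X) ≪≫
    isoRight (F.restrict j) (Scheme.Modules.restrictUnitIso j)

/-- The double dual commutes with restriction along open immersions. -/
def restrictDDual (F : X.Modules) : (ddual F).restrict j ≅ ddual (F.restrict j) :=
  restrictDual j (dual F) ≪≫ dualIso (restrictDual j F)

theorem evalStalk_restrictDual (y : Y) (θ : ((dual F).restrict j).presheaf.stalk y) :
    evalStalk (F.restrict j) (Coh.structureModule Y) y (stalkMapₗ (restrictDual j F).hom y θ) =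
      (stalkMapₗ (Scheme.Modules.restrictUnitIso j).hom y).comp
        (conj j F (Coh.structureModule X) y
          (evalStalk F (Coh.structureModule X) (j y) (ρ j (dual F) y θ))) := by
  have h : (restrictDual j F).hom = restrictHomMap j F (Coh.structureModule X) ≫
    postComp (F.restrict j) (Scheme.Modules.restrictUnitIso j).hom := rfl
  rw [h, stalkMapₗ_comp, LinearMap.comp_apply, evalStalk_stalkMapₗ_postComp,
    evalStalk_restrictHomMap]

/-- Compatibility of the biduality map with restriction along open immersions. -/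
theorem bidualMap_restrict (F : X.Modules) :
    (Scheme.Modules.restrictFunctor j).map (bidualMap F) ≫ (restrictDDual j F).hom =
      bidualMap (F.restrict j) := by
  refine hom_ext_homSh (fun V m y => ?_)
  have h : (restrictDDual j F).hom = restrictHomMap j (dual F) (Coh.structureModule X) ≫
    postComp ((dual F).restrict j) (Scheme.Modules.restrictUnitIso j).hom ≫
    preComp (restrictDual j F).inv (Coh.structureModule Y) := by
    change (restrictHomMap j (dual F) (Coh.structureModule X) ≫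
      postComp ((dual F).restrict j) (Scheme.Modules.restrictUnitIso j).hom) ≫ _ = _
    rw [Category.assoc]
    rfl
  rw [h]
  refine LinearMap.ext (fun θ => ?_)
  rw [bidualMap_app_apply, bidualAt_apply]
  obtain ⟨θ', rfl⟩ := (bijective_stalkMapₗ_of_isIso (restrictDual j F).hom y.1).2 θ
  rw [evalStalk_restrictDual]
  change stalkMapₗ (Scheme.Modules.restrictUnitIso j).hom y.1
    ((ρ j (Coh.structureModule X) y.1).symm
      (bidualAt F (j y.1) (F.presheaf.germ (j ''ᵁ V) (j y.1) ⟨y.1, y.2, rfl⟩ m)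
        (ρ j (dual F) y.1 (stalkMapₗ (restrictDual j F).inv y.1
          (stalkMapₗ (restrictDual j F).hom y.1 θ'))))) = _
  have e1 : stalkMapₗ (restrictDual j F).inv y.1 (stalkMapₗ (restrictDual j F).hom y.1 θ') =
      θ' := by
    rw [← LinearMap.comp_apply, ← stalkMapₗ_comp, Iso.hom_inv_id, stalkMapₗ_id,
      LinearMap.id_apply]
  rw [e1, bidualAt_apply, LinearMap.comp_apply, conj_apply, ρ_germ]

theorem isReflexive_restrict (h : IsReflexive F) : IsReflexive (F.restrict j) := by
  have : IsIso (bidualMap F) := h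
  change IsIso (bidualMap (F.restrict j))
  rw [← bidualMap_restrict]
  infer_instance

end K476.HomSh5

end
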