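import Groth.Agent.SDiv.K476.HomSh3
import Groth.Agent.Fdesc.StructMod
import Mathlib.LinearAlgebra.Dual.Lemmas

/-!
# Duals of coherent modules, stalks of the biduality map

* `isCoh_dual`, `isCoh_ddual` (`X` locally Noetherian, `F` coherent)
* `dualStalkEquiv : (dual F)_x ≃ₗ Module.Dual O_{X,x} F_x`
* `bijective_stalkMapₗ_bidualMap_iff`: the stalk of the biduality map at `x` is bijective iff the stalk `F_x` is
  reflexive
* `isReflexive_iff_isReflexiveAt`: a coherent module on a locally Noetherian scheme is reflexive iff its stalks are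
* `isIso_of_stalk`, `bijective_stalkMapₗ_of_isIso`
-/

set_option autoImplicit false
universe u
open CategoryTheory CategoryTheory.Limits AlgebraicGeometry TopologicalSpace Opposite

noncomputable section

namespace K476.HomSh4

open RefHull Groth.Agent.CycB.StalkExact Groth.Agent.Ega1.QCohLoc K476.HomSh1 K476.HomSh2
open K476.HomSh3 Groth.Agent.Fdesc.QCohStalk Groth.Agent.Fdesc.StructMod

variable {X : Scheme.{u}} {F G F' G' H : X.Modules}

/-! ### Isomorphisms and stalks -/

theorem bijective_stalkMapₗ_of_isIso (φ : F ⟶ G) [IsIso φ] (x : X) :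
    Function.Bijective (stalkMapₗ φ x) := by
  rw [stalkMapₗ_eq]
  exact (stalkLinEquiv (asIso φ) x).bijective

/-- A morphism of O_X-modules with bijective stalk maps over `U` is bijective on sections over `U`. -/
theorem bijective_app_of_stalk (φ : F ⟶ G) {U : X.Opens}
    (h : ∀ x ∈ U, Function.Bijective (stalkMapₗ φ x)) : Function.Bijective (φ.app U) := by
  have hinj : ∀ V : X.Opens, V ≤ U → Function.Injective (φ.app V) := by
    intro V hV s t hst
    refine sec_ext F (fun x hx => (h x (hV hx)).1 ?_)
    rw [stalkMapₗ_germ, stalkMapₗ_germ, hst]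
  refine ⟨hinj U le_rfl, fun t => ?_⟩
  have key : ∀ x : U, ∃ (W : X.Opens) (_ : x.1 ∈ W) (hW : W ≤ U) (s : Γ(F, W)),
      φ.app W s = res G hW t := by
    intro x
    obtain ⟨m, hm⟩ := (h x.1 x.2).2 (G.presheaf.germ U x.1 x.2 t)
    obtain ⟨V, hV, s, rfl⟩ := F.presheaf.exists_germ_eq m
    rw [stalkMapₗ_germ] at hm
    obtain ⟨W, h1, h2, hxW, e⟩ := exists_res_eq G x.1 hV x.2 (φ.app V s) t hm
    exact ⟨W, hxW, h2, res F h1 s, by rw [res_app, e]⟩
  choose W hxW hWU s hs using key
  obtain ⟨s', hs'⟩ := exists_gluing F W U hWU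
    (fun x hx => Opens.mem_iSup.mpr ⟨⟨x, hx⟩, hxW ⟨x, hx⟩⟩) s (fun i j => by
      refine hinj _ (inf_le_left.trans (hWU i)) ?_
      rw [res_app, res_app, hs, hs, res_res, res_res])
  refine ⟨s', eq_of_locally_eq G W U hWU
    (fun x hx => Opens.mem_iSup.mpr ⟨⟨x, hx⟩, hxW ⟨x, hx⟩⟩) _ _ (fun i => ?_)⟩
  rw [← res_app, hs', hs]

theorem isIso_of_stalk (φ : F ⟶ G) (h : ∀ x, Function.Bijective (stalkMapₗ φ x)) : IsIso φ := by
  rw [Scheme.Modules.Hom.isIso_iff_isIso_app]
  intro U
  rw [ConcreteCategory.isIso_iff_bijective]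
  exact bijective_app_of_stalk φ (fun x _ => h x)

theorem isIso_iff_stalk (φ : F ⟶ G) : IsIso φ ↔ ∀ x, Function.Bijective (stalkMapₗ φ x) :=
  ⟨fun _ x => bijective_stalkMapₗ_of_isIso φ x, isIso_of_stalk φ⟩

/-! ### Duals of coherent modules -/

theorem isCoh_dual [IsLocallyNoetherian X] (hF : Coh.IsCoh F) : Coh.IsCoh (dual F) :=
  isCoh_homSh hF (isCoh_structureModule X)

theorem isCoh_ddual [IsLocallyNoetherian X] (hF : Coh.IsCoh F) : Coh.IsCoh (ddual F) :=
  isCoh_dual (isCoh_dual hF)

/-- Homs into the stalk of the module `O_X` are linear forms. -/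
def homStructEquiv (F : X.Modules) (x : X) :
    StalkHom F (Coh.structureModule X) x ≃ₗ[X.presheaf.stalk x]
      Module.Dual (X.presheaf.stalk x) (F.presheaf.stalk x) :=
  LinearEquiv.congrRight (stalkEquiv x).symm

theorem homStructEquiv_apply (x : X) (α : StalkHom F (Coh.structureModule X) x)
    (m : F.presheaf.stalk x) : homStructEquiv F x α m = (stalkEquiv x).symm (α m) := rfl

/-- The stalk of the dual of a module of finite presentation. -/
def dualStalkEquiv (F : X.Modules) (hF : CohB1.IsFP F) (x : X) :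
    (dual F).presheaf.stalk x ≃ₗ[X.presheaf.stalk x]
      Module.Dual (X.presheaf.stalk x) (F.presheaf.stalk x) :=
  (evalStalkEquiv F (Coh.structureModule X) hF x).trans (homStructEquiv F x)

theorem dualStalkEquiv_apply (hF : CohB1.IsFP F) (x : X) (θ : (dual F).presheaf.stalk x)
    (m : F.presheaf.stalk x) : dualStalkEquiv F hF x θ m =
      (stalkEquiv x).symm (evalStalk F (Coh.structureModule X) x θ m) := rfl

/-- The stalk map of the biduality map followed by evaluation. -/
theorem evalStalk_stalkMapₗ_bidualMap (F : X.Modules) (x : X) (v : F.presheaf.stalk x) :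
    evalStalk (dual F) (Coh.structureModule X) x (stalkMapₗ (bidualMap F) x v) =
      bidualAt F x v := by
  obtain ⟨V, hV, m, rfl⟩ := F.presheaf.exists_germ_eq v
  rw [stalkMapₗ_germ, evalStalk_germ, bidualMap_app_apply]

/-- For `F` and `dual F` of finite presentation, the double dual stalk map identifies with the
evaluation map of the stalk. -/
theorem dualStalk_comp (hF : CohB1.IsFP F) (x : X) (v : F.presheaf.stalk x)
    (θ : (dual F).presheaf.stalk x) :
    homStructEquiv (dual F) x (bidualAt F x v) θ =
      Module.Dual.eval (X.presheaf.stalk x) (F.presheaf.stalk x) v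
        (dualStalkEquiv F hF x θ) := by
  rw [homStructEquiv_apply, bidualAt_apply, Module.Dual.eval_apply, dualStalkEquiv_apply]

theorem bijective_bidualAt_iff (hF : CohB1.IsFP F) (x : X) :
    Function.Bijective (bidualAt F x) ↔
      Module.IsReflexive (X.presheaf.stalk x) (F.presheaf.stalk x) := by
  -- the transpose of the identification of the dual stalk
  let T : StalkHom (dual F) (Coh.structureModule X) x ≃ₗ[X.presheaf.stalk x]
      Module.Dual (X.presheaf.stalk x) (Module.Dual (X.presheaf.stalk x) (F.presheaf.stalk x)) :=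
    (homStructEquiv (dual F) x).trans (LinearEquiv.congrLeft (X.presheaf.stalk x)
      (X.presheaf.stalk x) (dualStalkEquiv F hF x))
  have h : ⇑(Module.Dual.eval (X.presheaf.stalk x) (F.presheaf.stalk x)) =
      T ∘ (bidualAt F x) := by
    funext v
    refine LinearMap.ext (fun ψ => ?_)
    obtain ⟨θ, rfl⟩ := (dualStalkEquiv F hF x).surjective ψ
    rw [← dualStalk_comp]
    change _ = homStructEquiv (dual F) x (bidualAt F x v)
      ((dualStalkEquiv F hF x).symm (dualStalkEquiv F hF x θ))
    rw [LinearEquiv.symm_apply_apply]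
  constructor
  · intro hb
    constructor
    rw [h]
    exact T.bijective.comp hb
  · intro hr
    have hb := Module.bijective_dual_eval (X.presheaf.stalk x) (F.presheaf.stalk x)
    rw [h] at hb
    exact (Function.Bijective.of_comp_iff' T.bijective _).mp hb

/-- The stalk at `x` of the biduality map is bijective iff the stalk of `F` at `x` is reflexive
(`F` and its dual of finite presentation). -/
theorem bijective_stalkMapₗ_bidualMap_iff (hF : CohB1.IsFP F) (hF' : CohB1.IsFP (dual F)) (x : X) :
    Function.Bijective (stalkMapₗ (bidualMap F) x) ↔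
      Module.IsReflexive (X.presheaf.stalk x) (F.presheaf.stalk x) := by
  rw [← bijective_bidualAt_iff hF x]
  have h : ⇑(bidualAt F x) = evalStalk (dual F) (Coh.structureModule X) x ∘
      (stalkMapₗ (bidualMap F) x) := by
    funext v
    rw [Function.comp_apply, evalStalk_stalkMapₗ_bidualMap]
  rw [h]
  exact (Function.Bijective.of_comp_iff' (evalStalk_bijective (dual F) _ hF' x) _).symm

/-- The same for coherent modules on locally Noetherian schemes. -/
theorem bijective_stalkMapₗ_bidualMap_iff_of_isCoh [IsLocallyNoetherian X] (hF : Coh.IsCoh F)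
    (x : X) : Function.Bijective (stalkMapₗ (bidualMap F) x) ↔
      Module.IsReflexive (X.presheaf.stalk x) (F.presheaf.stalk x) :=
  bijective_stalkMapₗ_bidualMap_iff (isFP_of_isCoh hF) (isFP_of_isCoh (isCoh_dual hF)) x

/-- A coherent module on a locally Noetherian scheme is reflexive iff its stalks are. -/
theorem isReflexive_iff_isReflexiveAt [IsLocallyNoetherian X] (hF : Coh.IsCoh F) :
    IsReflexive F ↔ ∀ x, IsReflexiveAt F x := by
  change IsIso (bidualMap F) ↔ _
  rw [isIso_iff_stalk]
  exact forall_congr' (fun x => bijective_stalkMapₗ_bidualMap_iff_of_isCoh hF x)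

/-- The stalk of the double dual. -/
def ddualStalkEquiv (F : X.Modules) (hF : CohB1.IsFP F) (hF' : CohB1.IsFP (dual F)) (x : X) :
    (ddual F).presheaf.stalk x ≃ₗ[X.presheaf.stalk x]
      Module.Dual (X.presheaf.stalk x)
        (Module.Dual (X.presheaf.stalk x) (F.presheaf.stalk x)) :=
  (dualStalkEquiv (dual F) hF' x).trans (LinearEquiv.congrLeft (X.presheaf.stalk x)
      (X.presheaf.stalk x) (dualStalkEquiv F hF x))

theorem ddualStalkEquiv_bidualMap (hF : CohB1.IsFP F) (hF' : CohB1.IsFP (dual F)) (x : X)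
    (v : F.presheaf.stalk x) : ddualStalkEquiv F hF hF' x (stalkMapₗ (bidualMap F) x v) =
      Module.Dual.eval (X.presheaf.stalk x) (F.presheaf.stalk x) v := by
  refine LinearMap.ext (fun ψ => ?_)
  obtain ⟨θ, rfl⟩ := (dualStalkEquiv F hF x).surjective ψ
  change dualStalkEquiv (dual F) hF' x (stalkMapₗ (bidualMap F) x v)
    ((dualStalkEquiv F hF x).symm (dualStalkEquiv F hF x θ)) = _
  rw [LinearEquiv.symm_apply_apply, dualStalkEquiv_apply, evalStalk_stalkMapₗ_bidualMap,
    ← dualStalk_comp hF]
  rfl

/-- The biduality map is an isomorphism on stalks at points where the stalk is free. -/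
theorem bijective_stalkMapₗ_bidualMap_of_free [IsLocallyNoetherian X] (hF : Coh.IsCoh F) (x : X)
    (h : Module.Free (X.presheaf.stalk x) (F.presheaf.stalk x)) :
    Function.Bijective (stalkMapₗ (bidualMap F) x) := by
  rw [bijective_stalkMapₗ_bidualMap_iff_of_isCoh hF]
  have := Groth.Agent.Divis.StalkMod.finite_stalk hF x
  infer_instance

end K476.HomSh4

end
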