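import Groth.Agent.SDiv.K476.Ref1
import Groth.Agent.Divis.ReflexAlg
import Groth.Agent.CurvesA.DimOne
import Groth.Agent.S2821

/-!
# Rank one reflexive modules on regular schemes of dimension at most two; tensor powers of generators
-/

set_option autoImplicit false
set_option backward.isDefEq.respectTransparency false

universe u

noncomputable section

open CategoryTheory CategoryTheory.Limits AlgebraicGeometry TopologicalSpace Opposite
open RefHull K475.GenStalk K476.TensStalk Groth.Agent.CycB.ModStalk K476.HomSh4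

namespace K476.RegRef

variable {X : Scheme.{u}} {F M : X.Modules}

/-- Regular schemes are normal. -/
theorem isNormalScheme_of_regular (hreg : ∀ x : X, IsRegularLocalRing (X.presheaf.stalk x)) :
    Pi1.IsNormalScheme X := fun x => by
  have := hreg x
  obtain ⟨h1, h2⟩ := Groth.Agent.S2821.result (X.presheaf.stalk x)
  exact ⟨h1, inferInstance⟩

/-- A module with a generator at each stalk is reflexive. -/
theorem isReflexive_of_isGen [IsLocallyNoetherian X] (hF : Coh.IsCoh F)
    (h : ∀ x : X, ∃ t, IsGen F x t) : IsReflexive F := by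
  rw [isReflexive_iff_isReflexiveAt hF]
  intro x
  obtain ⟨t, ht⟩ := h x
  have h1 := K476.Ref1.free_of_isGen ht
  have h2 := Groth.Agent.Divis.StalkMod.finite_stalk hF x
  change Module.IsReflexive _ _
  infer_instance

/-- A free stalk of a generically invertible module has a generator. -/
theorem exists_gen_of_free [IsIntegral X] (hF : Coh.IsCoh F) (hr : GenInvertible F) (x : X)
    (hfree : Module.Free (X.presheaf.stalk x) (F.presheaf.stalk x)) : ∃ t, IsGen F x t := by
  obtain ⟨v, hv⟩ := K476.Ref1.exists_isGen_eta hr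
  let i1 := Groth.Agent.CycB.CohStalk.specModule F (spec x)
  let i2 := K475.Codim1.ffModule F
  have i3 := K475.Codim1.isScalarTower_eta F x
  have i4 := K475.Codim1.isLocalizedModule_eta F hF.1 x
  have i5 := Groth.Agent.Divis.StalkMod.finite_stalk hF x
  let b := Module.Free.chooseBasis (X.presheaf.stalk x) (F.presheaf.stalk x)
  let b' := b.ofIsLocalizedModule X.functionField (nonZeroDivisors (X.presheaf.stalk x))
    (Groth.Agent.CycB.CohStalk.specLin F (spec x))
  let e : X.functionField ≃ₗ[X.functionField] F.presheaf.stalk (η X) :=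
    LinearEquiv.ofBijective (LinearMap.toSpanSingleton X.functionField _ v) hv
  have h1 : Module.finrank X.functionField (F.presheaf.stalk (η X)) = 1 := by
    rw [← e.finrank_eq, Module.finrank_self]
  rw [Module.finrank_eq_card_basis b'] at h1
  obtain ⟨i0, hi0⟩ := Fintype.card_eq_one_iff.mp h1
  let _ : Unique (Module.Free.ChooseBasisIndex (X.presheaf.stalk x) (F.presheaf.stalk x)) :=
    ⟨⟨i0⟩, hi0⟩
  refine ⟨b i0, ?_⟩
  have h2 : (fun a : X.presheaf.stalk x => a • b i0) =
      (b.equivFun.trans (LinearEquiv.funUnique _ _ _)).symm := by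
    funext a
    rw [LinearEquiv.eq_symm_apply]
    have h3 : (default : Module.Free.ChooseBasisIndex (X.presheaf.stalk x)
      (F.presheaf.stalk x)) = i0 := hi0 _
    simp [b, h3]
  change Function.Bijective (fun a : X.presheaf.stalk x => a • b i0)
  rw [h2]
  exact (b.equivFun.trans (LinearEquiv.funUnique _ _ _)).symm.bijective

/-- Rank one coherent reflexive modules on a regular scheme of dimension at most two have generators
everywhere. -/
theorem exists_gen_of_isRef1 [IsIntegral X] [IsLocallyNoetherian X]
    (hreg : ∀ x : X, IsRegularLocalRing (X.presheaf.stalk x)) (hdim : topologicalKrullDim X ≤ 2)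
    (hF : IsRef1 F) (x : X) : ∃ t, IsGen F x t := by
  refine exists_gen_of_free hF.1 hF.2.2 x ?_
  have h1 := hreg x
  have h2 := Groth.Agent.Divis.StalkMod.finite_stalk hF.1 x
  have h3 : Module.IsReflexive (X.presheaf.stalk x) (F.presheaf.stalk x) :=
    (isReflexive_iff_isReflexiveAt hF.1).mp hF.2.1 x
  exact Groth.Agent.Divis.ReflexAlg.free_of_isReflexive
    ((Groth.Agent.CurvesA.DimOne.ringKrullDim_stalk_le X x).trans hdim) _

theorem isInvertible_of_isGen [IsLocallyNoetherian X] (hF : Coh.IsCoh F)
    (h : ∀ x : X, ∃ t, IsGen F x t) : PicF.IsInvertible F := by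
  refine Groth.Agent.CurvesC.Gen.isInvertible_of_isGen (fun x => ?_)
  obtain ⟨t, ht⟩ := h x
  obtain ⟨W, hW, e, he⟩ := K476.Ref1.exists_isGenOn hF ht
  exact ⟨W, hW, e, he⟩

/-! ### Tensor powers -/

/-- The tensor power of a stalk element. -/
def tpow {x : X} (e : M.presheaf.stalk x) : (n : ℕ) → (CohB1.tensorPow M n).presheaf.stalk x
  | 0 => unitGerm x
  | n + 1 => stmul (tpow e n) e

theorem tpow_smul {x : X} (a : X.presheaf.stalk x) (e : M.presheaf.stalk x) :
    ∀ n, tpow (a • e) n = a ^ n • tpow e n
  | 0 => by rw [tpow, tpow, pow_zero, one_smul]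
  | n + 1 => by
    rw [tpow, tpow, tpow_smul a e n, smul_stmul, stmul_smul, smul_smul, ← pow_succ]

theorem stalkSpecializes_tpow {x y : X} (h : y ⤳ x) (e : M.presheaf.stalk x) :
    ∀ n, (CohB1.tensorPow M n).presheaf.stalkSpecializes h (tpow e n) =
      tpow (M.presheaf.stalkSpecializes h e) n
  | 0 => stalkSpecializes_unitGerm h
  | n + 1 => by
    rw [tpow, tpow, ← stalkSpecializes_tpow h e n]
    exact stalkSpecializes_stmul h _ _

theorem isGen_tpow {x : X} {e : M.presheaf.stalk x} (he : IsGen M x e) :
    ∀ n, IsGen (CohB1.tensorPow M n) x (tpow e n)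
  | 0 => isGen_unitGerm x
  | n + 1 => isGen_stmul (isGen_tpow he n) he

theorem isCoh_tensorPow [IsIntegral X] [IsLocallyNoetherian X] (hM : Coh.IsCoh M) :
    ∀ n, Coh.IsCoh (CohB1.tensorPow M n)
  | 0 => Groth.Agent.Fdesc.StructMod.isCoh_structureModule X
  | n + 1 => K476.Ref1.isCoh_tensorMod (isCoh_tensorPow hM n) hM

end K476.RegRef
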