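import Groth.Agent.SDiv.K476.HomSh2
import Groth.Agent.Desc.FPSections
import Groth.Agent.PerfC.FPSections
import Groth.Agent.Divis.StalkMod
import Mathlib.Algebra.Module.FinitePresentation

/-!
# The sheaf Hom `RefHull.homSh`: stalks, quasi-coherence, coherence

* `exists_extend`: a stalk map out of a module with finitely presented sections extends to a section
* `evalStalk_bijective` (`F` of finite presentation), `evalStalkEquiv`
* `evalStalk_bijective_of_isCoh` (`X` locally Noetherian, `F` coherent)
* `isQCoh_homSh` (`F` of finite presentation, `G` quasi-coherent)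
* `isCoh_homSh` (`X` locally Noetherian, `F`, `G` coherent), `isCoh_dual`, `isCoh_ddual`
-/

set_option autoImplicit false
universe u
open CategoryTheory CategoryTheory.Limits AlgebraicGeometry TopologicalSpace Opposite

noncomputable section

namespace K476.HomSh3

open RefHull Groth.Agent.CycB.StalkExact Groth.Agent.Ega1.QCohLoc K476.HomSh1 K476.HomSh2
open Groth.Agent.Fdesc.QCohStalk Groth.Agent.Dcoh.StalkRestrict

variable {X : Scheme.{u}} {F G F' G' H : X.Modules}

/-- Finitely many neighbourhoods of a point have a common refinement. -/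
theorem exists_common {ι : Type*} [Finite ι] (W : ι → X.Opens) (V : X.Opens) {x : X}
    (hV : x ∈ V) (h : ∀ i, x ∈ W i) : ∃ Z : X.Opens, x ∈ Z ∧ Z ≤ V ∧ ∀ i, Z ≤ W i := by
  cases nonempty_fintype ι
  refine ⟨V ⊓ Finset.univ.inf W, ⟨hV, ?_⟩, inf_le_left,
    fun i => inf_le_right.trans (Finset.inf_le (Finset.mem_univ i))⟩
  have h1 : ∀ S : Finset ι, x ∈ S.inf W := by
    intro S
    induction S using Finset.cons_induction with
    | empty => trivial
    | cons a S ha ih => rw [Finset.inf_cons]; exact ⟨h a, ih⟩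
  exact h1 _

/-- `F` quasi-coherent with finitely presented sections over an affine neighbourhood of `x`: every
map of stalks `F_x → G_x` extends to a section of the sheaf Hom near `x`. -/
theorem exists_extend {U : X.Opens} (hU : IsAffineOpen U) (hF : Coh.IsQCoh F)
    (hfp : Module.FinitePresentation Γ(X, U) Γ(F, U)) {x : X} (hx : x ∈ U) (α : StalkHom F G x) :
    ∃ (W : X.Opens) (_ : W ≤ U) (hxW : x ∈ W) (g : Γ(homSh F G, W)), g.1 ⟨x, hxW⟩ = α := by
  obtain ⟨s, hs, hK⟩ := hfp.out
  obtain ⟨R, hR⟩ := hK
  -- lifts of the images of the generators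
  have h1 : ∀ i : s, ∃ (W : X.Opens) (hW : x ∈ W) (t : Γ(G, W)),
      G.presheaf.germ W x hW t = α (F.presheaf.germ U x hx i.1) := fun i =>
    G.presheaf.exists_germ_eq _
  choose W₁ hW₁ t ht using h1
  obtain ⟨Z, hxZ, hZU, hZ⟩ := exists_common W₁ U hx hW₁
  let mZ : Module Γ(X, U) Γ(G, Z) := resModule G hZU
  let t' : s → Γ(G, Z) := fun i => res G (hZ i) (t i)
  have ht' : ∀ i, G.presheaf.germ Z x hxZ (t' i) = α (F.presheaf.germ U x hx i.1) := fun i => by
    rw [germ_res, ht]
  -- the relations hold near `x`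
  have hlin : ∀ c : s →₀ Γ(X, U), G.presheaf.germ Z x hxZ
      (Finsupp.linearCombination Γ(X, U) t' c) =
      α (F.presheaf.germ U x hx (Finsupp.linearCombination Γ(X, U)
        (Subtype.val : s → Γ(F, U)) c)) := by
    intro c
    rw [Finsupp.linearCombination_apply, Finsupp.linearCombination_apply, Finsupp.sum,
      Finsupp.sum, map_sum, map_sum, map_sum]
    refine Finset.sum_congr rfl (fun i _ => ?_)
    have e1 : c i • t' i = resO hZU (c i) • t' i := rfl
    rw [e1, Mero.germ_smul, germ_resO, Mero.germ_smul, map_smul, ht']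
  have h2 : ∀ r : R, ∃ (V : X.Opens) (hV : V ≤ Z), x ∈ V ∧
      res G hV (Finsupp.linearCombination Γ(X, U) t' r.1) = 0 := by
    intro r
    have hr : r.1 ∈ LinearMap.ker (Finsupp.linearCombination Γ(X, U)
        (Subtype.val : s → Γ(F, U))) := by
      rw [← hR]
      exact Submodule.subset_span r.2
    obtain ⟨V, h3, h4, hxV, e⟩ := exists_res_eq G x hxZ hxZ
      (Finsupp.linearCombination Γ(X, U) t' r.1) 0 (by
        rw [hlin, LinearMap.mem_ker.mp hr, map_zero, map_zero, map_zero])
    exact ⟨V, h3, hxV, by rw [e, map_zero]⟩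
  choose V hV hxV hz using h2
  obtain ⟨W, hxW, hWZ, hWV⟩ := exists_common V Z hxZ hxV
  let mW : Module Γ(X, U) Γ(G, W) := resModule G (hWZ.trans hZU)
  let Φ : (s →₀ Γ(X, U)) →ₗ[Γ(X, U)] Γ(G, W) :=
    Finsupp.linearCombination Γ(X, U) (fun i => res G hWZ (t' i))
  have hΦ : ∀ c, Φ c = res G hWZ (Finsupp.linearCombination Γ(X, U) t' c) := by
    intro c
    change Finsupp.linearCombination Γ(X, U) (fun i => res G hWZ (t' i)) c = _
    rw [Finsupp.linearCombination_apply, Finsupp.linearCombination_apply, Finsupp.sum,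
      Finsupp.sum, map_sum]
    refine Finset.sum_congr rfl (fun i _ => ?_)
    have e1 : c i • t' i = resO hZU (c i) • t' i := rfl
    have e2 : c i • res G hWZ (t' i) = resO (hWZ.trans hZU) (c i) • res G hWZ (t' i) := rfl
    rw [e1, e2, res_smul, resO_resO]
  let π : (s →₀ Γ(X, U)) →ₗ[Γ(X, U)] Γ(F, U) :=
    Finsupp.linearCombination Γ(X, U) (Subtype.val : s → Γ(F, U))
  have hπ : Function.Surjective π := by
    rw [← LinearMap.range_eq_top, Finsupp.range_linearCombination, Subtype.range_val]
    exact hs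
  have hker : LinearMap.ker π ≤ LinearMap.ker Φ := by
    rw [← hR, Submodule.span_le]
    intro r hr
    rw [SetLike.mem_coe, LinearMap.mem_ker, hΦ]
    have := congrArg (res G (hWV ⟨r, hr⟩)) (hz ⟨r, hr⟩)
    rw [map_zero, res_res] at this
    exact this
  let ψ : Γ(F, U) →ₗ[Γ(X, U)] Γ(G, W) :=
    (Submodule.liftQ _ Φ hker) ∘ₗ (π.quotKerEquivOfSurjective hπ).symm.toLinearMap
  have hψ : ∀ c, ψ (π c) = Φ c := by
    intro c
    have e1 : (π.quotKerEquivOfSurjective hπ).symm (π c) = Submodule.Quotient.mk c := by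
      rw [LinearEquiv.symm_apply_eq]
      rfl
    change (Submodule.liftQ _ Φ hker) ((π.quotKerEquivOfSurjective hπ).symm (π c)) = _
    rw [e1]
    rfl
  let ψ' : Γ(F, U) →ₛₗ[(resO (hWZ.trans hZU) : Γ(X, U) →+* Γ(X, W))] Γ(G, W) :=
    { toFun := ψ, map_add' := map_add ψ, map_smul' := fun a m => map_smul ψ a m }
  refine ⟨W, hWZ.trans hZU, hxW, affSec hU hF (hWZ.trans hZU) ψ', ?_⟩
  refine stalkHom_ext hU hF hx (fun m => ?_)
  obtain ⟨c, rfl⟩ := hπ m
  have e3 := affSec_germ hU hF (hWZ.trans hZU) ψ' ⟨x, hxW⟩ (π c)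
  refine e3.trans ?_
  change G.presheaf.germ W x hxW (ψ (π c)) = _
  rw [hψ, hΦ, germ_res, hlin]

/-- For `F` of finite presentation, the stalk of the sheaf Hom is the Hom of the stalks. -/
theorem evalStalk_surjective (F G : X.Modules) (hF : CohB1.IsFP F) (x : X) :
    Function.Surjective (evalStalk F G x) := by
  intro α
  have hq := Groth.Agent.PerfC.FPSections.isQCoh_of_isFP hF
  obtain ⟨U, hU, hx, -⟩ := exists_isAffineOpen_mem_and_subset (x := x) (U := ⊤) trivial
  have hfp := (Groth.Agent.Desc.FPSections.isFP_iff_sections hq).mp hF U hU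
  obtain ⟨W, _, hxW, g, hg⟩ := exists_extend (G := G) hU hq hfp hx α
  exact ⟨(homSh F G).presheaf.germ W x hxW g, by rw [evalStalk_germ, hg]⟩

theorem isFT_of_isFP {F : X.Modules} (hF : CohB1.IsFP F) : CohB1.IsFT F := by
  have : SheafOfModules.IsFinitePresentation (R := X.ringCatSheaf) F := hF
  exact inferInstanceAs (SheafOfModules.IsFiniteType (R := X.ringCatSheaf) F)

theorem evalStalk_bijective (F G : X.Modules) (hF : CohB1.IsFP F) (x : X) :
    Function.Bijective (evalStalk F G x) :=
  ⟨evalStalk_injective F G (isFT_of_isFP hF) x, evalStalk_surjective F G hF x⟩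

/-- The stalk of the sheaf Hom, for `F` of finite presentation. -/
def evalStalkEquiv (F G : X.Modules) (hF : CohB1.IsFP F) (x : X) :
    (homSh F G).presheaf.stalk x ≃ₗ[X.presheaf.stalk x] StalkHom F G x :=
  LinearEquiv.ofBijective (evalStalk F G x) (evalStalk_bijective F G hF x)

theorem evalStalkEquiv_apply (hF : CohB1.IsFP F) (x : X) (θ : (homSh F G).presheaf.stalk x) :
    evalStalkEquiv F G hF x θ = evalStalk F G x θ := rfl

/-- Coherent modules on locally Noetherian schemes are of finite presentation. -/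
theorem isFP_of_isCoh [IsLocallyNoetherian X] (hF : Coh.IsCoh F) : CohB1.IsFP F := by
  refine (Groth.Agent.Desc.FPSections.isFP_iff_sections hF.1).mpr (fun V hV => ?_)
  have : IsNoetherianRing Γ(X, V) := IsLocallyNoetherian.component_noetherian ⟨V, hV⟩
  have := Groth.Agent.Divis.StalkMod.finite_sections hF hV
  exact Module.finitePresentation_of_finite _ _

theorem isCoh_of_isFP (hF : CohB1.IsFP F) : Coh.IsCoh F :=
  ⟨Groth.Agent.PerfC.FPSections.isQCoh_of_isFP hF, isFT_of_isFP hF⟩

theorem evalStalk_bijective_of_isCoh [IsLocallyNoetherian X] (F G : X.Modules)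
    (hF : Coh.IsCoh F) (x : X) : Function.Bijective (evalStalk F G x) :=
  evalStalk_bijective F G (isFP_of_isCoh hF) x

/-! ### Quasi-coherence -/

/-- Sections of the sheaf Hom localize well. -/
theorem isLocAt_homSh {U : X.Opens} (hU : IsAffineOpen U) (hF : Coh.IsQCoh F)
    (hG : Coh.IsQCoh G) (hfp : Module.FinitePresentation Γ(X, U) Γ(F, U)) (f : Γ(X, U)) :
    IsLocAt (homSh F G) U f := by
  have hle := X.basicOpen_le f
  constructor
  · intro g
    let := resModule G hle
    have hloc := isLocalizedModule_res G hU hG f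
    let ψ : Γ(F, U) →ₗ[Γ(X, U)] Γ(G, X.basicOpen f) :=
      { toFun := affEquiv hU hF hle g
        map_add' := map_add _
        map_smul' := fun a m => (affEquiv hU hF hle g).map_smulₛₗ a m }
    obtain ⟨h, ⟨_, n, rfl⟩, hh⟩ := Module.FinitePresentation.exists_lift_of_isLocalizedModule
      (Submonoid.powers f) (resₗ G hle) ψ
    refine ⟨n, (affEquivSelf hU hF).symm h, ?_⟩
    refine affSec_unique hU hF hle (fun m => ?_)
    have e1 : res G hle (h m) = resO hle (f ^ n) • secMap g le_rfl (res F hle m) :=
      LinearMap.congr_fun hh m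
    have e2 : secMap (res (homSh F G) hle ((affEquivSelf hU hF).symm h)) le_rfl (res F hle m) =
        res G hle (h m) := by
      rw [secMap_res_left, secMap_res _ le_rfl hle, secMap_affEquivSelf_symm]
    rw [e2, e1, secMap_smul, map_pow]
  · intro g hg
    let := resModule G hle
    have hloc := isLocalizedModule_res G hU hG f
    have h0 : ∀ m : Γ(F, U), res G hle (secMap g le_rfl m) = 0 := by
      intro m
      rw [← secMap_res g le_rfl hle, ← secMap_res_left g hle le_rfl, hg]
      exact LinearMap.congr_fun (show secMap (0 : Γ(homSh F G, X.basicOpen f)) le_rfl = 0 from by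
        ext m
        exact sec_ext G (fun x hx => by
          rw [germ_secMap, LinearMap.zero_apply, map_zero]; rfl)) _
    obtain ⟨⟨_, n, rfl⟩, hs⟩ := Module.Finite.exists_smul_of_comp_eq_of_isLocalizedModule
      (Submonoid.powers f) (resₗ G hle) (secMap g le_rfl) 0 (by
        ext m
        rw [LinearMap.comp_zero]
        exact h0 m)
    refine ⟨n, (affEquivSelf hU hF).injective (LinearMap.ext (fun m => ?_))⟩
    rw [map_smul, map_zero]
    have := LinearMap.congr_fun hs m
    rw [smul_zero] at this
    exact this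

/-- The sheaf Hom is quasi-coherent for `F` of finite presentation and `G` quasi-coherent. -/
theorem isQCoh_homSh (hF : CohB1.IsFP F) (hG : Coh.IsQCoh G) : Coh.IsQCoh (homSh F G) := by
  have hq := Groth.Agent.PerfC.FPSections.isQCoh_of_isFP hF
  refine isQCoh_of_isLocOnAffines _ (fun U hU f => isLocAt_homSh hU hq hG ?_ f)
  exact (Groth.Agent.Desc.FPSections.isFP_iff_sections hq).mp hF U hU

/-- Sections of the sheaf Hom of coherent modules on a locally Noetherian scheme are finite. -/
theorem finite_sections_homSh [IsLocallyNoetherian X] (hF : Coh.IsCoh F) (hG : Coh.IsCoh G)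
    {U : X.Opens} (hU : IsAffineOpen U) : Module.Finite Γ(X, U) Γ(homSh F G, U) := by
  have : IsNoetherianRing Γ(X, U) := IsLocallyNoetherian.component_noetherian ⟨U, hU⟩
  have h1 := Groth.Agent.Divis.StalkMod.finite_sections hF hU
  have h2 := Groth.Agent.Divis.StalkMod.finite_sections hG hU
  exact Module.Finite.equiv (affEquivSelf hU hF.1).symm

/-- The sheaf Hom of coherent modules on a locally Noetherian scheme is coherent. -/
theorem isCoh_homSh [IsLocallyNoetherian X] (hF : Coh.IsCoh F) (hG : Coh.IsCoh G) :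
    Coh.IsCoh (homSh F G) := by
  have hq := isQCoh_homSh (isFP_of_isCoh hF) hG.1
  refine isCoh_of_isFP ((Groth.Agent.Desc.FPSections.isFP_iff_sections hq).mpr (fun V hV => ?_))
  have : IsNoetherianRing Γ(X, V) := IsLocallyNoetherian.component_noetherian ⟨V, hV⟩
  have := finite_sections_homSh hF hG hV
  exact Module.finitePresentation_of_finite _ _

end K476.HomSh3

end
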