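import Groth.Agent.SDiv.K476.Ref1
import Groth.Agent.Ega1.IdealGen
import Groth.Agent.CohqA.IdealMod
import Groth.Agent.Sga67.CohBasic

/-!
# The canonical section of `O_X(D)` on stalks

For an effective Cartier ideal `𝓓`: `sGerm 𝓓 x ∈ (dual (idealMod 𝓓))_x`, the germ of the inclusion of the
ideal; `exists_local`: `sGerm 𝓓 x = f_x • δ` with `δ` a generator and `f` a local equation.
-/

set_option autoImplicit false
set_option backward.isDefEq.respectTransparency false

universe u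

noncomputable section

open CategoryTheory CategoryTheory.Limits AlgebraicGeometry TopologicalSpace Opposite
open RefHull K476.TensStalk Groth.Agent.CycB.ModStalk K476.HomSh1 K476.HomSh3 K476.HomSh4

namespace K476.DivSec

variable {X : Scheme.{u}}

/-- The germ of the inclusion `𝓓 ⊆ O_X` in the dual of `𝓓`. -/
def sGerm (𝓓 : X.IdealSheafData) (x : X) : (dual (ClSub.idealMod 𝓓)).presheaf.stalk x :=
  (dual (ClSub.idealMod 𝓓)).presheaf.germ ⊤ x trivial (ofHom (ClSub.idealModι 𝓓) ⊤)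

theorem stalkSpecializes_sGerm (𝓓 : X.IdealSheafData) {x y : X} (h : y ⤳ x) :
    (dual (ClSub.idealMod 𝓓)).presheaf.stalkSpecializes h (sGerm 𝓓 x) = sGerm 𝓓 y :=
  TopCat.Presheaf.germ_stalkSpecializes_apply _ _ h _

theorem evalStalk_sGerm (𝓓 : X.IdealSheafData) (x : X) :
    evalStalk (ClSub.idealMod 𝓓) (Coh.structureModule X) x (sGerm 𝓓 x) =
      stalkMapₗ (ClSub.idealModι 𝓓) x := by
  rw [sGerm, evalStalk_germ]
  rfl

/-- A generator of the dual, dual to a given generator. -/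
theorem exists_dual_gen [IsLocallyNoetherian X] {F : X.Modules} (hF : Coh.IsCoh F) {x : X}
    {t : F.presheaf.stalk x} (ht : IsGen F x t) : ∃ δ, IsGen (dual F) x δ ∧
      evalStalk F (Coh.structureModule X) x δ t = unitGerm x := by
  let e : X.presheaf.stalk x ≃ₗ[X.presheaf.stalk x] F.presheaf.stalk x :=
    LinearEquiv.ofBijective (LinearMap.toSpanSingleton (X.presheaf.stalk x) _ t) ht
  have he : e 1 = t := by
    change (LinearMap.toSpanSingleton (X.presheaf.stalk x) _ t) 1 = t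
    rw [LinearMap.toSpanSingleton_apply, one_smul]
  let e' : X.presheaf.stalk x ≃ₗ[X.presheaf.stalk x] (dual F).presheaf.stalk x :=
    ((LinearMap.ringLmapEquivSelf (X.presheaf.stalk x) (X.presheaf.stalk x)
      (X.presheaf.stalk x)).symm.trans e.symm.dualMap).trans
      (dualStalkEquiv F (isFP_of_isCoh hF) x).symm
  refine ⟨e' 1, ?_, ?_⟩
  · have h : (fun r : X.presheaf.stalk x => r • e' 1) = e' := by
      funext r
      rw [← map_smul, smul_eq_mul, mul_one]
    change Function.Bijective (fun r : X.presheaf.stalk x => r • e' 1)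
    rw [h]
    exact e'.bijective
  · have h1 : dualStalkEquiv F (isFP_of_isCoh hF) x (e' 1) t = 1 := by
      have h2 : dualStalkEquiv F (isFP_of_isCoh hF) x (e' 1) =
          e.symm.dualMap ((LinearMap.ringLmapEquivSelf (X.presheaf.stalk x) (X.presheaf.stalk x)
            (X.presheaf.stalk x)).symm 1) :=
        (dualStalkEquiv F (isFP_of_isCoh hF) x).apply_symm_apply _
      rw [h2, ← he]
      simp [LinearEquiv.dualMap_apply]
    rw [dualStalkEquiv_apply] at h1
    exact (LinearEquiv.symm_apply_eq _).mp h1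

theorem isCoh_idealMod [IsLocallyNoetherian X] (𝓓 : X.IdealSheafData) :
    Coh.IsCoh (ClSub.idealMod 𝓓) := by
  have := Groth.Agent.CohqA.IdealMod.mono_idealModι 𝓓
  exact Groth.Agent.Sga67.CohBasic.isCoh_of_mono (ClSub.idealModι 𝓓)
    (Groth.Agent.Fdesc.StructMod.isCoh_structureModule X)
    (Groth.Agent.CohqA.IdealMod.isQCoh_idealMod 𝓓)

/-- Local equations: `sGerm 𝓓 x = f_x • δ`. -/
theorem exists_local [IsLocallyNoetherian X] {𝓓 : X.IdealSheafData}
    (hD : BlowUp.IsEffCartierIdeal 𝓓) (x : X) :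
    ∃ (U : X.affineOpens) (hx : x ∈ U.1) (f : Γ(X, U.1))
      (δ : (dual (ClSub.idealMod 𝓓)).presheaf.stalk x),
      f ∈ nonZeroDivisors Γ(X, U.1) ∧ 𝓓.ideal U = Ideal.span {f} ∧
      IsGen (dual (ClSub.idealMod 𝓓)) x δ ∧ sGerm 𝓓 x = X.presheaf.germ U.1 x hx f • δ := by
  have hc := isCoh_idealMod 𝓓
  obtain ⟨U, hxU, f, hf, hEf⟩ := hD x
  obtain ⟨t, rfl⟩ := Groth.Agent.PerfA.IdealModule.exists_val_eq 𝓓 U (a := f)
    (by rw [hEf]; exact Ideal.mem_span_singleton_self f)
  have h1 : IsGenOn (ClSub.idealMod 𝓓) U.1 t := Groth.Agent.Ega1.IdealGen.isGen_of_span 𝓓 hEf hf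
  obtain ⟨δ, hδ, hδt⟩ := exists_dual_gen hc (h1.isGen x hxU)
  refine ⟨U, hxU, _, δ, hf, hEf, hδ, ?_⟩
  refine (dualStalkEquiv (ClSub.idealMod 𝓓) (isFP_of_isCoh hc) x).injective ?_
  rw [map_smul]
  refine LinearMap.ext (fun m => ?_)
  obtain ⟨a, rfl⟩ := (h1.isGen x hxU).2 m
  rw [map_smul, map_smul]
  congr 1
  rw [LinearMap.smul_apply, dualStalkEquiv_apply, dualStalkEquiv_apply, hδt, evalStalk_sGerm,
    stalkMapₗ_germ]
  rw [LinearEquiv.symm_apply_eq, map_smul, LinearEquiv.apply_symm_apply,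
    ← germ_one (U := U.1) (x := x) hxU]
  rw [← Groth.Agent.CycB.ModStalk.germ_smul (L := Coh.structureModule X)]
  congr 1
  exact (mul_one (Groth.Agent.PerfA.IdealModule.val 𝓓 t)).symm

end K476.DivSec
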