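import Groth.Prelude.Def_RefHull
import Groth.Agent.CycB.StalkExact
import Groth.Agent.Ega1.QCohLoc

/-!
# The sheaf Hom `RefHull.homSh`: functoriality, sections as morphisms

* `stalkMapₗ_eq`, `stalkMapₗ_id`, `stalkMapₗ_comp`
* `exists_secMap`, `secMap`: the map `Γ(F, V) → Γ(G, V)` defined by a section of `homSh F G`
* `toHom`, `homEquiv : (F ⟶ G) ≃+ Γ(homSh F G, ⊤)`
* `preComp`, `postComp`: functoriality in both variables, isomorphism invariance
* `dualMap`, `ddualMap`, naturality of `bidualMap`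
-/

set_option autoImplicit false
universe u
open CategoryTheory CategoryTheory.Limits AlgebraicGeometry TopologicalSpace Opposite

noncomputable section

namespace K476.HomSh1

open RefHull Groth.Agent.CycB.StalkExact Groth.Agent.Ega1.QCohLoc

variable {X : Scheme.{u}} {F G F' G' H : X.Modules}

/-- Two sections of an O_X-module with the same germs are equal. -/
theorem sec_ext (M : X.Modules) {U : X.Opens} {s t : Γ(M, U)}
    (h : ∀ (x : X) (hx : x ∈ U), M.presheaf.germ U x hx s = M.presheaf.germ U x hx t) : s = t :=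
  TopCat.Presheaf.section_ext (F := ⟨M.presheaf, M.isSheaf⟩) U s t h

theorem stalkMapₗ_eq (φ : F ⟶ G) (x : X) : stalkMapₗ φ x = stalkLin φ x := by
  ext m
  obtain ⟨U, hU, m, rfl⟩ := F.presheaf.exists_germ_eq m
  rw [stalkMapₗ_germ, stalkLin_germ]

@[simp] theorem stalkMapₗ_id (x : X) : stalkMapₗ (𝟙 F) x = LinearMap.id := by
  rw [stalkMapₗ_eq, stalkLin_id]

theorem stalkMapₗ_comp (φ : F ⟶ G) (ψ : G ⟶ H) (x : X) :
    stalkMapₗ (φ ≫ ψ) x = (stalkMapₗ ψ x).comp (stalkMapₗ φ x) := by
  rw [stalkMapₗ_eq, stalkMapₗ_eq, stalkMapₗ_eq, stalkLin_comp]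

theorem hom_ext_stalk {φ ψ : F ⟶ G} (h : ∀ x, stalkMapₗ φ x = stalkMapₗ ψ x) : φ = ψ := by
  refine Scheme.Modules.hom_ext _ _ (fun U => ?_)
  ext m
  refine sec_ext G (fun x hx => ?_)
  rw [← stalkMapₗ_germ, ← stalkMapₗ_germ, h]

/-- Extensionality for sections of the sheaf Hom. -/
theorem homSec_ext {U : X.Opens} {g h : Γ(homSh F G, U)} (H : ∀ x : U, g.1 x = h.1 x) : g = h :=
  Subtype.ext (funext H)

/-- The section of `G` obtained by applying a section of the sheaf Hom to a section of `F`. -/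
theorem exists_secMap {U : X.Opens} (g : Γ(homSh F G, U)) {V : X.Opens} (hV : V ≤ U)
    (m : Γ(F, V)) : ∃ n : Γ(G, V), ∀ (x : X) (hx : x ∈ V),
      G.presheaf.germ V x hx n = g.1 ⟨x, hV hx⟩ (F.presheaf.germ V x hx m) := by
  have key : ∀ x : V, ∃ (W : X.Opens) (_ : x.1 ∈ W) (j : W ≤ V) (n : Γ(G, W)),
      ∀ (y : X) (hy : y ∈ W), G.presheaf.germ W y hy n =
        g.1 ⟨y, hV (j hy)⟩ (F.presheaf.germ V y (j hy) m) := by
    intro x
    obtain ⟨W, hW, j, n, h⟩ := isLocSect_of_mem g V (homOfLE hV) m x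
    exact ⟨W, hW, j.le, n, fun y hy => (h ⟨y, hy⟩).symm⟩
  choose W hxW hWV n hn using key
  obtain ⟨t, ht⟩ := exists_gluing G W V hWV
    (fun x hx => Opens.mem_iSup.mpr ⟨⟨x, hx⟩, hxW ⟨x, hx⟩⟩) n (fun i j => by
      refine sec_ext G (fun x hx => ?_)
      rw [res_def, res_def, TopCat.Presheaf.germ_res_apply, TopCat.Presheaf.germ_res_apply,
        hn, hn])
  refine ⟨t, fun x hx => ?_⟩
  rw [← hn ⟨x, hx⟩ x (hxW _), ← ht ⟨x, hx⟩, res_def, TopCat.Presheaf.germ_res_apply]

/-- The `Γ(X, V)`-linear map `Γ(F, V) → Γ(G, V)` defined by a section of the sheaf Hom over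
`U ⊇ V`. -/
def secMap {U : X.Opens} (g : Γ(homSh F G, U)) {V : X.Opens} (hV : V ≤ U) :
    Γ(F, V) →ₗ[Γ(X, V)] Γ(G, V) where
  toFun m := (exists_secMap g hV m).choose
  map_add' m m' := sec_ext G (fun x hx => by
    rw [map_add, (exists_secMap g hV m).choose_spec x hx,
      (exists_secMap g hV m').choose_spec x hx, (exists_secMap g hV (m + m')).choose_spec x hx,
      map_add, map_add])
  map_smul' r m := sec_ext G (fun x hx => by
    rw [RingHom.id_apply, Mero.germ_smul, (exists_secMap g hV m).choose_spec x hx,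
      (exists_secMap g hV (r • m)).choose_spec x hx, Mero.germ_smul, map_smul])

theorem germ_secMap {U : X.Opens} (g : Γ(homSh F G, U)) {V : X.Opens} (hV : V ≤ U) (m : Γ(F, V))
    (x : X) (hx : x ∈ V) : G.presheaf.germ V x hx (secMap g hV m) =
      g.1 ⟨x, hV hx⟩ (F.presheaf.germ V x hx m) :=
  (exists_secMap g hV m).choose_spec x hx

theorem secMap_res {U : X.Opens} (g : Γ(homSh F G, U)) {V W : X.Opens} (hV : V ≤ U) (hW : W ≤ V)
    (m : Γ(F, V)) : secMap g (hW.trans hV) (res F hW m) = res G hW (secMap g hV m) := by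
  refine sec_ext G (fun x hx => ?_)
  rw [germ_secMap, res_def, res_def, TopCat.Presheaf.germ_res_apply,
    TopCat.Presheaf.germ_res_apply, germ_secMap]

theorem secMap_res_left {U U' : X.Opens} (g : Γ(homSh F G, U)) (hU : U' ≤ U) {V : X.Opens}
    (hV : V ≤ U') (m : Γ(F, V)) :
    secMap (res (homSh F G) hU g) hV m = secMap g (hV.trans hU) m := by
  refine sec_ext G (fun x hx => ?_)
  rw [germ_secMap, germ_secMap]
  rfl

theorem secMap_add {U : X.Opens} (g h : Γ(homSh F G, U)) {V : X.Opens} (hV : V ≤ U) :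
    secMap (g + h) hV = secMap g hV + secMap h hV := by
  ext m
  refine sec_ext G (fun x hx => ?_)
  rw [germ_secMap, LinearMap.add_apply, map_add, germ_secMap, germ_secMap]
  rfl

theorem secMap_smul {U : X.Opens} (r : Γ(X, U)) (g : Γ(homSh F G, U)) (m : Γ(F, U)) :
    secMap (r • g) le_rfl m = r • secMap g le_rfl m := by
  refine sec_ext G (fun x hx => ?_)
  rw [germ_secMap, Mero.germ_smul, germ_secMap]
  rfl

/-- A section of the sheaf Hom is determined by the maps on sections over small opens. -/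
theorem homSec_ext_secMap {U : X.Opens} {g h : Γ(homSh F G, U)}
    (H : ∀ (V : X.Opens) (hV : V ≤ U) (m : Γ(F, V)), secMap g hV m = secMap h hV m) : g = h := by
  refine homSec_ext (fun x => ?_)
  ext m
  obtain ⟨V, hV, m, rfl⟩ := F.presheaf.exists_germ_eq m
  have e := H (V ⊓ U) inf_le_right (res F inf_le_left m)
  have e2 := congrArg (G.presheaf.germ (V ⊓ U) x.1 ⟨hV, x.2⟩) e
  have e3 := ((germ_secMap g inf_le_right (res F inf_le_left m) x.1 ⟨hV, x.2⟩).symm.trans
    e2).trans (germ_secMap h inf_le_right (res F inf_le_left m) x.1 ⟨hV, x.2⟩)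
  rw [res_def, TopCat.Presheaf.germ_res_apply] at e3
  exact e3

/-- The morphism defined by a global section of the sheaf Hom. -/
def toHom (g : Γ(homSh F G, ⊤)) : F ⟶ G :=
  ⟨PresheafOfModules.homMk
    { app := fun V => AddCommGrpCat.ofHom (secMap g (le_top (a := V.unop))).toAddMonoidHom
      naturality := fun {V W} i => by
        ext m
        exact secMap_res g le_top i.unop.le m }
    (fun V r m => (secMap g (le_top (a := V.unop))).map_smul r m)⟩

theorem toHom_app (g : Γ(homSh F G, ⊤)) (V : X.Opens) (m : Γ(F, V)) :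
    (toHom g).app V m = secMap g le_top m := rfl

theorem stalkMapₗ_toHom (g : Γ(homSh F G, ⊤)) (x : X) :
    stalkMapₗ (toHom g) x = g.1 ⟨x, trivial⟩ := by
  ext m
  obtain ⟨V, hV, m, rfl⟩ := F.presheaf.exists_germ_eq m
  rw [stalkMapₗ_germ, toHom_app, germ_secMap]

@[simp] theorem ofHom_toHom (g : Γ(homSh F G, ⊤)) : ofHom (toHom g) ⊤ = g :=
  homSec_ext (fun x => by rw [ofHom_apply, stalkMapₗ_toHom])

@[simp] theorem toHom_ofHom (φ : F ⟶ G) : toHom (ofHom φ ⊤) = φ :=
  hom_ext_stalk (fun x => by rw [stalkMapₗ_toHom, ofHom_apply])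

/-- The map on sections defined by `ofHom φ`. -/
theorem secMap_ofHom (φ : F ⟶ G) {U V : X.Opens} (hV : V ≤ U) (m : Γ(F, V)) :
    secMap (ofHom φ U) hV m = φ.app V m :=
  sec_ext G (fun x hx => by rw [germ_secMap, ofHom_apply, stalkMapₗ_germ])

theorem stalkMapₗ_add (φ ψ : F ⟶ G) (x : X) :
    stalkMapₗ (φ + ψ) x = stalkMapₗ φ x + stalkMapₗ ψ x := by
  ext m
  obtain ⟨V, hV, m, rfl⟩ := F.presheaf.exists_germ_eq m
  rw [LinearMap.add_apply, stalkMapₗ_germ, stalkMapₗ_germ, stalkMapₗ_germ, ← map_add]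
  rfl

/-- Global sections of the sheaf Hom are the morphisms. -/
def homEquiv (F G : X.Modules) : (F ⟶ G) ≃+ Γ(homSh F G, ⊤) where
  toFun φ := ofHom φ ⊤
  invFun := toHom
  left_inv := toHom_ofHom
  right_inv := ofHom_toHom
  map_add' φ ψ := homSec_ext (fun x => by
    rw [ofHom_apply, stalkMapₗ_add]; rfl)

/-! ### Functoriality -/

/-- Precomposition on the sheaf Hom. -/
def preComp (φ : F' ⟶ F) (G : X.Modules) : homSh F G ⟶ homSh F' G :=
  ⟨PresheafOfModules.homMk (M₁ := (homSh F G).val) (M₂ := (homSh F' G).val)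
    { app := fun U => AddCommGrpCat.ofHom
        { toFun := fun (g : Γ(homSh F G, U.unop)) =>
            (⟨fun x => (g.1 x).comp (stalkMapₗ φ x.1), fun V i m x => by
              obtain ⟨W, hW, j, n, h⟩ := isLocSect_of_mem g V i (φ.app V m) x
              refine ⟨W, hW, j, n, fun y => ?_⟩
              rw [LinearMap.comp_apply, stalkMapₗ_germ]
              exact h y⟩ : Γ(homSh F' G, U.unop))
          map_zero' := rfl
          map_add' := fun _ _ => rfl }
      naturality := by intros; rfl }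
    (fun _ _ _ => rfl)⟩

@[simp] theorem preComp_app_apply (φ : F' ⟶ F) {U : X.Opens} (g : Γ(homSh F G, U)) (x : U) :
    ((preComp φ G).app U g).1 x = (g.1 x).comp (stalkMapₗ φ x.1) := rfl

/-- Postcomposition on sections of the sheaf Hom. -/
def postCompSec (F : X.Modules) (ψ : G ⟶ G') (U : X.Opens) (g : Γ(homSh F G, U)) :
    Γ(homSh F G', U) :=
  ⟨fun x => (stalkMapₗ ψ x.1).comp (g.1 x), fun V i m x => by
    obtain ⟨W, hW, j, n, h⟩ := isLocSect_of_mem g V i m x
    refine ⟨W, hW, j, ψ.app W n, fun y => ?_⟩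
    have e := h y
    rw [LinearMap.comp_apply, e, stalkMapₗ_germ]⟩

theorem postCompSec_apply (ψ : G ⟶ G') {U : X.Opens} (g : Γ(homSh F G, U)) (x : U) :
    (postCompSec F ψ U g).1 x = (stalkMapₗ ψ x.1).comp (g.1 x) := rfl

theorem postCompSec_add (ψ : G ⟶ G') (U : X.Opens) (g h : Γ(homSh F G, U)) :
    postCompSec F ψ U (g + h) = postCompSec F ψ U g + postCompSec F ψ U h :=
  homSec_ext fun x => by
    rw [postCompSec_apply]
    exact LinearMap.comp_add _ _ _

theorem postCompSec_smul (ψ : G ⟶ G') (U : X.Opens) (r : Γ(X, U)) (g : Γ(homSh F G, U)) :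
    postCompSec F ψ U (r • g) = r • postCompSec F ψ U g :=
  homSec_ext fun x => by
    rw [postCompSec_apply]
    exact LinearMap.comp_smul _ _ _

/-- Postcomposition on the sheaf Hom. -/
def postComp (F : X.Modules) (ψ : G ⟶ G') : homSh F G ⟶ homSh F G' :=
  ⟨PresheafOfModules.homMk (M₁ := (homSh F G).val) (M₂ := (homSh F G').val)
    { app := fun U => AddCommGrpCat.ofHom
        (AddMonoidHom.mk' (postCompSec F ψ U.unop) (postCompSec_add ψ U.unop))
      naturality := by intros; rfl }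
    (fun U r g => postCompSec_smul ψ U.unop r g)⟩

@[simp] theorem postComp_app_apply (ψ : G ⟶ G') {U : X.Opens} (g : Γ(homSh F G, U)) (x : U) :
    ((postComp F ψ).app U g).1 x = (stalkMapₗ ψ x.1).comp (g.1 x) := rfl

/-- Extensionality for morphisms into the sheaf Hom. -/
theorem hom_ext_homSh {M : X.Modules} {α β : M ⟶ homSh F G}
    (h : ∀ (U : X.Opens) (m : Γ(M, U)) (x : U), (α.app U m).1 x = (β.app U m).1 x) : α = β := by
  refine Scheme.Modules.hom_ext _ _ (fun U => ?_)
  ext m
  exact homSec_ext (h U m)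

@[simp] theorem preComp_id : preComp (𝟙 F) G = 𝟙 _ :=
  hom_ext_homSh (fun U m x => by
    rw [preComp_app_apply, stalkMapₗ_id, LinearMap.comp_id]; rfl)

@[simp] theorem postComp_id : postComp F (𝟙 G) = 𝟙 _ :=
  hom_ext_homSh (fun U m x => by
    rw [postComp_app_apply, stalkMapₗ_id, LinearMap.id_comp]; rfl)

theorem preComp_comp {F'' : X.Modules} (φ : F' ⟶ F) (ψ : F'' ⟶ F') :
    preComp (ψ ≫ φ) G = preComp φ G ≫ preComp ψ G :=
  hom_ext_homSh (fun U m x => by
    rw [preComp_app_apply, stalkMapₗ_comp]; rfl)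

theorem postComp_comp (φ : G ⟶ G') (ψ : G' ⟶ H) :
    postComp F (φ ≫ ψ) = postComp F φ ≫ postComp F ψ :=
  hom_ext_homSh (fun U m x => by
    rw [postComp_app_apply, stalkMapₗ_comp]; rfl)

theorem preComp_postComp (φ : F' ⟶ F) (ψ : G ⟶ G') :
    preComp φ G ≫ postComp F' ψ = postComp F ψ ≫ preComp φ G' :=
  hom_ext_homSh (fun _ _ _ => rfl)

/-- Isomorphism invariance of the sheaf Hom in the first variable. -/
def isoLeft (e : F ≅ F') (G : X.Modules) : homSh F G ≅ homSh F' G where
  hom := preComp e.inv G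
  inv := preComp e.hom G
  hom_inv_id := by rw [← preComp_comp, e.hom_inv_id, preComp_id]
  inv_hom_id := by rw [← preComp_comp, e.inv_hom_id, preComp_id]

/-- Isomorphism invariance of the sheaf Hom in the second variable. -/
def isoRight (F : X.Modules) (e : G ≅ G') : homSh F G ≅ homSh F G' where
  hom := postComp F e.hom
  inv := postComp F e.inv
  hom_inv_id := by rw [← postComp_comp, e.hom_inv_id, postComp_id]
  inv_hom_id := by rw [← postComp_comp, e.inv_hom_id, postComp_id]

/-! ### Duals -/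

/-- The transpose of a morphism. -/
abbrev dualMap (φ : F ⟶ G) : dual G ⟶ dual F := preComp φ (Coh.structureModule X)

/-- The double transpose of a morphism. -/
abbrev ddualMap (φ : F ⟶ G) : ddual F ⟶ ddual G := dualMap (dualMap φ)

theorem dualMap_id : dualMap (𝟙 F) = 𝟙 _ := preComp_id

theorem dualMap_comp (φ : F ⟶ G) (ψ : G ⟶ H) : dualMap (φ ≫ ψ) = dualMap ψ ≫ dualMap φ :=
  preComp_comp ψ φ

theorem ddualMap_id : ddualMap (𝟙 F) = 𝟙 _ := by rw [ddualMap, dualMap_id, dualMap_id]

theorem ddualMap_comp (φ : F ⟶ G) (ψ : G ⟶ H) : ddualMap (φ ≫ ψ) = ddualMap φ ≫ ddualMap ψ := by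
  rw [ddualMap, dualMap_comp, dualMap_comp]

/-- The stalk map of a transpose, seen through evaluation. -/
theorem evalStalk_stalkMapₗ_preComp (φ : F' ⟶ F) (x : X) (θ : (homSh F G).presheaf.stalk x) :
    evalStalk F' G x (stalkMapₗ (preComp φ G) x θ) =
      (evalStalk F G x θ).comp (stalkMapₗ φ x) := by
  obtain ⟨V, hV, g, rfl⟩ := (homSh F G).presheaf.exists_germ_eq θ
  rw [stalkMapₗ_germ, evalStalk_germ, evalStalk_germ]
  rfl

theorem evalStalk_stalkMapₗ_postComp (ψ : G ⟶ G') (x : X) (θ : (homSh F G).presheaf.stalk x) :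
    evalStalk F G' x (stalkMapₗ (postComp F ψ) x θ) =
      (stalkMapₗ ψ x).comp (evalStalk F G x θ) := by
  obtain ⟨V, hV, g, rfl⟩ := (homSh F G).presheaf.exists_germ_eq θ
  rw [stalkMapₗ_germ, evalStalk_germ, evalStalk_germ]
  rfl

/-- Naturality of the biduality map. -/
theorem bidualMap_naturality (φ : F ⟶ G) : φ ≫ bidualMap G = bidualMap F ≫ ddualMap φ :=
  hom_ext_homSh (fun U m x => by
    change ((bidualMap G).app U (φ.app U m)).1 x =
      ((preComp (dualMap φ) _).app U ((bidualMap F).app U m)).1 x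
    rw [bidualMap_app_apply, preComp_app_apply, bidualMap_app_apply]
    refine LinearMap.ext (fun θ => ?_)
    rw [bidualAt_apply, LinearMap.comp_apply, bidualAt_apply, evalStalk_stalkMapₗ_preComp,
      LinearMap.comp_apply, stalkMapₗ_germ])

/-- The isomorphism of duals induced by an isomorphism. -/
abbrev dualIso (e : F ≅ G) : dual F ≅ dual G := isoLeft e _

/-- The isomorphism of reflexive hulls induced by an isomorphism. -/
abbrev ddualIso (e : F ≅ G) : ddual F ≅ ddual G := dualIso (dualIso e)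

theorem ddualIso_hom (e : F ≅ G) : (ddualIso e).hom = ddualMap e.hom := rfl

theorem isReflexive_of_iso (e : F ≅ G) (h : IsReflexive F) : IsReflexive G := by
  have : IsIso (bidualMap F) := h
  have h1 : bidualMap G = e.inv ≫ bidualMap F ≫ (ddualIso e).hom := by
    rw [ddualIso_hom, ← bidualMap_naturality, Iso.inv_hom_id_assoc]
  change IsIso (bidualMap G)
  rw [h1]
  infer_instance

end K476.HomSh1

end
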