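import Groth.Agent.Dcoh.StalkT
import Groth.Agent.SDiv.K476.HomSh1
import Groth.Agent.Fdesc.StructMod
import Groth.Agent.CycB.ModStalk
import Groth.Prelude.Def_KoszTw
import Groth.Prelude.Def_RefPow

/-!
# Stalks of tensor products, with formulas on germs

* `tensEquiv M N x : M_x ⊗ N_x ≃ (M ⊗ N)_x`, with `tensEquiv_germ`: the tensor of the germs of `m`, `n` goes to the
  germ of `SecTwist.tmul m n`;
* `stalkMapₗ_tensorMap`: the stalk map of `KoszTw.tensorMap f g` is the tensor product of the stalk maps;
* `bijective_stalkMapₗ_tensorMap`;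
* `unitGerm x : (O_X)_x`, the germ of `1`, and `structLin x : O_{X,x} ≃ (O_X)_x`;
* `stalkMapₗ_unitorR_inv`: the inverse unit isomorphism on stalks is `m ↦ m ⊗ 1`.
-/

set_option autoImplicit false
set_option backward.isDefEq.respectTransparency false

universe u

noncomputable section

open CategoryTheory CategoryTheory.Limits AlgebraicGeometry TopologicalSpace Opposite
open RefHull K476.HomSh1 Groth.Agent.Ega1.QCohLoc
open scoped TensorProduct

namespace K476.TensStalk

open Groth.Agent Groth.Agent.Dcoh.Stalk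

variable {X : Scheme.{u}} {M N M' N' : X.Modules}

/-- The stalk of a tensor product. -/
def tensEquiv (M N : X.Modules) (x : X) :
    (M.presheaf.stalk x) ⊗[X.presheaf.stalk x] (N.presheaf.stalk x) ≃ₗ[X.presheaf.stalk x]
      (CohB1.tensorMod M N).presheaf.stalk x :=
  (tensorStalkIso M N x).toLinearEquiv.symm

theorem tensEquiv_germ {U : X.Opens} {x : X} (hx : x ∈ U) (m : Γ(M, U)) (n : Γ(N, U)) :
    tensEquiv M N x (M.presheaf.germ U x hx m ⊗ₜ[X.presheaf.stalk x]
      N.presheaf.germ U x hx n) =
      (CohB1.tensorMod M N).presheaf.germ U x hx (SecTwist.tmul M N U m n) := by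
  have h1 := Dcoh.StalkP.stalkTensorEquiv_symm_germ (R := X.presheaf) (DCoh.toP.obj M)
    (DCoh.toP.obj N) x U hx m n
  have h2 := Dcoh.StalkP.stalkMap_germ ((shAdj X).unit.app
    (MonoidalCategory.tensorObj (DCoh.toP.obj M) (DCoh.toP.obj N)))
    U x hx (Dcoh.StalkP.tmul m n)
  exact (congrArg ((stalkPS x).map ((shAdj X).unit.app
    (MonoidalCategory.tensorObj (DCoh.toP.obj M) (DCoh.toP.obj N)))) h1).trans h2

/-- Two stalk elements are germs of sections over a common open. -/
theorem exists_common_germ {x : X} (a : M.presheaf.stalk x) (b : N.presheaf.stalk x) :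
    ∃ (U : X.Opens) (hx : x ∈ U) (m : Γ(M, U)) (n : Γ(N, U)),
      M.presheaf.germ U x hx m = a ∧ N.presheaf.germ U x hx n = b := by
  obtain ⟨U, hU, m, rfl⟩ := M.presheaf.exists_germ_eq a
  obtain ⟨V, hV, n, rfl⟩ := N.presheaf.exists_germ_eq b
  exact ⟨U ⊓ V, ⟨hU, hV⟩, res M inf_le_left m, res N inf_le_right n,
    TopCat.Presheaf.germ_res_apply _ _ _ _ _, TopCat.Presheaf.germ_res_apply _ _ _ _ _⟩

/-- The tensor product of two stalk elements. -/
def stmul {x : X} (a : M.presheaf.stalk x) (b : N.presheaf.stalk x) :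
    (CohB1.tensorMod M N).presheaf.stalk x := tensEquiv M N x (a ⊗ₜ[X.presheaf.stalk x] b)

theorem stmul_def {x : X} (a : M.presheaf.stalk x) (b : N.presheaf.stalk x) :
    stmul a b = tensEquiv M N x (a ⊗ₜ[X.presheaf.stalk x] b) := rfl

theorem stmul_germ {U : X.Opens} {x : X} (hx : x ∈ U) (m : Γ(M, U)) (n : Γ(N, U)) :
    stmul (M.presheaf.germ U x hx m) (N.presheaf.germ U x hx n) =
      (CohB1.tensorMod M N).presheaf.germ U x hx (SecTwist.tmul M N U m n) :=
  tensEquiv_germ hx m n

theorem smul_stmul {x : X} (r : X.presheaf.stalk x) (a : M.presheaf.stalk x)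
    (b : N.presheaf.stalk x) : stmul (r • a) b = r • stmul a b := by
  rw [stmul, stmul, ← map_smul, TensorProduct.smul_tmul']

theorem stmul_smul {x : X} (r : X.presheaf.stalk x) (a : M.presheaf.stalk x)
    (b : N.presheaf.stalk x) : stmul a (r • b) = r • stmul a b := by
  rw [stmul, stmul, ← map_smul, TensorProduct.tmul_smul]

theorem add_stmul {x : X} (a a' : M.presheaf.stalk x) (b : N.presheaf.stalk x) :
    stmul (a + a') b = stmul a b + stmul a' b := by
  rw [stmul, stmul, stmul, ← map_add, TensorProduct.add_tmul]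

theorem stmul_add {x : X} (a : M.presheaf.stalk x) (b b' : N.presheaf.stalk x) :
    stmul a (b + b') = stmul a b + stmul a b' := by
  rw [stmul, stmul, stmul, ← map_add, TensorProduct.tmul_add]

theorem zero_stmul {x : X} (b : N.presheaf.stalk x) : stmul (0 : M.presheaf.stalk x) b = 0 := by
  rw [stmul, TensorProduct.zero_tmul, map_zero]

theorem stmul_zero {x : X} (a : M.presheaf.stalk x) : stmul a (0 : N.presheaf.stalk x) = 0 := by
  rw [stmul, TensorProduct.tmul_zero, map_zero]

/-- Induction for elements of the stalk of a tensor product. -/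
theorem stmul_induction {x : X} {P : (CohB1.tensorMod M N).presheaf.stalk x → Prop}
    (h0 : P 0) (h : ∀ a b, P (stmul a b)) (ha : ∀ u v, P u → P v → P (u + v))
    (t : (CohB1.tensorMod M N).presheaf.stalk x) : P t := by
  obtain ⟨t, rfl⟩ := (tensEquiv M N x).surjective t
  induction t using TensorProduct.induction_on with
  | zero => rw [map_zero]; exact h0
  | tmul a b => exact h a b
  | add u v hu hv => rw [map_add]; exact ha _ _ hu hv

/-- The stalk map of a tensor product of morphisms. -/
theorem stalkMapₗ_tensorMap_stmul (f : M ⟶ M') (g : N ⟶ N') {x : X} (a : M.presheaf.stalk x)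
    (b : N.presheaf.stalk x) : stalkMapₗ (KoszTw.tensorMap f g) x (stmul a b) =
      stmul (stalkMapₗ f x a) (stalkMapₗ g x b) := by
  obtain ⟨U, hx, m, n, rfl, rfl⟩ := exists_common_germ a b
  rw [stmul_germ, stalkMapₗ_germ, stalkMapₗ_germ, stalkMapₗ_germ, stmul_germ]
  exact congrArg _ (KoszTw.tensorMap_tmul f g U m n)

theorem stalkMapₗ_tensorMap (f : M ⟶ M') (g : N ⟶ N') (x : X) :
    (stalkMapₗ (KoszTw.tensorMap f g) x).comp (tensEquiv M N x).toLinearMap =
      (tensEquiv M' N' x).toLinearMap.comp
        (TensorProduct.map (stalkMapₗ f x) (stalkMapₗ g x)) := by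
  refine TensorProduct.ext' (fun a b => ?_)
  exact stalkMapₗ_tensorMap_stmul f g a b

/-- Tensor products of morphisms bijective at `x` are bijective at `x`. -/
theorem bijective_stalkMapₗ_tensorMap (f : M ⟶ M') (g : N ⟶ N') (x : X)
    (hf : Function.Bijective (stalkMapₗ f x)) (hg : Function.Bijective (stalkMapₗ g x)) :
    Function.Bijective (stalkMapₗ (KoszTw.tensorMap f g) x) := by
  have h1 : Function.Bijective (TensorProduct.map (stalkMapₗ f x) (stalkMapₗ g x)) := by
    have := (TensorProduct.congr (LinearEquiv.ofBijective _ hf)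
      (LinearEquiv.ofBijective _ hg)).bijective
    exact this
  have h2 : Function.Bijective ((stalkMapₗ (KoszTw.tensorMap f g) x).comp
      (tensEquiv M N x).toLinearMap) := by
    rw [stalkMapₗ_tensorMap]
    exact (tensEquiv M' N' x).bijective.comp h1
  exact (Function.Bijective.of_comp_iff (f := stalkMapₗ (KoszTw.tensorMap f g) x)
    (g := tensEquiv M N x) (tensEquiv M N x).bijective).mp h2

/-- Specialization of tensors. -/
theorem stalkSpecializes_stmul {x y : X} (h : y ⤳ x) (a : M.presheaf.stalk x)
    (b : N.presheaf.stalk x) :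
    (CohB1.tensorMod M N).presheaf.stalkSpecializes h (stmul a b) =
      stmul (M.presheaf.stalkSpecializes h a) (N.presheaf.stalkSpecializes h b) := by
  obtain ⟨U, hx, m, n, rfl, rfl⟩ := exists_common_germ a b
  have e : ∀ {P : X.Modules} (p : Γ(P, U)), P.presheaf.stalkSpecializes h
      (P.presheaf.germ U x hx p) = P.presheaf.germ U y (h.mem_open U.2 hx) p := fun {P} p =>
    TopCat.Presheaf.germ_stalkSpecializes_apply P.presheaf hx h p
  rw [stmul_germ, e, e, e, stmul_germ]

/-! ### Generators -/

open Groth.Agent.CycB.ModStalk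

theorem isGen_stmul {x : X} {a : M.presheaf.stalk x} {b : N.presheaf.stalk x}
    (ha : IsGen M x a) (hb : IsGen N x b) : IsGen (CohB1.tensorMod M N) x (stmul a b) := by
  let ea : X.presheaf.stalk x ≃ₗ[X.presheaf.stalk x] M.presheaf.stalk x :=
    LinearEquiv.ofBijective (LinearMap.toSpanSingleton (X.presheaf.stalk x) _ a) ha
  let eb : X.presheaf.stalk x ≃ₗ[X.presheaf.stalk x] N.presheaf.stalk x :=
    LinearEquiv.ofBijective (LinearMap.toSpanSingleton (X.presheaf.stalk x) _ b) hb
  let e := ((TensorProduct.lid (X.presheaf.stalk x) (X.presheaf.stalk x)).symm.trans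
    (TensorProduct.congr ea eb)).trans (tensEquiv M N x)
  have h : (fun r : X.presheaf.stalk x => r • stmul a b) = e := by
    funext r
    have h1 : e r = tensEquiv M N x (ea 1 ⊗ₜ eb r) := rfl
    have h2 : ea 1 = a := by
      change (1 : X.presheaf.stalk x) • a = a
      rw [one_smul]
    have h3 : eb r = r • b := rfl
    rw [h1, h2, h3, TensorProduct.tmul_smul, map_smul]
    rfl
  change Function.Bijective (fun r : X.presheaf.stalk x => r • stmul a b)
  rw [h]
  exact e.bijective

/-- Isomorphisms on stalks preserve generators. -/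
theorem isGen_map {x : X} {a : M.presheaf.stalk x} (ha : IsGen M x a) (f : M ⟶ N)
    (hf : Function.Bijective (stalkMapₗ f x)) : IsGen N x (stalkMapₗ f x a) := by
  have h : (fun r : X.presheaf.stalk x => r • stalkMapₗ f x a) =
      (stalkMapₗ f x) ∘ (fun r : X.presheaf.stalk x => r • a) := by
    funext r
    exact (map_smul (stalkMapₗ f x) r a).symm
  change Function.Bijective (fun r : X.presheaf.stalk x => r • stalkMapₗ f x a)
  rw [h]
  exact hf.comp ha

/-! ### The structure sheaf -/

/-- The germ of `1` in the stalk of the structure sheaf. -/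
def unitGerm (x : X) : (Coh.structureModule X).presheaf.stalk x :=
  Groth.Agent.Fdesc.StructMod.stalkEquiv x 1

theorem germ_one {U : X.Opens} {x : X} (hx : x ∈ U) :
    (Coh.structureModule X).presheaf.germ U x hx
      (((1 : X.ringCatSheaf.obj.obj (op U)) : (Coh.structureModule X).val.obj (op U))) =
      unitGerm x := by
  have h := Groth.Agent.Fdesc.StructMod.stalkEquiv_germ x hx 1
  rw [map_one] at h
  exact h.symm

theorem isGen_unitGerm (x : X) : IsGen (Coh.structureModule X) x (unitGerm x) := by
  have h : (fun r : X.presheaf.stalk x => r • unitGerm x) =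
      (Groth.Agent.Fdesc.StructMod.stalkEquiv x) := by
    funext r
    rw [unitGerm, ← map_smul, smul_eq_mul, mul_one]
  change Function.Bijective (fun r : X.presheaf.stalk x => r • unitGerm x)
  rw [h]
  exact (Groth.Agent.Fdesc.StructMod.stalkEquiv x).bijective

theorem stalkSpecializes_unitGerm {x y : X} (h : y ⤳ x) :
    (Coh.structureModule X).presheaf.stalkSpecializes h (unitGerm x) = unitGerm y := by
  rw [← germ_one (U := ⊤) (x := x) trivial, ← germ_one (U := ⊤) (x := y) trivial]
  exact TopCat.Presheaf.germ_stalkSpecializes_apply _ _ h _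

/-- The germ of a section `s : O_X ⟶ M`. -/
def secGerm (s : Coh.structureModule X ⟶ M) (x : X) : M.presheaf.stalk x :=
  stalkMapₗ s x (unitGerm x)

theorem secGerm_eq (s : Coh.structureModule X ⟶ M) {U : X.Opens} {x : X} (hx : x ∈ U) :
    M.presheaf.germ U x hx (SecTwist.val s U) = secGerm s x := by
  rw [secGerm, ← germ_one hx, stalkMapₗ_germ]
  rfl

theorem stalkSpecializes_secGerm (s : Coh.structureModule X ⟶ M) {x y : X} (h : y ⤳ x) :
    M.presheaf.stalkSpecializes h (secGerm s x) = secGerm s y := by
  rw [← secGerm_eq s (U := ⊤) (x := x) trivial, ← secGerm_eq s (U := ⊤) (x := y) trivial]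
  exact TopCat.Presheaf.germ_stalkSpecializes_apply _ _ h _

theorem secGerm_comp (s : Coh.structureModule X ⟶ M) (f : M ⟶ N) (x : X) :
    secGerm (s ≫ f) x = stalkMapₗ f x (secGerm s x) := by
  rw [secGerm, stalkMapₗ_comp]; rfl

/-- A section is bijective at `x` iff its germ at `x` is a generator. -/
theorem bijective_iff_isGen (s : Coh.structureModule X ⟶ M) (x : X) :
    Function.Bijective (stalkMapₗ s x) ↔ IsGen M x (secGerm s x) := by
  have h : (fun r : X.presheaf.stalk x => r • secGerm s x) =
      (stalkMapₗ s x) ∘ (fun r : X.presheaf.stalk x => r • unitGerm x) := by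
    funext r
    exact (map_smul (stalkMapₗ s x) r (unitGerm x)).symm
  have h2 : IsGen M x (secGerm s x) ↔
      Function.Bijective ((stalkMapₗ s x) ∘ (fun r : X.presheaf.stalk x => r • unitGerm x)) := by
    rw [← h]; rfl
  rw [h2]
  exact (Function.Bijective.of_comp_iff _ (isGen_unitGerm x)).symm

/-- The inverse of the right unit isomorphism on stalks. -/
theorem stalkMapₗ_unitorR_inv (M : X.Modules) (x : X) (m : M.presheaf.stalk x) :
    stalkMapₗ (SecTwist.unitorR M).inv x m = stmul m (unitGerm x) := by
  obtain ⟨U, hx, m, rfl⟩ := M.presheaf.exists_germ_eq m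
  rw [stalkMapₗ_germ, RefPow.unitorR_inv_app, ← germ_one hx, stmul_germ]

/-! ### Multiplication by a section on stalks -/

variable {F : X.Modules}

theorem stalkMapₗ_mulBy_succ (s : Coh.structureModule X ⟶ F) (n : ℕ) (x : X)
    (t : (RefPow.refPow F (n + 1)).presheaf.stalk x) :
    stalkMapₗ (RefPow.mulBy s (n + 1)) x t =
      stalkMapₗ (bidualMap (CohB1.tensorMod (RefPow.refPow F (n + 1)) F)) x
        (stmul t (secGerm s x)) := by
  rw [RefPow.mulBy_succ, stalkMapₗ_comp, stalkMapₗ_comp, LinearMap.comp_apply,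
    LinearMap.comp_apply, stalkMapₗ_unitorR_inv, stalkMapₗ_tensorMap_stmul, stalkMapₗ_id]
  rfl

end K476.TensStalk
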