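import Groth.Agent.SDiv.K476.Ref1

/-!
# Powers of stalk generators in reflexive powers

For `e ∈ F_x`: `powGerm e n ∈ (F^[n])_x`, a generator if `e` is one; if `s_x = c • e` then the germ of `s^n` is
`c^n • powGerm e n` and multiplication by `s` sends `powGerm e n` to `c • powGerm e (n + 1)`.
-/

set_option autoImplicit false
set_option backward.isDefEq.respectTransparency false

universe u

noncomputable section

open CategoryTheory CategoryTheory.Limits AlgebraicGeometry TopologicalSpace Opposite
open RefHull K476.HomSh1 K476.HomSh3 K476.HomSh4 Groth.Agent.CycB.ModStalk K475.GenStalk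
open K476.TensStalk K476.Ref1 RefPow

namespace K476.RefPow1

variable {X : Scheme.{u}} {F : X.Modules}

theorem stalkMapₗ_specializes {G H : X.Modules} (φ : G ⟶ H) {x y : X} (h : y ⤳ x)
    (m : G.presheaf.stalk x) : stalkMapₗ φ y (G.presheaf.stalkSpecializes h m) =
      H.presheaf.stalkSpecializes h (stalkMapₗ φ x m) := by
  obtain ⟨U, hx, s, rfl⟩ := TopCat.Presheaf.exists_germ_eq G.presheaf m
  have h1 : G.presheaf.stalkSpecializes h (G.presheaf.germ U x hx s) =
      G.presheaf.germ U y (h.mem_open U.2 hx) s :=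
    TopCat.Presheaf.germ_stalkSpecializes_apply G.presheaf hx h s
  rw [h1, stalkMapₗ_germ, stalkMapₗ_germ]
  exact (TopCat.Presheaf.germ_stalkSpecializes_apply H.presheaf hx h _).symm

/-- The canonical map from the stalk of the tensor product to the stalk of the reflexive power. -/
abbrev J (F : X.Modules) (n : ℕ) (x : X) :
    (CohB1.tensorMod (refPow F (n + 1)) F).presheaf.stalk x →ₗ[X.presheaf.stalk x]
      (refPow F (n + 2)).presheaf.stalk x :=
  stalkMapₗ (bidualMap (CohB1.tensorMod (refPow F (n + 1)) F)) x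

/-- The `n`-th power of a stalk element in the `n`-th reflexive power. -/
def powGerm {x : X} (e : F.presheaf.stalk x) : (n : ℕ) → (refPow F n).presheaf.stalk x
  | 0 => unitGerm x
  | 1 => e
  | n + 2 => J F n x (stmul (powGerm e (n + 1)) e)

theorem powGerm_zero {x : X} (e : F.presheaf.stalk x) : powGerm e 0 = unitGerm x := rfl
theorem powGerm_one {x : X} (e : F.presheaf.stalk x) : powGerm e 1 = e := rfl
theorem powGerm_succ {x : X} (e : F.presheaf.stalk x) (n : ℕ) :
    powGerm e (n + 2) = J F n x (stmul (powGerm e (n + 1)) e) := rfl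

theorem powGerm_smul {x : X} (a : X.presheaf.stalk x) (e : F.presheaf.stalk x) :
    ∀ n, powGerm (a • e) n = a ^ n • powGerm e n
  | 0 => by rw [powGerm_zero, powGerm_zero, pow_zero, one_smul]
  | 1 => by rw [powGerm_one, powGerm_one, pow_one]
  | n + 2 => by
    rw [powGerm_succ, powGerm_succ, powGerm_smul a e (n + 1), smul_stmul, stmul_smul, map_smul,
      map_smul, smul_smul, ← pow_succ]

theorem stalkSpecializes_powGerm {x y : X} (h : y ⤳ x) (e : F.presheaf.stalk x) :
    ∀ n, (refPow F n).presheaf.stalkSpecializes h (powGerm e n) =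
      powGerm (F.presheaf.stalkSpecializes h e) n
  | 0 => stalkSpecializes_unitGerm h
  | 1 => rfl
  | n + 2 => by
    rw [powGerm_succ, powGerm_succ, ← stalkSpecializes_powGerm h e (n + 1),
      ← stalkSpecializes_stmul]
    exact (stalkMapₗ_specializes (bidualMap _) h _).symm

/-- Multiplication by `s` on powers of a generator. -/
theorem stalkMapₗ_mulBy_powGerm (s : Coh.structureModule X ⟶ F) {x : X} {e : F.presheaf.stalk x}
    {c : X.presheaf.stalk x} (h : secGerm s x = c • e) :
    ∀ n, stalkMapₗ (mulBy s n) x (powGerm e n) = c • powGerm e (n + 1)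
  | 0 => h
  | n + 1 => by
    rw [stalkMapₗ_mulBy_succ, h, stmul_smul, map_smul]
    rfl

/-- The germ of `s^n`. -/
theorem secGerm_sPow (s : Coh.structureModule X ⟶ F) {x : X} {e : F.presheaf.stalk x}
    {c : X.presheaf.stalk x} (h : secGerm s x = c • e) :
    ∀ n, secGerm (sPow s n) x = c ^ n • powGerm e n
  | 0 => by
    rw [pow_zero, one_smul, powGerm_zero, sPow_zero, secGerm, stalkMapₗ_id]
    rfl
  | n + 1 => by
    rw [sPow_succ, secGerm_comp, secGerm_sPow s h n, map_smul, stalkMapₗ_mulBy_powGerm s h,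
      smul_smul, pow_succ]

theorem secGerm_sPow_eq (s : Coh.structureModule X ⟶ F) (x : X) (n : ℕ) :
    secGerm (sPow s n) x = powGerm (secGerm s x) n := by
  rw [secGerm_sPow s (one_smul _ (secGerm s x)).symm n, one_pow, one_smul]

theorem sPowGerm_eq (s : Coh.structureModule X ⟶ F) (x : X) (n : ℕ) :
    sPowGerm s n x = secGerm (sPow s n) x :=
  secGerm_eq (sPow s n) (U := ⊤) trivial

section integral

variable [IsIntegral X] [IsLocallyNoetherian X]

theorem isGen_powGerm (hF : IsRef1 F) {x : X} {e : F.presheaf.stalk x} (he : IsGen F x e) :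
    ∀ n, IsGen (refPow F n) x (powGerm e n)
  | 0 => isGen_unitGerm x
  | 1 => he
  | n + 2 => isGen_bidual (isCoh_tensorMod (isRef1_refPow hF (n + 1)).1 hF.1)
      (isGen_stmul (isGen_powGerm hF he (n + 1)) he)

/-- On the isomorphism locus `s^n` generates. -/
theorem isGen_sPow (hF : IsRef1 F) (s : Coh.structureModule X ⟶ F) {x : X}
    (hx : x ∈ isoLocus s) (n : ℕ) : IsGen (refPow F n) x (secGerm (sPow s n) x) := by
  rw [secGerm_sPow_eq]
  exact isGen_powGerm hF ((bijective_iff_isGen s x).mp hx) n

theorem bijective_sPow (hF : IsRef1 F) (s : Coh.structureModule X ⟶ F) {x : X}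
    (hx : x ∈ isoLocus s) (n : ℕ) : Function.Bijective (stalkMapₗ (sPow s n) x) :=
  (bijective_iff_isGen _ x).mpr (isGen_sPow hF s hx n)

/-- A section that is not zero is a generator at the generic point. -/
theorem eta_mem_isoLocus (hF : IsRef1 F) {s : Coh.structureModule X ⟶ F} (hs : s ≠ 0) :
    η X ∈ isoLocus s := by
  refine (bijective_iff_isGen s _).mpr ?_
  obtain ⟨t, ht⟩ := exists_isGen_eta hF.2.2
  obtain ⟨a, ha⟩ := ht.2 (secGerm s (η X))
  dsimp only at ha
  have ha0 : a ≠ 0 := by
    rintro rfl
    apply hs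
    refine hom_ext (inj_of_isReflexive hF.1 hF.2.1) (LinearMap.ext fun m => ?_)
    obtain ⟨r, rfl⟩ := (isGen_unitGerm (X := X) (η X)).2 m
    dsimp only
    rw [map_smul, map_smul]
    congr 1
    have h1 : stalkMapₗ s (η X) (unitGerm (η X)) = 0 := by
      rw [zero_smul] at ha
      exact ha.symm
    rw [h1]
    have h2 : stalkMapₗ (0 : Coh.structureModule X ⟶ F) (η X) = 0 := by
      have h3 := stalkMapₗ_add (0 : Coh.structureModule X ⟶ F) 0 (η X)
      rw [add_zero] at h3
      exact left_eq_add.mp h3
    rw [h2]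
    rfl
  have hu : IsUnit a := IsUnit.mk0 (G₀ := X.functionField) a ha0
  refine isGen_of_span ht ?_
  rw [← ha, Submodule.span_singleton_smul_eq hu]
  exact ht.span_eq_top

end integral

end K476.RefPow1
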