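import Mathlib

/-!
# Alternating maps and lattices over principal ideal domains

* `alt_comp`: `f v = det(t) • f e` if `v j = ∑ k, t j k • e k`;
* `exists_smith`: elementary divisors for a map of finite modules over a principal ideal domain.
-/

set_option autoImplicit false

noncomputable section

namespace K476.DetAlg

section

variable {R M N : Type*} [CommRing R] [AddCommGroup M] [Module R M] [AddCommGroup N] [Module R N]
  {r : ℕ}

/-- The alternating map `w ↦ det w • n` on `R^r`. -/
def detMap (r : ℕ) (n : N) : (Fin r → R) [⋀^Fin r]→ₗ[R] N :=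
  (LinearMap.toSpanSingleton R N n).compAlternatingMap (Pi.basisFun R (Fin r)).det

theorem detMap_apply (n : N) (w : Fin r → Fin r → R) :
    detMap r n w = (Pi.basisFun R (Fin r)).det w • n := rfl

theorem eq_detMap (f : (Fin r → R) [⋀^Fin r]→ₗ[R] N) :
    f = detMap r (f (Pi.basisFun R (Fin r))) := by
  refine Module.Basis.ext_alternating (Pi.basisFun R (Fin r)) (fun v hv => ?_)
  let σ : Equiv.Perm (Fin r) := Equiv.ofBijective v (Finite.injective_iff_bijective.mp hv)
  have h1 : (fun i => Pi.basisFun R (Fin r) (v i)) = (Pi.basisFun R (Fin r)) ∘ σ := rfl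
  rw [h1, f.map_perm, (detMap r _).map_perm, detMap_apply, Module.Basis.det_self, one_smul]

theorem alt_comp (f : M [⋀^Fin r]→ₗ[R] N) (e : Fin r → M) (t : Fin r → Fin r → R) :
    f (fun j => ∑ k, t j k • e k) = (Pi.basisFun R (Fin r)).det t • f e := by
  let g : (Fin r → R) →ₗ[R] M := Fintype.linearCombination R e
  have h1 := congrArg (fun F => F t) (eq_detMap (f.compLinearMap g))
  have h2 : (f.compLinearMap g) t = f (fun j => ∑ k, t j k • e k) := rfl
  have h3 : (f.compLinearMap g) (Pi.basisFun R (Fin r)) = f e := by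
    rw [AlternatingMap.compLinearMap_apply]
    congr 1
    funext j
    simp [g, Fintype.linearCombination_apply]
  rw [← h2]
  refine h1.trans ?_
  change detMap r _ t = _
  rw [detMap_apply, h3]

theorem alt_smul (f : M [⋀^Fin r]→ₗ[R] N) (e : Fin r → M) (c : Fin r → R) :
    f (fun j => c j • e j) = (∏ j, c j) • f e :=
  f.toMultilinearMap.map_smul_univ c e

end

section pid

variable {R K : Type*} [CommRing R] [IsDomain R] [IsPrincipalIdealRing R] [Field K] [Algebra R K]
  [IsFractionRing R K]
variable {V : Type*} [AddCommGroup V] [Module K V] [Module R V] [IsScalarTower R K V]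
  [Module.Finite K V]
variable {P : Type*} [AddCommGroup P] [Module R P] [Module.Finite R P]

omit [IsPrincipalIdealRing R] [Module.Finite K V] in
/-- The image of a finite module in its localization at the field of fractions is a lattice. -/
theorem isLattice_range (l : P →ₗ[R] V) [IsLocalizedModule (nonZeroDivisors R) l] :
    Submodule.IsLattice K (LinearMap.range l) := by
  refine ⟨?_, ?_⟩
  · rw [← Submodule.map_top]
    exact Module.Finite.fg_top.map l
  · rw [eq_top_iff]
    intro v _
    obtain ⟨⟨p, s⟩, hs⟩ := IsLocalizedModule.surj (nonZeroDivisors R) l v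
    have hs' : algebraMap R K s.1 ≠ 0 :=
      IsLocalization.to_map_ne_zero_of_mem_nonZeroDivisors K le_rfl s.2
    have h1 : algebraMap R K s.1 • v = l p := by
      rw [algebraMap_smul]
      exact hs
    have h2 : v = (algebraMap R K s.1)⁻¹ • l p := by
      rw [← h1, smul_smul, inv_mul_cancel₀ hs', one_smul]
    rw [h2]
    exact Submodule.smul_mem _ _ (Submodule.subset_span ⟨p, rfl⟩)

theorem finrank_lattice (N : Submodule R V) [Submodule.IsLattice K N] :
    Module.finrank R N = Module.finrank K V := by
  rw [Module.finrank, Submodule.IsLattice.rank' K N, Module.finrank]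

/-- Elementary divisors for lattices. -/
theorem exists_smith_lattice (N N' : Submodule R V) [Submodule.IsLattice K N]
    [Submodule.IsLattice K N'] (h : N ≤ N') :
    ∃ (b' : Module.Basis (Fin (Module.finrank K V)) R N')
      (b : Module.Basis (Fin (Module.finrank K V)) R N) (c : Fin (Module.finrank K V) → R),
      ∀ j, (b j : V) = c j • (b' j : V) := by
  have i4 : Module.Free R N' := Submodule.IsLattice.free K N'
  have i6 : Module.Free R N := Submodule.IsLattice.free K N
  have i5 : Module.Finite R N' := Submodule.IsLattice.finite K N'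
  have i7 : Module.Finite R N := Submodule.IsLattice.finite K N
  have h1 : Module.finrank R N' = Module.finrank K V := finrank_lattice N'
  have h2 : Module.finrank R N = Module.finrank K V := finrank_lattice N
  let b0 : Module.Basis (Fin (Module.finrank K V)) R N' := Module.finBasisOfFinrankEq R N' h1
  let ι : N →ₗ[R] N' := Submodule.inclusion h
  have hι : Function.Injective ι := Submodule.inclusion_injective h
  let N0 : Submodule R N' := LinearMap.range ι
  have h3 : Module.finrank R N0 = Module.finrank R N' := by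
    rw [h1, ← h2]
    exact LinearMap.finrank_range_of_inj hι
  obtain ⟨b', c, ab, hab⟩ := Submodule.exists_smith_normal_form_of_rank_eq b0 h3
  let E : N ≃ₗ[R] N0 := LinearEquiv.ofInjective ι hι
  refine ⟨b', ab.map E.symm, c, fun j => ?_⟩
  have h4 : ((E (E.symm (ab j))) : N') = ι (E.symm (ab j)) := rfl
  rw [E.apply_symm_apply] at h4
  have h5 : ((ab.map E.symm) j : V) = ((ι (E.symm (ab j)) : N') : V) := rfl
  rw [h5, ← h4, hab j]
  rfl

end pid

section smith

variable {R K : Type*} [CommRing R] [IsDomain R] [IsPrincipalIdealRing R] [Field K] [Algebra R K]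
  [IsFractionRing R K]
variable {V V' : Type*} [AddCommGroup V] [Module K V] [Module R V] [IsScalarTower R K V]
  [AddCommGroup V'] [Module K V'] [Module R V'] [IsScalarTower R K V'] [Module.Finite K V']
variable {P P' : Type*} [AddCommGroup P] [Module R P] [Module.Finite R P] [AddCommGroup P']
  [Module R P'] [Module.Finite R P']

/-- Elementary divisors for a map of finite modules which is bijective generically. -/
structure Smith (l : P →ₗ[R] V) (l' : P' →ₗ[R] V') (a : P →ₗ[R] P') (r : ℕ) where
  /-- generators of the source -/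
  e : Fin r → P
  /-- generators of the target -/
  e' : Fin r → P'
  /-- the elementary divisors -/
  c : Fin r → R
  ne_zero : ∀ j, c j ≠ 0
  eq : ∀ j, l' (a (e j)) = c j • l' (e' j)
  gen : ∀ p, ∃ t : Fin r → R, l p = l (∑ j, t j • e j)
  gen' : ∀ p, ∃ t : Fin r → R, l' p = l' (∑ j, t j • e' j)
  indep : LinearIndependent R (fun j => l' (e' j))

theorem exists_smith (K : Type*) [Field K] [Algebra R K] [IsFractionRing R K] [Module K V]
    [IsScalarTower R K V] [Module K V'] [IsScalarTower R K V'] [Module.Finite K V']
    (l : P →ₗ[R] V) [IsLocalizedModule (nonZeroDivisors R) l]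
    (l' : P' →ₗ[R] V') [IsLocalizedModule (nonZeroDivisors R) l'] (a : P →ₗ[R] P')
    (α : V →ₗ[K] V') (hα : Function.Bijective α) (hc : ∀ p, α (l p) = l' (a p)) (r : ℕ)
    (hr : Module.finrank K V' = r) : Nonempty (Smith l l' a r) := by
  subst hr
  let N' : Submodule R V' := LinearMap.range l'
  have i1 : Submodule.IsLattice K N' := isLattice_range l'
  let αR : V →ₗ[R] V' := α.restrictScalars R
  let N : Submodule R V' := LinearMap.range (αR ∘ₗ l)
  have hNN : N ≤ N' := by
    rintro _ ⟨p, rfl⟩
    exact ⟨a p, (hc p).symm⟩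
  have i2 : Submodule.IsLattice K N := by
    let αE : V ≃ₗ[R] V' := LinearEquiv.ofBijective αR hα
    have : IsLocalizedModule (nonZeroDivisors R) (αE.toLinearMap ∘ₗ l) := inferInstance
    exact isLattice_range (αE.toLinearMap ∘ₗ l)
  obtain ⟨b', b, c, hbc⟩ := exists_smith_lattice (K := K) N N' hNN
  choose e he using fun j => (b j).2
  choose e' he' using fun j => (b' j).2
  have hind' : LinearIndependent R (fun j => l' (e' j)) := by
    have h1 : (fun j => l' (e' j)) = N'.subtype ∘ b' := funext fun j => he' j
    rw [h1]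
    exact b'.linearIndependent.map' _ (Submodule.ker_subtype _)
  refine ⟨⟨e, e', c, fun j hj => ?_, fun j => ?_, fun p => ?_, fun p => ?_, hind'⟩⟩
  · have h1 := hbc j
    rw [hj, zero_smul] at h1
    exact b.ne_zero j (Subtype.ext h1)
  · rw [← hc, he']
    exact (he j).trans (hbc j)
  · refine ⟨b.repr ⟨αR (l p), p, rfl⟩, hα.1 ?_⟩
    have h1 := congrArg N.subtype (b.sum_repr ⟨αR (l p), p, rfl⟩)
    rw [map_sum] at h1
    have h2 : α (l (∑ j, (b.repr ⟨αR (l p), p, rfl⟩) j • e j)) =
        ∑ j, N.subtype ((b.repr ⟨αR (l p), p, rfl⟩) j • b j) := by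
      change αR _ = _
      rw [map_sum, map_sum]
      refine Finset.sum_congr rfl (fun j _ => ?_)
      rw [map_smul, map_smul, map_smul]
      congr 1
      exact he j
    rw [h2]
    exact h1.symm
  · refine ⟨b'.repr ⟨l' p, p, rfl⟩, ?_⟩
    have h1 := congrArg N'.subtype (b'.sum_repr ⟨l' p, p, rfl⟩)
    rw [map_sum] at h1
    rw [map_sum]
    refine Eq.trans h1.symm ?_
    refine Finset.sum_congr rfl (fun j _ => ?_)
    rw [map_smul, map_smul]
    congr 1
    exact (he' j).symm

variable {l : P →ₗ[R] V} {l' : P' →ₗ[R] V'} {a : P →ₗ[R] P'} {r : ℕ}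

omit [IsDomain R] [IsPrincipalIdealRing R] [Module.Finite R P] [Module.Finite R P'] in
theorem Smith.coord (S : Smith l l' a r) (hc : ∀ p, l p = 0 → l' (a p) = 0) (p : P) :
    ∃ t : Fin r → R, l' (a p) = ∑ j, (t j * S.c j) • l' (S.e' j) := by
  obtain ⟨t, ht⟩ := S.gen p
  refine ⟨t, ?_⟩
  have h1 : l' (a (p - ∑ j, t j • S.e j)) = 0 := hc _ (by rw [map_sub, ht, sub_self])
  rw [map_sub, map_sub, sub_eq_zero] at h1
  rw [h1, map_sum, map_sum]
  refine Finset.sum_congr rfl (fun j _ => ?_)
  rw [map_smul, map_smul, S.eq, smul_smul]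

omit [IsDomain R] [IsPrincipalIdealRing R] [Module.Finite R P] [Module.Finite R P'] in
/-- The elementary divisors divide each element killing the cokernel. -/
theorem Smith.dvd (S : Smith l l' a r) (hc : ∀ p, l p = 0 → l' (a p) = 0) (f : R)
    (hf : ∀ p', ∃ p, a p = f • p') (j : Fin r) : S.c j ∣ f := by
  obtain ⟨p, hp⟩ := hf (S.e' j)
  obtain ⟨t, ht⟩ := S.coord hc p
  rw [hp, map_smul] at ht
  have h1 : ∑ i, (t i * S.c i - if i = j then f else 0) • l' (S.e' i) = 0 := by
    simp only [sub_smul, Finset.sum_sub_distrib, ite_smul, zero_smul, Finset.sum_ite_eq',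
      Finset.mem_univ, if_true]
    rw [← ht, sub_self]
  have h2 := Fintype.linearIndependent_iff.mp S.indep _ h1 j
  simp only [if_true] at h2
  exact ⟨t j, by rw [mul_comm]; exact (sub_eq_zero.mp h2).symm⟩

omit [IsDomain R] [IsPrincipalIdealRing R] [Module.Finite R P] [Module.Finite R P'] in
/-- The number of elementary divisors which are not units is at most the number of generators of the
cokernel. -/
theorem Smith.card_le [IsLocalRing R] (S : Smith l l' a r) (hc : ∀ p, l p = 0 → l' (a p) = 0)
    (s : ℕ) (g : Fin s → P') (hg : ∀ p', ∃ (t : Fin s → R) (p : P), p' = ∑ i, t i • g i + a p) :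
    Nat.card {j // ¬ IsUnit (S.c j)} ≤ s := by
  classical
  let κ := IsLocalRing.ResidueField R
  let J := {j // ¬ IsUnit (S.c j)}
  -- coordinates of the generators
  choose τ hτ using fun i => S.gen' (g i)
  let φ : Fin s → (J → κ) := fun i j => IsLocalRing.residue R (τ i j.1)
  have hspan : Submodule.span κ (Set.range φ) = ⊤ := by
    rw [eq_top_iff, ← (Pi.basisFun κ J).span_eq, Submodule.span_le]
    rintro _ ⟨j, rfl⟩
    obtain ⟨t, p, hp⟩ := hg (S.e' j.1)
    obtain ⟨w, hw⟩ := S.coord hc p
    have h1 : l' (S.e' j.1) = ∑ i, (∑ k, t k * τ k i + w i * S.c i) • l' (S.e' i) := by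
      conv_lhs => rw [hp]
      rw [map_add, hw, map_sum]
      simp only [add_smul, Finset.sum_add_distrib, Finset.sum_smul]
      congr 1
      rw [Finset.sum_comm]
      refine Finset.sum_congr rfl (fun k _ => ?_)
      rw [map_smul, hτ, map_sum, Finset.smul_sum]
      refine Finset.sum_congr rfl (fun i _ => ?_)
      rw [map_smul, smul_smul]
    have h2 : ∀ i, ∑ k, t k * τ k i + w i * S.c i = if i = j.1 then 1 else 0 := by
      have h3 : ∑ i, ((∑ k, t k * τ k i + w i * S.c i) - if i = j.1 then 1 else 0) •
          l' (S.e' i) = 0 := by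
        simp only [sub_smul, Finset.sum_sub_distrib, ite_smul, zero_smul, one_smul,
          Finset.sum_ite_eq', Finset.mem_univ, if_true]
        rw [← h1, sub_self]
      intro i
      exact sub_eq_zero.mp (Fintype.linearIndependent_iff.mp S.indep _ h3 i)
    have h4 : (Pi.basisFun κ J) j = ∑ k, IsLocalRing.residue R (t k) • φ k := by
      funext i
      have h5 := congrArg (IsLocalRing.residue R) (h2 i.1)
      rw [map_add, map_sum, map_mul (IsLocalRing.residue R) (w i.1)] at h5
      have h6 : IsLocalRing.residue R (S.c i.1) = 0 := by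
        rw [IsLocalRing.residue_eq_zero_iff]
        exact i.2
      rw [h6, mul_zero, add_zero] at h5
      rw [Finset.sum_apply]
      simp only [Pi.smul_apply, smul_eq_mul, φ]
      rw [← Finset.sum_congr rfl (fun k _ => map_mul (IsLocalRing.residue R) (t k) (τ k i.1)), h5]
      by_cases hij : i = j
      · subst hij
        simp
      · have : i.1 ≠ j.1 := fun h => hij (Subtype.ext h)
        simp [hij, this]
    rw [h4]
    exact Submodule.sum_mem _ (fun k _ => Submodule.smul_mem _ _ (Submodule.subset_span ⟨k, rfl⟩))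
  have h7 := finrank_range_le_card (R := κ) φ
  rw [Set.finrank, hspan, finrank_top, Module.finrank_fintype_fun_eq_card] at h7
  rw [Nat.card_eq_fintype_card]
  exact h7.trans (Fintype.card_fin s).le

omit [IsDomain R] [IsPrincipalIdealRing R] [Module.Finite R P] [Module.Finite R P'] in
/-- If a prime element `f` kills the cokernel then the product of the elementary divisors is
associated to `f ^ k`. -/
theorem Smith.associated (S : Smith l l' a r) (hc : ∀ p, l p = 0 → l' (a p) = 0) (f : R)
    (hf : ∀ p', ∃ p, a p = f • p') (hf' : Irreducible f) :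
    Associated (∏ j, S.c j) (f ^ Nat.card {j // ¬ IsUnit (S.c j)}) := by
  classical
  have h1 : ∀ j, Associated (S.c j) (if IsUnit (S.c j) then 1 else f) := by
    intro j
    by_cases hj : IsUnit (S.c j)
    · rw [if_pos hj]
      exact associated_one_iff_isUnit.mpr hj
    · rw [if_neg hj]
      obtain ⟨d, hd⟩ := S.dvd hc f hf j
      have h2 := (hf'.isUnit_or_isUnit hd).resolve_left hj
      exact ⟨h2.unit, hd.symm⟩
  have h2 : ∏ j, (if IsUnit (S.c j) then (1 : R) else f) =
      f ^ Nat.card {j // ¬ IsUnit (S.c j)} := by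
    rw [Finset.prod_ite, Finset.prod_const_one, one_mul, Finset.prod_const, Nat.card_eq_fintype_card,
      Fintype.card_subtype]
  rw [← h2]
  exact Associated.prod _ _ _ (fun j _ => h1 j)

end smith

end K476.DetAlg
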