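import Groth.Agent.SDiv.K476.ExtStalk
import Groth.Agent.SDiv.K476.Ref1
import Groth.Agent.SDiv.K476.DetAlg

/-!
# Top exterior powers and reflexive hulls

`L` the `r`-th exterior power of a coherent `E` of generic rank `r` on an integral locally Noetherian
scheme.  `wd hE hL x : E_x [⋀^Fin r]→ (L**)_x`; `isGen_wd`: over a principal ideal domain `O_x` the
wedge of a family which spans `E_x` modulo torsion is a generator of `(L**)_x`.
-/

set_option autoImplicit false
set_option backward.isDefEq.respectTransparency false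

universe u

noncomputable section

open CategoryTheory CategoryTheory.Limits AlgebraicGeometry TopologicalSpace Opposite
open RefHull K475.GenStalk K476.ExtStalk K476.TensStalk Groth.Agent.CycB.ModStalk

namespace K476.WedgeD

variable {X : Scheme.{u}} {r : ℕ} {E L : X.Modules}

/-- The wedge product with values in the reflexive hull. -/
def wd (hE : Coh.IsQCoh E) (hL : ExtPow.IsExtPow r E L) (x : X) :
    (E.presheaf.stalk x) [⋀^Fin r]→ₗ[X.presheaf.stalk x] (ddual L).presheaf.stalk x :=
  (stalkMapₗ (bidualMap L) x).compAlternatingMap (wedge hE hL x)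

theorem wd_apply (hE : Coh.IsQCoh E) (hL : ExtPow.IsExtPow r E L) (x : X)
    (v : Fin r → E.presheaf.stalk x) :
    wd hE hL x v = stalkMapₗ (bidualMap L) x (wedge hE hL x v) := rfl

theorem stalkSpecializes_wd (hE : Coh.IsQCoh E) (hL : ExtPow.IsExtPow r E L) {x y : X}
    (h : y ⤳ x) (v : Fin r → E.presheaf.stalk x) :
    (ddual L).presheaf.stalkSpecializes h (wd hE hL x v) =
      wd hE hL y (fun j => E.presheaf.stalkSpecializes h (v j)) := by
  rw [wd_apply, wd_apply, ← stalkSpecializes_wedge hE hL h]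
  exact (stalkMapₗ_spec (bidualMap L) h _).symm

/-- The biduality map is surjective over a principal ideal domain. -/
theorem bidualMap_surjective_of_pid [IsIntegral X] [IsLocallyNoetherian X] (hL : Coh.IsCoh L)
    (x : X) (hp : IsPrincipalIdealRing (X.presheaf.stalk x)) :
    Function.Surjective (stalkMapₗ (bidualMap L) x) := by
  have i1 := Groth.Agent.Divis.StalkMod.finite_stalk hL x
  have h1 := K475.RefAlg.eval_surjective_of_pid (R := X.presheaf.stalk x) (L.presheaf.stalk x)
  intro v
  let Ψ := K476.HomSh4.ddualStalkEquiv L (K476.HomSh3.isFP_of_isCoh hL)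
    (K476.HomSh3.isFP_of_isCoh (K476.HomSh4.isCoh_dual hL)) x
  obtain ⟨m, hm⟩ := h1 (Ψ v)
  refine ⟨m, Ψ.injective ?_⟩
  rw [← hm]
  exact K476.HomSh4.ddualStalkEquiv_bidualMap _ _ x m

/-- `e` spans `E_x` modulo the elements which vanish generically. -/
def SpansAt [IsIntegral X] (E : X.Modules) (x : X) (e : Fin r → E.presheaf.stalk x) : Prop :=
  ∀ m : E.presheaf.stalk x, ∃ t : Fin r → X.presheaf.stalk x,
    E.presheaf.stalkSpecializes (spec x) m = E.presheaf.stalkSpecializes (spec x) (∑ j, t j • e j)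

theorem wd_mem_span [IsIntegral X] (hE : Coh.IsQCoh E) (hL : ExtPow.IsExtPow r E L)
    (hI : Inj (ddual L)) (x : X) {e : Fin r → E.presheaf.stalk x} (he : SpansAt E x e)
    (v : Fin r → E.presheaf.stalk x) :
    wd hE hL x v ∈ Submodule.span (X.presheaf.stalk x) {wd hE hL x e} := by
  choose t ht using fun j => he (v j)
  have h1 : wd hE hL x v = wd hE hL x (fun j => ∑ k, t j k • e k) := by
    apply hI x
    rw [stalkSpecializes_wd, stalkSpecializes_wd]
    congr 1
    funext j
    exact ht j
  rw [h1, K476.DetAlg.alt_comp (wd hE hL x) e t]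
  exact Submodule.smul_mem _ _ (Submodule.mem_span_singleton_self _)

theorem span_wd [IsIntegral X] [IsLocallyNoetherian X] (hE : Coh.IsCoh E)
    (hL : ExtPow.IsExtPow r E L) (x : X) (hp : IsPrincipalIdealRing (X.presheaf.stalk x))
    {e : Fin r → E.presheaf.stalk x} (he : SpansAt E x e) :
    Submodule.span (X.presheaf.stalk x) {wd hE.1 hL x e} = ⊤ := by
  have hLc := isCoh_of_isExtPow hE hL
  have hI : Inj (ddual L) := K476.Ref1.inj_of_isReflexive
    (K476.HomSh4.isCoh_dual (K476.HomSh4.isCoh_dual hLc)) (K476.Ref1.isReflexive_ddual hLc)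
  have h1 : (Submodule.span (X.presheaf.stalk x) (Set.range (wedge hE.1 hL x))).map
      (stalkMapₗ (bidualMap L) x) = ⊤ := by
    rw [span_wedge, Submodule.map_top]
    exact LinearMap.range_eq_top.mpr (bidualMap_surjective_of_pid hLc x hp)
  rw [eq_top_iff, ← h1, Submodule.map_span, Submodule.span_le]
  rintro _ ⟨_, ⟨v, rfl⟩, rfl⟩
  exact wd_mem_span hE.1 hL hI x he v

/-- The wedge of a basis of the generic stalk is a generator. -/
theorem isGen_wedge_eta [IsIntegral X] (hE : Coh.IsQCoh E) (hL : ExtPow.IsExtPow r E L)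
    (b : Module.Basis (Fin r) (X.presheaf.stalk (η X)) (E.presheaf.stalk (η X))) :
    IsGen L (η X) (wedge hE hL (η X) b) := by
  have hf : IsField (X.presheaf.stalk (η X)) := Field.toIsField X.functionField
  -- the determinant
  obtain ⟨D, hD⟩ : ∃ D : L.presheaf.stalk (η X) →ₗ[X.presheaf.stalk (η X)]
      X.presheaf.stalk (η X), D (wedge hE hL (η X) b) = 1 := by
    refine ⟨(exteriorPower.alternatingMapLinearEquiv b.det) ∘ₗ
      (wedgeEquiv hE hL (η X)).symm.toLinearMap, ?_⟩
    rw [LinearMap.comp_apply, wedge_apply]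
    have h1 : (wedgeEquiv hE hL (η X)).symm.toLinearMap (wedgeEquiv hE hL (η X)
      (exteriorPower.ιMulti _ r b)) = exteriorPower.ιMulti _ r b :=
      (wedgeEquiv hE hL (η X)).symm_apply_apply _
    rw [h1, exteriorPower.alternatingMapLinearEquiv_apply_ιMulti, Module.Basis.det_self]
  have hspan : ∀ m : L.presheaf.stalk (η X), m ∈ Submodule.span (X.presheaf.stalk (η X))
      {wedge hE hL (η X) b} := by
    intro m
    have hm : m ∈ Submodule.span (X.presheaf.stalk (η X)) (Set.range (wedge hE hL (η X))) := by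
      rw [span_wedge]; trivial
    refine Submodule.span_le.mpr ?_ hm
    rintro _ ⟨v, rfl⟩
    have h2 : v = fun j => ∑ k, (b.repr (v j) k) • b k := funext fun j => (b.sum_repr (v j)).symm
    rw [h2, K476.DetAlg.alt_comp (wedge hE hL (η X)) b (fun j k => b.repr (v j) k)]
    exact Submodule.smul_mem _ _ (Submodule.mem_span_singleton_self _)
  constructor
  · intro a c hac
    have h3 := congrArg D hac
    simp only [map_smul, hD, smul_eq_mul, mul_one] at h3
    exact h3
  · intro m
    obtain ⟨a, ha⟩ := Submodule.mem_span_singleton.mp (hspan m)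
    exact ⟨a, ha⟩

theorem genInvertible_of_isExtPow [IsIntegral X] [IsLocallyNoetherian X] (hE : Coh.IsCoh E)
    (hL : ExtPow.IsExtPow r E L)
    (b : Module.Basis (Fin r) (X.presheaf.stalk (η X)) (E.presheaf.stalk (η X))) :
    GenInvertible L :=
  (K476.Ref1.genInvertible_iff (isCoh_of_isExtPow hE hL)).mpr ⟨_, isGen_wedge_eta hE.1 hL b⟩

theorem isGen_wd_eta [IsIntegral X] [IsLocallyNoetherian X] (hE : Coh.IsCoh E)
    (hL : ExtPow.IsExtPow r E L)
    (b : Module.Basis (Fin r) (X.presheaf.stalk (η X)) (E.presheaf.stalk (η X))) :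
    IsGen (ddual L) (η X) (wd hE.1 hL (η X) b) :=
  K476.Ref1.isGen_bidual (isCoh_of_isExtPow hE hL) (isGen_wedge_eta hE.1 hL b)

/-- Over a principal ideal domain the wedge of a basis modulo torsion generates the reflexive hull. -/
theorem isGen_wd [IsIntegral X] [IsLocallyNoetherian X] (hE : Coh.IsCoh E)
    (hL : ExtPow.IsExtPow r E L)
    (b : Module.Basis (Fin r) (X.presheaf.stalk (η X)) (E.presheaf.stalk (η X)))
    (x : X) (hp : IsPrincipalIdealRing (X.presheaf.stalk x))
    {e : Fin r → E.presheaf.stalk x} (he : SpansAt E x e) :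
    IsGen (ddual L) x (wd hE.1 hL x e) := by
  have hLc := isCoh_of_isExtPow hE hL
  have hR : IsRef1 (ddual L) := K476.Ref1.isRef1_ddual hLc (genInvertible_of_isExtPow hE hL b)
  obtain ⟨t, ht⟩ := K476.Ref1.exists_isGen_of_pid hR.1 hR.2.2 x hp
    (K476.Ref1.isTorsionFree_of_isReflexive hR.1 hR.2.1 x)
  exact K476.Ref1.isGen_of_span ht (span_wd hE hL x hp he)

end K476.WedgeD
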