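import Groth.Agent.SDiv.K476.DivSec
import Groth.Agent.SDiv.K476.WedgeD
import Groth.Agent.Ega1.ClosedUnit
import Groth.Agent.Krr.H487.LocBasisPull
import Groth.Agent.Dcoh.StalkRes
import Groth.Agent.IntSh.K877.Pts

/-!
# Integral effective Cartier divisors: the generic point

* `mem_support_iff`: `x ∈ D` iff a local equation is not a unit at `x`;
* `maximalIdeal_eq`: at the generic point `ξ` of `D` the maximal ideal of `O_{X,ξ}` is generated by a
  local equation;
* `eq_genPt`: a point of codimension one on `D` is the generic point;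
* `exists_gen_push`: stalks of `i_* G` are generated by `s` elements;
* `finrank_stalk_of_restrict`.
-/

set_option autoImplicit false
set_option backward.isDefEq.respectTransparency false

universe u

noncomputable section

open CategoryTheory CategoryTheory.Limits AlgebraicGeometry TopologicalSpace Opposite
open RefHull K476.TensStalk Groth.Agent.CycB.ModStalk K475.GenStalk

namespace K476.DivPt

variable {X : Scheme.{u}}

section push

open Groth.Agent.Fdesc.PullbackStalk Groth.Agent.Ega1.ClosedUnit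

variable {Y : Scheme.{u}}

/-- The stalk of a direct image along a closed immersion is generated by lifts of generators. -/
theorem exists_gen_push (i : Y ⟶ X) [IsClosedImmersion i] (G : Y.Modules) (y : Y) (s : ℕ)
    (b : Module.Basis (Fin s) (Y.presheaf.stalk y) (G.presheaf.stalk y)) :
    ∃ g : Fin s → ((Scheme.Modules.pushforward i).obj G).presheaf.stalk (i y), ∀ t,
      ∃ c : Fin s → X.presheaf.stalk (i y), t = ∑ j, c j • g j := by
  have hb := pushAdd_bijective i i.isClosedEmbedding.isInducing G y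
  choose g hg using fun j => hb.2 (b j)
  refine ⟨g, fun t => ?_⟩
  choose c hc using fun j => i.stalkMap_surjective y (b.repr (pushAdd i G y t) j)
  refine ⟨c, hb.1 ?_⟩
  rw [map_sum]
  conv_lhs => rw [← b.sum_repr (pushAdd i G y t)]
  refine Finset.sum_congr rfl (fun j _ => ?_)
  rw [← hc j, ← hg j]
  exact (pushAdd_smul i G y (c j) (g j)).symm

/-- The maximal ideal of `O_{X, i y}` kills `(i_* G)_{i y}` if `O_{Y,y}` is a field. -/
theorem smul_push_eq_zero (i : Y ⟶ X) [IsClosedImmersion i] (G : Y.Modules) (y : Y)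
    (hy : IsField (Y.presheaf.stalk y)) (a : X.presheaf.stalk (i y))
    (ha : a ∈ IsLocalRing.maximalIdeal (X.presheaf.stalk (i y)))
    (t : ((Scheme.Modules.pushforward i).obj G).presheaf.stalk (i y)) : a • t = 0 := by
  apply pushAdd_injective i i.isClosedEmbedding.isInducing G y
  have h1 := pushAdd_smul i G y a t
  have h2 : i.stalkMap y a = 0 := by
    have h3 : (i.stalkMap y).hom a ∈ IsLocalRing.maximalIdeal (Y.presheaf.stalk y) := by
      rw [IsLocalRing.mem_maximalIdeal] at ha ⊢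
      intro hu
      exact ha ((isUnit_map_iff (i.stalkMap y).hom a).mp hu)
    rw [IsLocalRing.isField_iff_maximalIdeal_eq.mp hy] at h3
    exact h3
  rw [h2, zero_smul] at h1
  exact h1.trans (map_zero _).symm

end push

/-! ### The divisor -/

variable {𝓓 : X.IdealSheafData}

theorem mem_support_iff {x : X} {U : X.affineOpens} (hx : x ∈ U.1) {f : Γ(X, U.1)}
    (hf : 𝓓.ideal U = Ideal.span {f}) :
    x ∈ Set.range 𝓓.subschemeι ↔ ¬ IsUnit (X.presheaf.germ U.1 x hx f) := by
  rw [Scheme.IdealSheafData.range_subschemeι]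
  change x ∈ 𝓓.support ↔ _
  rw [Scheme.IdealSheafData.mem_support_iff_of_mem hx, hf, Scheme.zeroLocus_span,
    Scheme.mem_zeroLocus_iff]
  simp [Scheme.mem_basicOpen X f x hx]

/-- At the generic point of `D` the maximal ideal is generated by the local equation. -/
theorem maximalIdeal_eq [IsIntegral 𝓓.subscheme] {U : X.affineOpens}
    (hx : 𝓓.subschemeι (genericPoint 𝓓.subscheme) ∈ U.1) {f : Γ(X, U.1)}
    (hf : 𝓓.ideal U = Ideal.span {f}) :
    IsLocalRing.maximalIdeal (X.presheaf.stalk (𝓓.subschemeι (genericPoint 𝓓.subscheme))) =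
      Ideal.span {X.presheaf.germ U.1 _ hx f} := by
  set ζ := genericPoint 𝓓.subscheme with hζ
  apply le_antisymm
  · intro g hg
    have h2 : (𝓓.subschemeι.stalkMap ζ).hom g = 0 := by
      have h3 : (𝓓.subschemeι.stalkMap ζ).hom g ∈
          IsLocalRing.maximalIdeal (𝓓.subscheme.presheaf.stalk ζ) := by
        rw [IsLocalRing.mem_maximalIdeal] at hg ⊢
        intro hu
        exact hg ((isUnit_map_iff (𝓓.subschemeι.stalkMap ζ).hom g).mp hu)
      have hfield : IsField (𝓓.subscheme.presheaf.stalk ζ) :=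
        Field.toIsField 𝓓.subscheme.functionField
      rw [IsLocalRing.isField_iff_maximalIdeal_eq.mp hfield] at h3
      exact h3
    obtain ⟨V, hV, g, rfl⟩ := X.presheaf.exists_germ_eq g
    obtain ⟨W, hWa, hxW, hWUV⟩ := exists_isAffineOpen_mem_and_subset (x := 𝓓.subschemeι ζ)
      (U := U.1 ⊓ V) ⟨hx, hV⟩
    let W' : X.affineOpens := ⟨W, hWa⟩
    have hWU : W ≤ U.1 := (show W ≤ U.1 ⊓ V from hWUV).trans inf_le_left
    have hWV : W ≤ V := (show W ≤ U.1 ⊓ V from hWUV).trans inf_le_right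
    let g' : Γ(X, W) := X.presheaf.map (homOfLE hWV).op g
    have hg' : X.presheaf.germ W _ hxW g' = X.presheaf.germ V _ hV g :=
      TopCat.Presheaf.germ_res_apply X.presheaf (homOfLE hWV) _ hxW g
    have h4 : 𝓓.subschemeι.app W g' = 0 := by
      rw [← hg'] at h2
      have h5 : (𝓓.subschemeι.stalkMap ζ).hom (X.presheaf.germ W (𝓓.subschemeι ζ) hxW g') =
          𝓓.subscheme.presheaf.germ (𝓓.subschemeι ⁻¹ᵁ W) ζ hxW (𝓓.subschemeι.app W g') :=
        Scheme.Hom.germ_stalkMap_apply 𝓓.subschemeι W ζ hxW g'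
      rw [h5] at h2
      have : Nonempty (𝓓.subschemeι ⁻¹ᵁ W) := ⟨⟨ζ, hxW⟩⟩
      exact (map_eq_zero_iff _ (𝓓.subscheme.germToFunctionField_injective
        (𝓓.subschemeι ⁻¹ᵁ W))).mp h2
    have h6 : g' ∈ 𝓓.ideal W' := by
      rw [← 𝓓.ker_subschemeι_app W', RingHom.mem_ker]
      exact h4
    have h7 : 𝓓.ideal W' = Ideal.span {Groth.Agent.Fdesc.LocGen.ores hWU f} :=
      Groth.Agent.Ega1.IdealGen.ideal_eq_span_ores 𝓓 (A := U) (B := W') hWU hf
    rw [h7, Ideal.mem_span_singleton] at h6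
    obtain ⟨c, hc⟩ := h6
    rw [← hg', Ideal.mem_span_singleton]
    refine ⟨X.presheaf.germ W _ hxW c, ?_⟩
    rw [hc, map_mul]
    congr 1
    exact TopCat.Presheaf.germ_res_apply X.presheaf (homOfLE hWU) _ hxW f
  · rw [Ideal.span_singleton_le_iff_mem, IsLocalRing.mem_maximalIdeal]
    exact (mem_support_iff hx hf).mp ⟨_, rfl⟩

theorem eta_notMem_range [IsIntegral X] [IsLocallyNoetherian X]
    (hD : BlowUp.IsEffCartierIdeal 𝓓) : η X ∉ Set.range 𝓓.subschemeι := by
  obtain ⟨U, hx, f, δ, hf, hU, -, -⟩ := K476.DivSec.exists_local hD (η X)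
  rw [mem_support_iff hx hU, not_not]
  have hne : Nonempty U.1 := ⟨⟨_, hx⟩⟩
  refine IsUnit.mk0 (G₀ := X.functionField) _ ?_
  intro h0
  exact nonZeroDivisors.ne_zero hf ((map_eq_zero_iff _ (X.germToFunctionField_injective U.1)).mp h0)

/-- The only point of codimension one on an integral effective Cartier divisor is its generic
point. -/
theorem eq_genPt [IsIntegral X] [IsLocallyNoetherian X] [IsIntegral 𝓓.subscheme]
    (hD : BlowUp.IsEffCartierIdeal 𝓓) {x : X} (hx : x ∈ Set.range 𝓓.subschemeι)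
    (hdim : ringKrullDim (X.presheaf.stalk x) = 1) :
    x = 𝓓.subschemeι (genericPoint 𝓓.subscheme) := by
  obtain ⟨z, rfl⟩ := hx
  by_contra hne
  have h1 : 𝓓.subschemeι (genericPoint 𝓓.subscheme) ⤳ 𝓓.subschemeι z :=
    (genericPoint_specializes z).map 𝓓.subschemeι.continuous
  have h2 := Groth.Agent.IntSh.K877.Pts.dim_lt h1 (Ne.symm hne)
  have h3 : η X ≠ 𝓓.subschemeι (genericPoint 𝓓.subscheme) :=
    fun h => eta_notMem_range hD ⟨_, h.symm⟩
  have h4 := Groth.Agent.IntSh.K877.Pts.dim_lt (spec _) h3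
  have h5 := Groth.Agent.IntSh.K877.Pts.dim_nonneg (η X)
  have h6 : (0 : WithBot ℕ∞) < ringKrullDim (X.presheaf.stalk
      (𝓓.subschemeι (genericPoint 𝓓.subscheme))) := lt_of_le_of_lt h5 h4
  rw [hdim] at h2
  obtain ⟨n, hn⟩ := Groth.Agent.IntSh.K877.Pts.exists_dim
    (𝓓.subschemeι (genericPoint 𝓓.subscheme))
  rw [hn] at h2 h6
  have h7 : n < 1 := by exact_mod_cast h2
  have h8 : 0 < n := by exact_mod_cast h6
  omega

/-- The rank of a stalk of a module which is locally free of rank `r` on a neighbourhood. -/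
theorem finrank_stalk_of_restrict {M : X.Modules} {U : X.Opens} {r : ℕ}
    (h : FlatMod.IsFinLocFreeOfRank r (M.restrict U.ι)) {x : X} (hx : x ∈ U) :
    Module.finrank (X.presheaf.stalk x) (M.presheaf.stalk x) = r := by
  obtain ⟨V, hV, e⟩ := h (⟨x, hx⟩ : U)
  obtain ⟨b, hb⟩ := Groth.Agent.Sga67.LocBasis.nonempty_restrict_iso_iff.mp e
  obtain ⟨β, -⟩ := Groth.Agent.Krr.H487.LocBasisPull.exists_stalkBasis hb (⟨x, hx⟩ : U) hV
  have h1 : Module.rank ((U : Scheme.{u}).presheaf.stalk (⟨x, hx⟩ : U))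
      ((M.restrict U.ι).presheaf.stalk (⟨x, hx⟩ : U)) =
      Module.rank (X.presheaf.stalk x) (M.presheaf.stalk x) := by
    refine rank_eq_of_equiv_equiv (Groth.Agent.Dcoh.StalkRes.ringIso U.ι (⟨x, hx⟩ : U)).symm
      (Groth.Agent.Dcoh.StalkRes.addIso U.ι M (⟨x, hx⟩ : U))
      (Groth.Agent.Dcoh.StalkRes.ringIso U.ι (⟨x, hx⟩ : U)).symm.bijective (fun r m => ?_)
    have h2 := Groth.Agent.Dcoh.StalkRes.addIso_smul U.ι M (⟨x, hx⟩ : U)
      ((Groth.Agent.Dcoh.StalkRes.ringIso U.ι (⟨x, hx⟩ : U)).symm r) m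
    rw [RingEquiv.apply_symm_apply] at h2
    exact h2
  have h3 : Nontrivial ((U : Scheme.{u}).presheaf.stalk (⟨x, hx⟩ : U)) := inferInstance
  rw [Module.finrank, ← h1, rank_eq_card_basis β, Fintype.card_fin]
  exact Cardinal.toNat_natCast r

theorem exists_basis_stalk {M : X.Modules} {r : ℕ}
    (h : FlatMod.IsFinLocFreeOfRank r M) (x : X) :
    Nonempty (Module.Basis (Fin r) (X.presheaf.stalk x) (M.presheaf.stalk x)) := by
  obtain ⟨V, hV, e⟩ := h x
  obtain ⟨b, hb⟩ := Groth.Agent.Sga67.LocBasis.nonempty_restrict_iso_iff.mp e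
  obtain ⟨β, -⟩ := Groth.Agent.Krr.H487.LocBasisPull.exists_stalkBasis hb x hV
  exact ⟨β⟩

theorem exists_basis_eta [IsIntegral X] {M : X.Modules} (hM : Coh.IsCoh M) {r : ℕ}
    (h : Module.finrank (X.presheaf.stalk (η X)) (M.presheaf.stalk (η X)) = r) :
    Nonempty (Module.Basis (Fin r) (X.presheaf.stalk (η X)) (M.presheaf.stalk (η X))) := by
  let i2 := K475.Codim1.ffModule M
  have i3 : Module.Finite X.functionField (M.presheaf.stalk (η X)) :=
    Groth.Agent.Divis.StalkMod.finite_stalk hM (η X)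
  have h1 : Module.finrank X.functionField (M.presheaf.stalk (η X)) = r := h
  exact ⟨Module.finBasisOfFinrankEq X.functionField _ h1⟩

end K476.DivPt
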