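import Groth.Agent.SDiv.K476.ModTwist
import Groth.Agent.SDiv.K476.DivPt
import Groth.Agent.CycB.PushStalk

/-!
# Modifications along an integral effective Cartier divisor: the elementary divisors
-/

set_option autoImplicit false
set_option backward.isDefEq.respectTransparency false

universe u

noncomputable section

open CategoryTheory CategoryTheory.Limits AlgebraicGeometry TopologicalSpace Opposite
open RefHull K475.GenStalk K476.ExtStalk K476.TensStalk Groth.Agent.CycB.ModStalk K476.WedgeD
open K476.DivSec K476.RegRef K476.ModTwist K476.DivPt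

namespace K476.ModTwist2

variable {X : Scheme.{u}} [IsIntegral X] [IsLocallyNoetherian X] {r : ℕ} {F F' : X.Modules}

/-- Elementary divisors at a point whose local ring is a principal ideal domain. -/
theorem exists_smithAt (hF : Coh.IsCoh F) (hF' : Coh.IsCoh F') (a : F ⟶ F')
    (hα : Function.Bijective (stalkMapₗ a (η X)))
    (hr : Module.finrank (X.presheaf.stalk (η X)) (F'.presheaf.stalk (η X)) = r) (x : X)
    (hp : IsPrincipalIdealRing (X.presheaf.stalk x)) :
    ∃ (e : Fin r → F.presheaf.stalk x) (e' : Fin r → F'.presheaf.stalk x)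
      (c : Fin r → X.presheaf.stalk x), SpansAt F x e ∧ SpansAt F' x e' ∧ (∀ j, c j ≠ 0) ∧
      (∀ j, F'.presheaf.stalkSpecializes (spec x) (stalkMapₗ a x (e j)) =
        F'.presheaf.stalkSpecializes (spec x) (c j • e' j)) ∧
      (∀ f, (∀ p', ∃ p, stalkMapₗ a x p = f • p') → ∀ j, c j ∣ f) ∧
      (∀ (s : ℕ) (g : Fin s → F'.presheaf.stalk x), (∀ p', ∃ (t : Fin s → X.presheaf.stalk x) (p : _),
        p' = ∑ i, t i • g i + stalkMapₗ a x p) → Nat.card {j // ¬ IsUnit (c j)} ≤ s) ∧
      (∀ f, (∀ p', ∃ p, stalkMapₗ a x p = f • p') → Irreducible f →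
        Associated (∏ j, c j) (f ^ Nat.card {j // ¬ IsUnit (c j)})) := by
  let i1 := Groth.Agent.CycB.CohStalk.specModule F (spec x)
  let i2 := K475.Codim1.ffModule F
  have i3 := K475.Codim1.isScalarTower_eta F x
  have i4 := K475.Codim1.isLocalizedModule_eta F hF.1 x
  have i5 := Groth.Agent.Divis.StalkMod.finite_stalk hF x
  let j1 := Groth.Agent.CycB.CohStalk.specModule F' (spec x)
  let j2 := K475.Codim1.ffModule F'
  have j3 := K475.Codim1.isScalarTower_eta F' x
  have j4 := K475.Codim1.isLocalizedModule_eta F' hF'.1 x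
  have j5 := Groth.Agent.Divis.StalkMod.finite_stalk hF' x
  have j6 : Module.Finite X.functionField (F'.presheaf.stalk (η X)) :=
    Groth.Agent.Divis.StalkMod.finite_stalk hF' (η X)
  let α : F.presheaf.stalk (η X) →ₗ[X.functionField] F'.presheaf.stalk (η X) :=
    stalkMapₗ a (η X)
  obtain ⟨S⟩ := K476.DetAlg.exists_smith X.functionField
    (Groth.Agent.CycB.CohStalk.specLin F (spec x))
    (Groth.Agent.CycB.CohStalk.specLin F' (spec x)) (stalkMapₗ a x) α hα
    (fun p => stalkMapₗ_spec a (spec x) p) r hr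
  have hc : ∀ p, Groth.Agent.CycB.CohStalk.specLin F (spec x) p = 0 →
      Groth.Agent.CycB.CohStalk.specLin F' (spec x) (stalkMapₗ a x p) = 0 := by
    intro p hp
    have h1 : stalkMapₗ a (η X) (F.presheaf.stalkSpecializes (spec x) p) =
      F'.presheaf.stalkSpecializes (spec x) (stalkMapₗ a x p) := stalkMapₗ_spec a (spec x) p
    have h2 : F.presheaf.stalkSpecializes (spec x) p = 0 := hp
    rw [h2, map_zero] at h1
    exact h1.symm
  refine ⟨S.e, S.e', S.c, S.gen, S.gen', S.ne_zero, fun j => ?_, fun f hf j => S.dvd hc f hf j,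
    fun s g hg => S.card_le hc s g hg, fun f hf hf' => S.associated hc f hf hf'⟩
  have h1 := S.eq j
  rw [← map_smul] at h1
  exact h1

/-- The elementary divisors away from the divisor. -/
theorem twistAt_of_surjective (hF : Coh.IsCoh F) (hF' : Coh.IsCoh F') (a : F ⟶ F')
    (hα : Function.Bijective (stalkMapₗ a (η X)))
    (hr : Module.finrank (X.presheaf.stalk (η X)) (F'.presheaf.stalk (η X)) = r)
    {𝓓 : X.IdealSheafData} (hD : BlowUp.IsEffCartierIdeal 𝓓) (k : ℕ) (x : X)
    (hp : IsPrincipalIdealRing (X.presheaf.stalk x)) (hx : x ∉ Set.range 𝓓.subschemeι)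
    (hs : Function.Surjective (stalkMapₗ a x)) : TwistAt a 𝓓 r k x := by
  obtain ⟨e, e', c, he, he', hc0, hc, hdvd, -, -⟩ := exists_smithAt hF hF' a hα hr x hp
  obtain ⟨U, hxU, f, δ, -, hU, hδ, hf⟩ := exists_local hD x
  have h1 : IsUnit (X.presheaf.germ U.1 x hxU f) := by
    by_contra h
    exact hx ((mem_support_iff hxU hU).mpr h)
  refine ⟨e, e', c, _, δ, he, he', hc0, hc, hδ, hf, ?_⟩
  have h2 : ∀ j, IsUnit (c j) := fun j => isUnit_iff_dvd_one.mpr (hdvd 1 (fun p' => by
    obtain ⟨p, hp⟩ := hs p'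
    exact ⟨p, by rw [hp, one_smul]⟩) j)
  have h3 : IsUnit (∏ j, c j) :=
    Finset.prod_induction _ IsUnit (fun _ _ => IsUnit.mul) isUnit_one (fun j _ => h2 j)
  exact (associated_one_iff_isUnit.mpr h3).trans
    (associated_one_iff_isUnit.mpr (h1.pow k)).symm

/-- Existence of the twist for a modification along an integral effective Cartier divisor. -/
theorem exists_twist (hX : Pi1.IsNormalScheme X) (hF : Coh.IsCoh F) (hF' : Coh.IsCoh F')
    {𝓓 : X.IdealSheafData} (hD : BlowUp.IsEffCartierIdeal 𝓓) [IsIntegral 𝓓.subscheme] (s : ℕ)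
    (G : (𝓓.subscheme).Modules) (hG : FlatMod.IsFinLocFreeOfRank s G)
    (a : F ⟶ F') (b : F' ⟶ (Scheme.Modules.pushforward 𝓓.subschemeι).obj G) (w : a ≫ b = 0)
    (hex : (ShortComplex.mk a b w).Exact) (hb : Epi b)
    (hr : Module.finrank (X.presheaf.stalk (η X)) (F.presheaf.stalk (η X)) = r)
    (hr' : Module.finrank (X.presheaf.stalk (η X)) (F'.presheaf.stalk (η X)) = r) :
    Function.Bijective (stalkMapₗ a (η X)) ∧ ∃ k : ℕ, k ≤ min s r ∧
      ∀ x : X, ringKrullDim (X.presheaf.stalk x) = 1 → TwistAt a 𝓓 r k x := by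
  have hexx : ∀ x, Function.Exact (stalkMapₗ a x) (stalkMapₗ b x) := fun x => by
    rw [K476.HomSh1.stalkMapₗ_eq, K476.HomSh1.stalkMapₗ_eq]
    exact Groth.Agent.CycB.StalkExact.stalkLin_exact _ hex x
  have hbx : ∀ x, Function.Surjective (stalkMapₗ b x) := fun x => by
    rw [K476.HomSh1.stalkMapₗ_eq]
    exact Groth.Agent.CycB.StalkExact.stalkLin_surjective b x
  have hsurj : ∀ x, x ∉ Set.range 𝓓.subschemeι → Function.Surjective (stalkMapₗ a x) := by
    intro x hx p'
    have h1 : Subsingleton (((Scheme.Modules.pushforward 𝓓.subschemeι).obj G).presheaf.stalk x) :=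
      Groth.Agent.CycB.PushStalk.subsingleton_stalk_push _ G x (by
        rwa [𝓓.subschemeι.isClosedEmbedding.isClosed_range.closure_eq])
    exact ((hexx x) p').mp (Subsingleton.elim _ _)
  have hα : Function.Bijective (stalkMapₗ a (η X)) := by
    let i2 := K475.Codim1.ffModule F
    let j2 := K475.Codim1.ffModule F'
    have i6 : Module.Finite X.functionField (F.presheaf.stalk (η X)) :=
      Groth.Agent.Divis.StalkMod.finite_stalk hF (η X)
    have j6 : Module.Finite X.functionField (F'.presheaf.stalk (η X)) :=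
      Groth.Agent.Divis.StalkMod.finite_stalk hF' (η X)
    let α : F.presheaf.stalk (η X) →ₗ[X.functionField] F'.presheaf.stalk (η X) :=
      stalkMapₗ a (η X)
    have hs : Function.Surjective α := hsurj _ (eta_notMem_range hD)
    have h1 : Module.finrank X.functionField (F.presheaf.stalk (η X)) =
        Module.finrank X.functionField (F'.presheaf.stalk (η X)) := hr.trans hr'.symm
    exact ⟨(LinearMap.injective_iff_surjective_of_finrank_eq_finrank h1).mpr hs, hs⟩
  refine ⟨hα, ?_⟩
  set ζ := genericPoint 𝓓.subscheme with hζ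
  have hp1 : ∀ x : X, ringKrullDim (X.presheaf.stalk x) = 1 →
      IsPrincipalIdealRing (X.presheaf.stalk x) := fun x hx => by
    have := K476.Ref1.isDVR_of_dim_one hX x hx
    infer_instance
  by_cases hdim : ringKrullDim (X.presheaf.stalk (𝓓.subschemeι ζ)) = 1
  · obtain ⟨e, e', c, he, he', hc0, hc, hdvd, hcard, hass⟩ :=
      exists_smithAt hF hF' a hα hr' (𝓓.subschemeι ζ) (hp1 _ hdim)
    refine ⟨Nat.card {j // ¬ IsUnit (c j)}, ?_, fun x hx => ?_⟩
    · refine le_min ?_ ?_
      · obtain ⟨β⟩ := exists_basis_stalk hG ζ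
        obtain ⟨g, hg⟩ := exists_gen_push 𝓓.subschemeι G ζ s β
        choose g' hg' using fun i => hbx (𝓓.subschemeι ζ) (g i)
        refine hcard s g' (fun p' => ?_)
        obtain ⟨t, ht⟩ := hg (stalkMapₗ b (𝓓.subschemeι ζ) p')
        have h1 : stalkMapₗ b (𝓓.subschemeι ζ) (p' - ∑ i, t i • g' i) = 0 := by
          rw [map_sub, ht, map_sum, sub_eq_zero]
          exact Finset.sum_congr rfl (fun i _ => by rw [map_smul, hg'])
        obtain ⟨p, hp⟩ := ((hexx (𝓓.subschemeι ζ)) _).mp h1
        exact ⟨t, p, by rw [hp]; abel⟩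
      · calc Nat.card {j // ¬ IsUnit (c j)} ≤ Nat.card (Fin r) :=
              Nat.card_le_card_of_injective _ Subtype.val_injective
          _ = r := Nat.card_fin r
    · by_cases hxD : x ∈ Set.range 𝓓.subschemeι
      · obtain rfl := eq_genPt hD hxD hx
        obtain ⟨U, hxU, f, δ, -, hU, hδ, hf⟩ := exists_local hD (𝓓.subschemeι ζ)
        refine ⟨e, e', c, _, δ, he, he', hc0, hc, hδ, hf, hass _ (fun p' => ?_) ?_⟩
        · have h1 : stalkMapₗ b (𝓓.subschemeι ζ) (X.presheaf.germ U.1 _ hxU f • p') = 0 := by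
            rw [map_smul]
            refine smul_push_eq_zero 𝓓.subschemeι G ζ
              (Field.toIsField 𝓓.subscheme.functionField) _ ?_ _
            rw [maximalIdeal_eq hxU hU]
            exact Ideal.mem_span_singleton_self _
          exact ((hexx (𝓓.subschemeι ζ)) _).mp h1
        · have := K476.Ref1.isDVR_of_dim_one hX _ hdim
          exact (IsDiscreteValuationRing.irreducible_iff_uniformizer _).mpr (maximalIdeal_eq hxU hU)
      · exact twistAt_of_surjective hF hF' a hα hr' hD _ x (hp1 x hx) hxD (hsurj x hxD)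
  · refine ⟨0, Nat.zero_le _, fun x hx => ?_⟩
    have hxD : x ∉ Set.range 𝓓.subschemeι := by
      intro hxD
      obtain rfl := eq_genPt hD hxD hx
      exact hdim hx
    exact twistAt_of_surjective hF hF' a hα hr' hD _ x (hp1 x hx) hxD (hsurj x hxD)

end K476.ModTwist2
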