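import Groth.Agent.SDiv.K476.HomSh1
import Groth.Agent.Fdesc.FinStalk
import Groth.Agent.Dcoh.StalkRestrict

/-!
# The sheaf Hom `RefHull.homSh`: affine sections

* `exists_gen`: finite type modules are generated near a point by finitely many sections
* `evalStalk_injective`: `evalStalk F G x` is injective for `F` of finite type
* `exists_stalkExt`, `stalkHom_ext`: for `F` quasi-coherent, `U` affine, maps out of the stalk `F_x`
* `affSec`: for `U` affine, `F` quasi-coherent, `W ≤ U`, the section of `homSh F G` over `W` defined by a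
  semilinear map `Γ(F, U) → Γ(G, W)`; `affEquiv : Γ(homSh F G, W) ≃ (Γ(F, U) →ₛₗ Γ(G, W))`,
  `affEquivSelf : Γ(homSh F G, U) ≃ₗ (Γ(F, U) →ₗ Γ(G, U))`.
-/

set_option autoImplicit false
universe u
open CategoryTheory CategoryTheory.Limits AlgebraicGeometry TopologicalSpace Opposite

noncomputable section

namespace K476.HomSh2

open RefHull Groth.Agent.CycB.StalkExact Groth.Agent.Ega1.QCohLoc K476.HomSh1
open Groth.Agent.Fdesc.QCohStalk Groth.Agent.Dcoh.StalkRestrict

variable {X : Scheme.{u}} {F G F' G' H : X.Modules}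

/-- Sections of an O_X-module whose germs at `x` agree, agree near `x`. -/
theorem exists_res_eq (M : X.Modules) {U V : X.Opens} (x : X) (hU : x ∈ U) (hV : x ∈ V)
    (s : Γ(M, U)) (t : Γ(M, V)) (h : M.presheaf.germ U x hU s = M.presheaf.germ V x hV t) :
    ∃ (W : X.Opens) (h1 : W ≤ U) (h2 : W ≤ V), x ∈ W ∧ res M h1 s = res M h2 t := by
  obtain ⟨W, hW, i, j, e⟩ := M.presheaf.germ_eq x hU hV s t h
  exact ⟨W, i.le, j.le, hW, e⟩

theorem germ_res (M : X.Modules) {U V : X.Opens} (h : V ≤ U) (x : X) (hx : x ∈ V) (s : Γ(M, U)) :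
    M.presheaf.germ V x hx (res M h s) = M.presheaf.germ U x (h hx) s :=
  TopCat.Presheaf.germ_res_apply _ _ _ _ _

theorem germ_resO {U V : X.Opens} (h : V ≤ U) (x : X) (hx : x ∈ V) (s : Γ(X, U)) :
    X.presheaf.germ V x hx (resO h s) = X.presheaf.germ U x (h hx) s :=
  TopCat.Presheaf.germ_res_apply _ _ _ _ _

/-- Finite type modules are generated near a point by finitely many sections. -/
theorem exists_gen (F : X.Modules) (hF : CohB1.IsFT F) (x : X) :
    ∃ (U : X.Opens) (ι : Type u) (_ : Finite ι) (s : ι → Γ(F, U)), x ∈ U ∧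
      ∀ (y : X) (hy : y ∈ U), Submodule.span (X.presheaf.stalk y)
        (Set.range fun i => F.presheaf.germ U y hy (s i)) = ⊤ := by
  obtain ⟨U, hxU, G, hG⟩ := Groth.Agent.CohqA.FTStalk.exists_generatingSections F hF x
  have hle : U ≤ U.ι ''ᵁ ⊤ := by
    rw [Scheme.Hom.image_top_eq_opensRange, Scheme.Opens.opensRange_ι]
  refine ⟨U, G.I, SheafOfModules.GeneratingSections.IsFiniteType.finite,
    fun i => res F hle ((F.restrictAppIso U.ι ⊤).hom ((G.s i).val (op ⊤))), hxU, fun y hy => ?_⟩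
  have h1 := Groth.Agent.Fdesc.FinStalk.span_germ_generatingSections G (pt U hy)
  rw [eq_top_iff]
  intro t _
  have ht : (ρo U hy F).symm t ∈ Submodule.span ((U : Scheme.{u}).presheaf.stalk (pt U hy))
      (Set.range fun i => (F.restrict U.ι).presheaf.germ ⊤ (pt U hy) trivial
        ((G.s i).val (op ⊤))) := by rw [h1]; trivial
  have key : ∀ u ∈ Submodule.span ((U : Scheme.{u}).presheaf.stalk (pt U hy))
      (Set.range fun i => (F.restrict U.ι).presheaf.germ ⊤ (pt U hy) trivial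
        ((G.s i).val (op ⊤))), ρo U hy F u ∈ Submodule.span (X.presheaf.stalk y)
        (Set.range fun i => F.presheaf.germ U y hy
          (res F hle ((F.restrictAppIso U.ι ⊤).hom ((G.s i).val (op ⊤))))) := by
    intro u hu
    induction hu using Submodule.span_induction with
    | mem v hv =>
      obtain ⟨i, rfl⟩ := hv
      refine Submodule.subset_span ⟨i, ?_⟩
      dsimp only
      rw [germ_res]
      exact (ρo_germ U hy F ⊤ trivial ((G.s i).val (op ⊤))).symm
    | zero => rw [map_zero]; exact zero_mem _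
    | add a b _ _ ha hb => rw [map_add]; exact add_mem ha hb
    | smul r a _ ha => rw [ρo_smul']; exact Submodule.smul_mem _ _ ha
  have := key _ ht
  rwa [AddEquiv.apply_symm_apply] at this

/-- The canonical map from the stalk of the sheaf Hom to the Hom of the stalks is injective for `F`
of finite type. -/
theorem evalStalk_injective (F G : X.Modules) (hF : CohB1.IsFT F) (x : X) :
    Function.Injective (evalStalk F G x) := by
  rw [injective_iff_map_eq_zero]
  intro θ hθ
  obtain ⟨U, hU, g, rfl⟩ := (homSh F G).presheaf.exists_germ_eq θ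
  obtain ⟨V, ι, _, s, hV, hs⟩ := exists_gen F hF x
  rw [evalStalk_germ] at hθ
  have hxW : x ∈ U ⊓ V := ⟨hU, hV⟩
  -- values on the generators
  have key : ∀ i, ∃ (W : X.Opens) (h : W ≤ U ⊓ V), x ∈ W ∧
      res G h (secMap g inf_le_left (res F inf_le_right (s i))) = 0 := by
    intro i
    obtain ⟨W, h1, h2, hxW', e⟩ := exists_res_eq G x hxW (V := U ⊓ V) hxW
      (secMap g inf_le_left (res F inf_le_right (s i))) 0 (by
        rw [germ_secMap, map_zero, hθ]; rfl)
    exact ⟨W, h1, hxW', by rw [e, map_zero]⟩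
  choose W hW hxW' hz using key
  have hfin : (Set.range W).Finite := Set.finite_range W
  have : Finite ι := inferInstance
  cases nonempty_fintype ι
  let Z : X.Opens := (U ⊓ V) ⊓ Finset.univ.inf W
  have hxZ : x ∈ Z := by
    refine ⟨hxW, ?_⟩
    have h1 : ∀ S : Finset ι, x ∈ S.inf W := by
      intro S
      induction S using Finset.cons_induction with
      | empty => trivial
      | cons a S ha ih => rw [Finset.inf_cons]; exact ⟨hxW' a, ih⟩
    exact h1 _
  have hZW : ∀ i, Z ≤ W i := fun i => inf_le_right.trans (Finset.inf_le (Finset.mem_univ i))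
  have hZU : Z ≤ U := inf_le_left.trans inf_le_left
  have hres : res (homSh F G) hZU g = 0 := by
    refine homSec_ext (fun y => ?_)
    have hyV : y.1 ∈ V := (inf_le_left.trans inf_le_right : Z ≤ V) y.2
    refine LinearMap.ext_on (hs y.1 hyV) ?_
    rintro _ ⟨i, rfl⟩
    have h2 := congrArg (G.presheaf.germ (W i) y.1 (hZW i y.2)) (hz i)
    rw [map_zero, germ_res, germ_secMap, germ_res] at h2
    exact h2
  have h3 : (homSh F G).presheaf.germ U x hU g =
      (homSh F G).presheaf.germ Z x hxZ (res (homSh F G) hZU g) := by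
    rw [germ_res]
  rw [h3, hres, map_zero]

/-! ### Maps out of the stalks of quasi-coherent modules -/

section affine

variable {U : X.Opens} (hU : IsAffineOpen U) (hF : Coh.IsQCoh F)

include hU hF in
/-- Two maps out of the stalk of a quasi-coherent module agreeing on the germs of the sections over an
affine neighbourhood are equal. -/
theorem stalkHom_ext {x : X} (hx : x ∈ U) {α β : StalkHom F G x}
    (h : ∀ m : Γ(F, U), α (F.presheaf.germ U x hx m) = β (F.presheaf.germ U x hx m)) : α = β := by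
  ext t
  obtain ⟨g, s, hg, hs⟩ := exists_germ_eq_smul F hU hF x hx t
  have hu : IsUnit (X.presheaf.germ U x hx g) := (X.mem_basicOpen g x hx).mp hg
  have h1 := h s
  rw [hs, map_smul, map_smul] at h1
  exact (hu.smul_left_cancel).mp h1

include hU hF in
theorem exists_stalkExt {x : X} (hx : x ∈ U) (φ : Γ(F, U) →+ G.presheaf.stalk x)
    (hφ : ∀ (a : Γ(X, U)) (m : Γ(F, U)), φ (a • m) = X.presheaf.germ U x hx a • φ m) :
    ∃ φ' : StalkHom F G x, ∀ m, φ' (F.presheaf.germ U x hx m) = φ m := by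
  letI := stalkModule F x hx
  letI := stalkModule G x hx
  letI : Algebra Γ(X, U) (X.presheaf.stalk x) :=
    TopCat.Presheaf.algebra_section_stalk X.presheaf ⟨x, hx⟩
  have tF : IsScalarTower Γ(X, U) (X.presheaf.stalk x) (F.presheaf.stalk x) := by
    constructor
    intro r a m
    change (X.presheaf.germ U x hx r * a) • m = X.presheaf.germ U x hx r • (a • m)
    rw [mul_smul]
  have tG : IsScalarTower Γ(X, U) (X.presheaf.stalk x) (G.presheaf.stalk x) := by
    constructor
    intro r a m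
    change (X.presheaf.germ U x hx r * a) • m = X.presheaf.germ U x hx r • (a • m)
    rw [mul_smul]
  have hloc := isLocalizedModule_germ F hU hF x hx
  have hloc' : IsLocalization.AtPrime (X.presheaf.stalk x) (hU.primeIdealOf ⟨x, hx⟩).asIdeal :=
    hU.isLocalization_stalk ⟨x, hx⟩
  let φₗ : Γ(F, U) →ₗ[Γ(X, U)] G.presheaf.stalk x :=
    { toFun := φ, map_add' := map_add φ, map_smul' := fun a m => hφ a m }
  have hu : ∀ s : (hU.primeIdealOf ⟨x, hx⟩).asIdeal.primeCompl,
      IsUnit ((algebraMap Γ(X, U) (Module.End Γ(X, U) (G.presheaf.stalk x))) s) := by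
    intro s
    have h1 : IsUnit (algebraMap Γ(X, U) (X.presheaf.stalk x) s) :=
      IsLocalization.map_units (X.presheaf.stalk x) s
    have h2 : IsUnit (algebraMap (X.presheaf.stalk x) (Module.End (X.presheaf.stalk x)
        (G.presheaf.stalk x)) (algebraMap Γ(X, U) (X.presheaf.stalk x) s)) := h1.map _
    rw [Module.End.isUnit_iff] at h2 ⊢
    exact h2
  let φ' := IsLocalizedModule.lift (hU.primeIdealOf ⟨x, hx⟩).asIdeal.primeCompl
    (germₗ F x hx) φₗ hu
  refine ⟨φ'.extendScalarsOfIsLocalization (hU.primeIdealOf ⟨x, hx⟩).asIdeal.primeCompl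
    (X.presheaf.stalk x), fun m => ?_⟩
  exact IsLocalizedModule.lift_apply (hU.primeIdealOf ⟨x, hx⟩).asIdeal.primeCompl
    (germₗ F x hx) φₗ hu m

/-- The extension to the stalk of a semilinear map. -/
def stalkExt {x : X} (hx : x ∈ U) (φ : Γ(F, U) →+ G.presheaf.stalk x)
    (hφ : ∀ (a : Γ(X, U)) (m : Γ(F, U)), φ (a • m) = X.presheaf.germ U x hx a • φ m) :
    StalkHom F G x := (exists_stalkExt hU hF hx φ hφ).choose

theorem stalkExt_germ {x : X} (hx : x ∈ U) (φ : Γ(F, U) →+ G.presheaf.stalk x)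
    (hφ : ∀ (a : Γ(X, U)) (m : Γ(F, U)), φ (a • m) = X.presheaf.germ U x hx a • φ m)
    (m : Γ(F, U)) : stalkExt hU hF hx φ hφ (F.presheaf.germ U x hx m) = φ m :=
  (exists_stalkExt hU hF hx φ hφ).choose_spec m

variable {W : X.Opens} (hW : W ≤ U)

theorem affSec_aux (ψ : Γ(F, U) →ₛₗ[(resO hW : Γ(X, U) →+* Γ(X, W))] Γ(G, W)) (x : W)
    (a : Γ(X, U)) (m : Γ(F, U)) :
    ((G.presheaf.germ W x.1 x.2).hom.comp ψ.toAddMonoidHom) (a • m) =
      X.presheaf.germ U x.1 (hW x.2) a •
        ((G.presheaf.germ W x.1 x.2).hom.comp ψ.toAddMonoidHom) m := by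
  change G.presheaf.germ W x.1 x.2 (ψ (a • m)) = _ • G.presheaf.germ W x.1 x.2 (ψ m)
  rw [map_smulₛₗ, Mero.germ_smul, germ_resO]

include hU hF in
theorem isLocSect_of_germ {f : ∀ x : W, StalkHom F G x.1} (ψ : Γ(F, U) → Γ(G, W))
    (h : ∀ (x : W) (m : Γ(F, U)), f x (F.presheaf.germ U x.1 (hW x.2) m) =
      G.presheaf.germ W x.1 x.2 (ψ m)) : IsLocSect F G f := by
  intro V i m x
  have hVW : V ≤ W := i.le
  obtain ⟨g, s, hg, hs⟩ := exists_germ_eq_smul F hU hF x.1 (hW (hVW x.2))
    (F.presheaf.germ V x.1 x.2 m)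
  have hs' : F.presheaf.germ U x.1 (hW (hVW x.2)) s =
      F.presheaf.germ V x.1 x.2 (resO (hVW.trans hW) g • m) := by
    rw [hs, Mero.germ_smul, germ_resO]
  obtain ⟨W', h1, h2, hxW', e⟩ := exists_res_eq F x.1 _ _ _ _ hs'
  let W'' : X.Opens := W' ⊓ X.basicOpen g
  have hxW'' : x.1 ∈ W'' := ⟨hxW', hg⟩
  have hu : IsUnit (resO (inf_le_right.trans (X.basicOpen_le g) : W'' ≤ U) g) := by
    have hu1 : IsUnit (resO (X.basicOpen_le g) g) := RingedSpace.isUnit_res_basicOpen _ g
    have := hu1.map (resO (inf_le_right : W'' ≤ X.basicOpen g))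
    rwa [resO_resO] at this
  obtain ⟨v, hv⟩ := hu
  have hW''V : W'' ≤ V := inf_le_left.trans h2
  refine ⟨W'', hxW'', homOfLE hW''V, (v⁻¹).1 • res G (hW''V.trans hVW) (ψ s), fun y => ?_⟩
  have hyU : y.1 ∈ U := (hW''V.trans (hVW.trans hW)) y.2
  have e2 := congrArg (F.presheaf.germ W' y.1 (inf_le_left (a := W') y.2)) e
  rw [germ_res, germ_res, Mero.germ_smul, germ_resO] at e2
  have e3 : X.presheaf.germ W'' y.1 y.2 v.1 = X.presheaf.germ U y.1 hyU g := by
    rw [hv, germ_resO]
  have e4 : X.presheaf.germ W'' y.1 y.2 (v⁻¹).1 * X.presheaf.germ U y.1 hyU g = 1 := by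
    rw [← e3, ← map_mul, Units.inv_mul, map_one]
  rw [Mero.germ_smul, germ_res, ← h ⟨y.1, hVW (hW''V y.2)⟩ s, e2, map_smul, ← mul_smul, e4,
    one_smul]

/-- The family of stalk maps defined by a semilinear map. -/
def affFam (ψ : Γ(F, U) →ₛₗ[(resO hW : Γ(X, U) →+* Γ(X, W))] Γ(G, W)) (x : W) :
    StalkHom F G x.1 :=
  stalkExt hU hF (hW x.2) ((G.presheaf.germ W x.1 x.2).hom.comp ψ.toAddMonoidHom)
    (affSec_aux hW ψ x)

theorem affFam_germ (ψ : Γ(F, U) →ₛₗ[(resO hW : Γ(X, U) →+* Γ(X, W))] Γ(G, W)) (x : W)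
    (m : Γ(F, U)) : affFam hU hF hW ψ x (F.presheaf.germ U x.1 (hW x.2) m) =
      G.presheaf.germ W x.1 x.2 (ψ m) :=
  stalkExt_germ hU hF (hW x.2) _ _ m

/-- The section of the sheaf Hom over `W ≤ U`, `U` affine, defined by a semilinear map. -/
def affSec (ψ : Γ(F, U) →ₛₗ[(resO hW : Γ(X, U) →+* Γ(X, W))] Γ(G, W)) :
    Γ(homSh F G, W) :=
  ⟨affFam hU hF hW ψ, isLocSect_of_germ hU hF hW ψ (affFam_germ hU hF hW ψ)⟩

theorem affSec_germ (ψ : Γ(F, U) →ₛₗ[(resO hW : Γ(X, U) →+* Γ(X, W))] Γ(G, W)) (x : W)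
    (m : Γ(F, U)) : (affSec hU hF hW ψ).1 x (F.presheaf.germ U x.1 (hW x.2) m) =
      G.presheaf.germ W x.1 x.2 (ψ m) :=
  affFam_germ hU hF hW ψ x m

theorem secMap_affSec (ψ : Γ(F, U) →ₛₗ[(resO hW : Γ(X, U) →+* Γ(X, W))] Γ(G, W))
    (m : Γ(F, U)) : secMap (affSec hU hF hW ψ) le_rfl (res F hW m) = ψ m := by
  refine sec_ext G (fun x hx => ?_)
  rw [germ_secMap, germ_res]
  exact affSec_germ hU hF hW ψ ⟨x, hx⟩ m

/-- The semilinear map defined by a section of the sheaf Hom over `W ≤ U`. -/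
def affMap (g : Γ(homSh F G, W)) : Γ(F, U) →ₛₗ[(resO hW : Γ(X, U) →+* Γ(X, W))] Γ(G, W) where
  toFun m := secMap g le_rfl (res F hW m)
  map_add' m m' := by rw [map_add, map_add]
  map_smul' a m := by rw [res_smul, map_smul]

theorem affMap_apply (g : Γ(homSh F G, W)) (m : Γ(F, U)) :
    affMap hW g m = secMap g le_rfl (res F hW m) := rfl

include hU hF in
theorem affSec_unique {g h : Γ(homSh F G, W)}
    (H : ∀ m : Γ(F, U), secMap g le_rfl (res F hW m) = secMap h le_rfl (res F hW m)) : g = h := by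
  refine homSec_ext (fun x => stalkHom_ext hU hF (hW x.2) (fun m => ?_))
  have e := congrArg (G.presheaf.germ W x.1 x.2) (H m)
  rw [germ_secMap, germ_secMap, germ_res] at e
  exact e

/-- For `U` affine and `F` quasi-coherent, sections of `𝓗om(F, G)` over `W ≤ U` are the semilinear
maps `Γ(F, U) → Γ(G, W)`. -/
def affEquiv : Γ(homSh F G, W) ≃+
    (Γ(F, U) →ₛₗ[(resO hW : Γ(X, U) →+* Γ(X, W))] Γ(G, W)) where
  toFun := affMap hW
  invFun := affSec hU hF hW
  left_inv g := affSec_unique hU hF hW (fun m => by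
    rw [secMap_affSec, affMap_apply])
  right_inv ψ := LinearMap.ext (fun m => by rw [affMap_apply, secMap_affSec])
  map_add' g h := LinearMap.ext (fun m => by
    rw [affMap_apply, secMap_add]; rfl)

theorem affEquiv_apply (g : Γ(homSh F G, W)) (m : Γ(F, U)) :
    affEquiv hU hF hW g m = secMap g le_rfl (res F hW m) := rfl

theorem secMap_affEquiv_symm (ψ : Γ(F, U) →ₛₗ[(resO hW : Γ(X, U) →+* Γ(X, W))] Γ(G, W))
    (m : Γ(F, U)) : secMap ((affEquiv hU hF hW).symm ψ) le_rfl (res F hW m) = ψ m :=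
  secMap_affSec hU hF hW ψ m

/-- A linear map as a semilinear map along the trivial restriction. -/
def toSemi (ψ : Γ(F, U) →ₗ[Γ(X, U)] Γ(G, U)) :
    Γ(F, U) →ₛₗ[(resO (le_refl U) : Γ(X, U) →+* Γ(X, U))] Γ(G, U) where
  toFun := ψ
  map_add' := map_add ψ
  map_smul' a m := by rw [map_smul, resO_rfl]

theorem toSemi_apply (ψ : Γ(F, U) →ₗ[Γ(X, U)] Γ(G, U)) (m : Γ(F, U)) : toSemi ψ m = ψ m := rfl

/-- For `U` affine and `F` quasi-coherent, sections of `𝓗om(F, G)` over `U` are the linear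
maps `Γ(F, U) → Γ(G, U)`. -/
def affEquivSelf : Γ(homSh F G, U) ≃ₗ[Γ(X, U)] (Γ(F, U) →ₗ[Γ(X, U)] Γ(G, U)) where
  toFun g := secMap g le_rfl
  invFun ψ := affSec hU hF le_rfl (toSemi ψ)
  left_inv g := affSec_unique hU hF le_rfl (fun m => by
    rw [secMap_affSec, res_rfl]; rfl)
  right_inv ψ := LinearMap.ext (fun m => by
    have := secMap_affSec hU hF le_rfl (toSemi ψ) m
    rw [res_rfl] at this
    exact this)
  map_add' g h := secMap_add g h le_rfl
  map_smul' r g := LinearMap.ext (fun m => secMap_smul r g m)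

theorem affEquivSelf_apply (g : Γ(homSh F G, U)) (m : Γ(F, U)) :
    affEquivSelf hU hF g m = secMap g le_rfl m := rfl

theorem secMap_affEquivSelf_symm (ψ : Γ(F, U) →ₗ[Γ(X, U)] Γ(G, U)) (m : Γ(F, U)) :
    secMap ((affEquivSelf hU hF).symm ψ) le_rfl m = ψ m :=
  LinearMap.congr_fun ((affEquivSelf hU hF).apply_symm_apply ψ) m

end affine

end K476.HomSh2

end
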