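import Groth.Agent.SDiv.K476.HomSh4
import Groth.Agent.Dcoh.StalkF

/-!
# Filtered colimits of O_X-modules, on stalks

`nonempty_isColimit_of_stalk`: a cocone over a filtered diagram of O_X-modules is a colimit cocone if on all stalks
every element comes from some stage and every element dying in the apex dies at some stage.
-/

set_option autoImplicit false
set_option backward.isDefEq.respectTransparency false

universe u w w'

noncomputable section

open CategoryTheory CategoryTheory.Limits AlgebraicGeometry TopologicalSpace Opposite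
open RefHull K476.HomSh1 K476.HomSh4

namespace K476.ColimCrit

variable {X : Scheme.{u}}

theorem stalkF_map_apply {M N : X.Modules} (φ : M ⟶ N) (x : X) (m : M.presheaf.stalk x) :
    (Groth.Agent.Dcoh.Stalk.stalkF x).map φ m = stalkMapₗ φ x m := by
  obtain ⟨U, hx, m, rfl⟩ := M.presheaf.exists_germ_eq m
  rw [stalkMapₗ_germ]
  exact Groth.Agent.Dcoh.StalkP.stalkMap_germ (DCoh.toP.map φ) U x hx m

variable {J : Type w} [Category.{w'} J] [IsFiltered J] {D : J ⥤ X.Modules}

/-- The stalk maps of the legs of a cocone. -/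
abbrev leg (c : Cocone D) (j : J) (x : X) :
    (D.obj j).presheaf.stalk x →ₗ[X.presheaf.stalk x] c.pt.presheaf.stalk x :=
  stalkMapₗ (c.ι.app j) x

theorem leg_map (c : Cocone D) {i j : J} (f : i ⟶ j) (x : X) (m : (D.obj i).presheaf.stalk x) :
    leg c j x (stalkMapₗ (D.map f) x m) = leg c i x m := by
  change stalkMapₗ (c.ι.app j) x (stalkMapₗ (D.map f) x m) = stalkMapₗ (c.ι.app i) x m
  rw [← LinearMap.comp_apply, ← stalkMapₗ_comp, c.w]
  rfl

/-- Elements of the stalk of a filtered colimit come from some stage. -/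
theorem exists_rep {c : Cocone D} (hc : IsColimit c) (x : X)
    [PreservesColimit D (Groth.Agent.Dcoh.Stalk.stalkF x)] (m : c.pt.presheaf.stalk x) :
    ∃ (j : J) (m' : (D.obj j).presheaf.stalk x), leg c j x m' = m := by
  let N : Submodule (X.presheaf.stalk x) (c.pt.presheaf.stalk x) :=
    ⨆ j, LinearMap.range (leg c j x)
  have hc' := isColimitOfPreserves (Groth.Agent.Dcoh.Stalk.stalkF x) hc
  have h0 : ModuleCat.ofHom (X := (Groth.Agent.Dcoh.Stalk.stalkF x).obj c.pt) N.mkQ = 0 := by
    refine hc'.hom_ext (fun j => ?_)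
    ext m'
    have h1 : (Groth.Agent.Dcoh.Stalk.stalkF x).map (c.ι.app j) m' = leg c j x m' :=
      stalkF_map_apply _ _ _
    change N.mkQ ((Groth.Agent.Dcoh.Stalk.stalkF x).map (c.ι.app j) m') = 0
    rw [h1, Submodule.mkQ_apply, Submodule.Quotient.mk_eq_zero]
    exact Submodule.mem_iSup_of_mem j ⟨m', rfl⟩
  have hN : m ∈ N := by
    have h2 : N.mkQ m = 0 := congrArg (fun f => f.hom m) h0
    rwa [Submodule.mkQ_apply, Submodule.Quotient.mk_eq_zero] at h2
  have : Nonempty J := IsFiltered.nonempty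
  have hdir : Directed (· ≤ ·) (fun j => LinearMap.range (leg c j x)) := by
    intro i j
    refine ⟨IsFiltered.max i j, ?_, ?_⟩
    · rintro _ ⟨m', rfl⟩
      exact ⟨stalkMapₗ (D.map (IsFiltered.leftToMax i j)) x m', leg_map c _ x m'⟩
    · rintro _ ⟨m', rfl⟩
      exact ⟨stalkMapₗ (D.map (IsFiltered.rightToMax i j)) x m', leg_map c _ x m'⟩
  obtain ⟨j, m', hm'⟩ := (Submodule.mem_iSup_of_directed _ hdir).mp hN
  exact ⟨j, m', hm'⟩

/-- The stalkwise criterion for filtered colimits. -/
theorem nonempty_isColimit_of_stalk [HasColimit D]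
    [∀ x, PreservesColimit D (Groth.Agent.Dcoh.Stalk.stalkF x)] (c : Cocone D)
    (hs : ∀ (x : X) (m : c.pt.presheaf.stalk x), ∃ (j : J) (m' : (D.obj j).presheaf.stalk x),
      leg c j x m' = m)
    (hi : ∀ (x : X) (j : J) (m : (D.obj j).presheaf.stalk x), leg c j x m = 0 →
      ∃ (k : J) (f : j ⟶ k), stalkMapₗ (D.map f) x m = 0) : Nonempty (IsColimit c) := by
  have hiso : IsIso ((colimit.isColimit D).desc c) := by
    change IsIso (colimit.desc D c)
    refine isIso_of_stalk _ (fun x => ⟨?_, fun m => ?_⟩)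
    · rw [injective_iff_map_eq_zero]
      intro z hz
      obtain ⟨j, m', rfl⟩ := exists_rep (colimit.isColimit D) x z
      change stalkMapₗ (colimit.desc D c) x (stalkMapₗ (colimit.ι D j) x m') = 0 at hz
      rw [← LinearMap.comp_apply, ← stalkMapₗ_comp, colimit.ι_desc] at hz
      obtain ⟨k, f, hk⟩ := hi x j m' hz
      change stalkMapₗ (colimit.ι D j) x m' = 0
      rw [← colimit.w D f, stalkMapₗ_comp, LinearMap.comp_apply, hk, map_zero]
    · obtain ⟨j, m', rfl⟩ := hs x m
      refine ⟨stalkMapₗ (colimit.ι D j) x m', ?_⟩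
      rw [← LinearMap.comp_apply, ← stalkMapₗ_comp, colimit.ι_desc]
  exact ⟨IsColimit.ofPointIso (colimit.isColimit D)⟩

end K476.ColimCrit
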