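import Groth.Agent.SDiv.K476.RefPow2
import Groth.Agent.SDiv.K476.ColimCrit

/-!
# The system of reflexive powers and the direct image from the isomorphism locus
-/

set_option autoImplicit false
set_option backward.isDefEq.respectTransparency false

universe u

noncomputable section

open CategoryTheory CategoryTheory.Limits AlgebraicGeometry TopologicalSpace Opposite
open RefHull K476.HomSh1 K476.HomSh3 K476.HomSh4 Groth.Agent.CycB.ModStalk K475.GenStalk
open K476.TensStalk K476.Ref1 K476.RefPow1 K476.Codim1Fin RefPow K476.ColimCrit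

namespace K476.RefPow4

variable {X : Scheme.{u}} {F : X.Modules} [IsIntegral X] [IsLocallyNoetherian X]

/-- `s^n` is invertible on the isomorphism locus. -/
theorem isIso_restrict_sPow (hF : IsRef1 F) (s : Coh.structureModule X ⟶ F) {U : X.Opens}
    (hU : ∀ x ∈ U, x ∈ isoLocus s) (n : ℕ) :
    IsIso ((Scheme.Modules.restrictFunctor U.ι).map (sPow s n)) :=
  (Groth.Agent.CurvesC.Gen.isIso_restrict_iff _ U).mpr (fun _ hV =>
    bijective_app_of_stalk _ (fun x hx => bijective_sPow hF s (hU x (hV hx)) n))

/-- The comparison map `F^[n] ⟶ j_* O_U`. -/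
def cmpMap (hF : IsRef1 F) (s : Coh.structureModule X ⟶ F) {U : X.Opens}
    (hU : ∀ x ∈ U, x ∈ isoLocus s) (n : ℕ) :
    refPow F n ⟶ (Scheme.Modules.pushforward U.ι).obj ((Coh.structureModule X).restrict U.ι) :=
  (Scheme.Modules.restrictAdjunction U.ι).unit.app (refPow F n) ≫
    (Scheme.Modules.pushforward U.ι).map
      (@inv _ _ _ _ ((Scheme.Modules.restrictFunctor U.ι).map (sPow s n))
        (isIso_restrict_sPow hF s hU n))

theorem cmpMap_zero (hF : IsRef1 F) (s : Coh.structureModule X ⟶ F) {U : X.Opens}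
    (hU : ∀ x ∈ U, x ∈ isoLocus s) :
    cmpMap hF s hU 0 = (Scheme.Modules.restrictAdjunction U.ι).unit.app (Coh.structureModule X) := by
  have h := isIso_restrict_sPow hF s hU 0
  have h1 : (Scheme.Modules.restrictFunctor U.ι).map (sPow s 0) = 𝟙 _ :=
    CategoryTheory.Functor.map_id _ _
  have h2 : @inv _ _ _ _ ((Scheme.Modules.restrictFunctor U.ι).map (sPow s 0)) h = 𝟙 _ := by
    rw [IsIso.inv_eq_of_hom_inv_id]
    rw [h1]
    exact Category.id_comp _
  rw [cmpMap, h2]
  erw [CategoryTheory.Functor.map_id]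
  exact Category.comp_id _

theorem mulBy_cmpMap (hF : IsRef1 F) (s : Coh.structureModule X ⟶ F) {U : X.Opens}
    (hU : ∀ x ∈ U, x ∈ isoLocus s) (n : ℕ) :
    mulBy s n ≫ cmpMap hF s hU (n + 1) = cmpMap hF s hU n := by
  have h := isIso_restrict_sPow hF s hU n
  have h' := isIso_restrict_sPow hF s hU (n + 1)
  have h1 : (Scheme.Modules.restrictFunctor U.ι).map (sPow s (n + 1)) =
      (Scheme.Modules.restrictFunctor U.ι).map (sPow s n) ≫
        (Scheme.Modules.restrictFunctor U.ι).map (mulBy s n) := by
    rw [← Functor.map_comp, sPow_succ]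
  have h2 : (Scheme.Modules.restrictFunctor U.ι).map (mulBy s n) ≫
      inv ((Scheme.Modules.restrictFunctor U.ι).map (sPow s (n + 1))) =
      inv ((Scheme.Modules.restrictFunctor U.ι).map (sPow s n)) := by
    rw [← cancel_epi ((Scheme.Modules.restrictFunctor U.ι).map (sPow s n)), ← Category.assoc,
      ← h1, IsIso.hom_inv_id, IsIso.hom_inv_id]
  have h3 := (Scheme.Modules.restrictAdjunction U.ι).unit.naturality (mulBy s n)
  rw [cmpMap, cmpMap, ← h2, Functor.map_comp, ← Category.assoc, ← Category.assoc]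
  congr 1

/-- The comparison cocone. -/
def cmpNat (hF : IsRef1 F) (s : Coh.structureModule X ⟶ F) {U : X.Opens}
    (hU : ∀ x ∈ U, x ∈ isoLocus s) :
    diagram F s ⟶ (Functor.const ℕ).obj
      ((Scheme.Modules.pushforward U.ι).obj ((Coh.structureModule X).restrict U.ι)) :=
  NatTrans.ofSequence (cmpMap hF s hU) (fun n => by
    refine Eq.trans ?_ (Category.comp_id _).symm
    rw [← mulBy_cmpMap hF s hU n, ← diagram_map F s n])

theorem cmpNat_app (hF : IsRef1 F) (s : Coh.structureModule X ⟶ F) {U : X.Opens}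
    (hU : ∀ x ∈ U, x ∈ isoLocus s) (n : ℕ) : (cmpNat hF s hU).app n = cmpMap hF s hU n := rfl

/-- The part of `V` in `U`, as the image of the preimage. -/
abbrev cut (U V : X.Opens) : X.Opens := U.ι ''ᵁ (U.ι ⁻¹ᵁ V)

omit [IsIntegral X] [IsLocallyNoetherian X] in
theorem cut_eq (U V : X.Opens) : cut U V = U ⊓ V := by
  rw [cut, Scheme.Hom.image_preimage_eq_opensRange_inf, Scheme.Opens.opensRange_ι]

omit [IsIntegral X] [IsLocallyNoetherian X] in
theorem cut_le (U V : X.Opens) : cut U V ≤ V := U.ι.image_preimage_le V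

theorem sPow_cmpMap (hF : IsRef1 F) (s : Coh.structureModule X ⟶ F) {U : X.Opens}
    (hU : ∀ x ∈ U, x ∈ isoLocus s) (n : ℕ) (V : X.Opens) (t : Γ(refPow F n, V)) :
    (sPow s n).app (cut U V) ((cmpMap hF s hU n).app V t) =
      (refPow F n).presheaf.map (homOfLE (cut_le U V)).op t := by
  have h := isIso_restrict_sPow hF s hU n
  have h1 : cmpMap hF s hU n ≫ (Scheme.Modules.pushforward U.ι).map
      ((Scheme.Modules.restrictFunctor U.ι).map (sPow s n)) =
      (Scheme.Modules.restrictAdjunction U.ι).unit.app (refPow F n) := by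
    rw [cmpMap, Category.assoc, ← Functor.map_comp, IsIso.inv_hom_id]
    erw [CategoryTheory.Functor.map_id, Category.comp_id]
  have h2 := congrArg (fun φ => φ.app V t) h1
  exact h2

/-- Surjectivity on sections over affine opens. -/
theorem exists_cmpMap_eq (hX : Pi1.IsNormalScheme X) (hF : IsRef1 F)
    (s : Coh.structureModule X ⟶ F) {U : X.Opens} (hU : ∀ x, x ∈ U ↔ x ∈ isoLocus s)
    {V : X.Opens} (hV : IsAffineOpen V) (f : Γ(Coh.structureModule X, cut U V)) :
    ∃ (n : ℕ) (t : Γ(refPow F n, V)), (cmpMap hF s (fun x => (hU x).mp) n).app V t = f := by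
  by_cases hη : η X ∈ cut U V
  · have hη' : η X ∈ U ⊓ V := by rw [← cut_eq]; exact hη
    obtain ⟨N, hN⟩ := K476.RefPow2.exists_section_sPow hX hF s hV (cut_le U V) hη
      (fun y hyV hy => by rw [cut_eq]; exact ⟨(hU y).mpr hy, hyV⟩) (show Γ(X, cut U V) from f)
    obtain ⟨t, ht⟩ := hN N le_rfl
    refine ⟨N, t, ?_⟩
    have hP := isRef1_refPow hF N
    have hbij : Function.Bijective ((sPow s N).app (cut U V)) :=
      bijective_app_of_stalk _ (fun x hx => bijective_sPow hF s ((hU x).mp (by
        rw [cut_eq] at hx; exact hx.1)) N)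
    apply hbij.1
    rw [sPow_cmpMap]
    refine section_ext (inj_of_isReflexive hP.1 hP.2.1) (fun hη => ?_)
    rw [TopCat.Presheaf.germ_res_apply]
    refine ht.trans ?_
    have h1 : (sPow s N).app (cut U V) f =
        (show Γ(X, cut U V) from f) • (SecTwist.val (sPow s N) (cut U V) :
          Γ(refPow F N, cut U V)) :=
      Groth.Agent.CurvesC.Gen.app_eq_smul (sPow s N) (cut U V) f
    rw [h1, germ_smul, secGerm_eq]
  · have hU' : cut U V = ⊥ := by
      ext y
      constructor
      · intro hy
        exact absurd (mem_of_nonempty hy) hη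
      · intro hy
        exact absurd hy (Set.notMem_empty y)
    have hsub : Subsingleton Γ(Coh.structureModule X, cut U V) := by
      have h1 : Subsingleton Γ(X, cut U V) := by
        rw [hU']
        infer_instance
      exact h1
    exact ⟨0, 0, @Subsingleton.elim _ hsub _ _⟩

/-- The comparison cocone is a colimit cocone. -/
theorem nonempty_isColimit (hX : Pi1.IsNormalScheme X) (hF : IsRef1 F)
    (s : Coh.structureModule X ⟶ F) {U : X.Opens} (hU : ∀ x, x ∈ U ↔ x ∈ isoLocus s) :
    Nonempty (IsColimit (Cocone.mk _ (cmpNat hF s (U := U) (fun x => (hU x).mp)))) := by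
  refine nonempty_isColimit_of_stalk _ (fun x m => ?_) (fun x n m hm => ?_)
  · -- every germ comes from some stage
    obtain ⟨V₀, hx₀, f₀, rfl⟩ := ((Scheme.Modules.pushforward U.ι).obj
      ((Coh.structureModule X).restrict U.ι)).presheaf.exists_germ_eq m
    obtain ⟨V, hV, hxV, hVV⟩ := exists_isAffineOpen_mem_and_subset (x := x) (U := V₀) hx₀
    obtain ⟨n, t, ht⟩ := exists_cmpMap_eq hX hF s hU hV (((Scheme.Modules.pushforward U.ι).obj
      ((Coh.structureModule X).restrict U.ι)).presheaf.map (homOfLE hVV).op f₀)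
    refine ⟨n, (refPow F n).presheaf.germ V x hxV t, ?_⟩
    change stalkMapₗ (cmpMap hF s (fun x => (hU x).mp) n) x _ = _
    rw [stalkMapₗ_germ, ht]
    exact TopCat.Presheaf.germ_res_apply _ _ _ _ _
  · -- elements which die in the direct image die at some stage
    obtain ⟨V₀, hx₀, t₀, rfl⟩ := (refPow F n).presheaf.exists_germ_eq m
    change stalkMapₗ (cmpMap hF s (fun x => (hU x).mp) n) x _ = 0 at hm
    rw [stalkMapₗ_germ, ← map_zero (((Scheme.Modules.pushforward U.ι).obj
      ((Coh.structureModule X).restrict U.ι)).presheaf.germ V₀ x hx₀).hom] at hm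
    obtain ⟨V, hxV, i, j, e⟩ := TopCat.Presheaf.germ_eq _ x hx₀ hx₀ _ _ hm
    rw [map_zero] at e
    have hP := isRef1_refPow hF n
    have e1 : (cmpMap hF s (fun x => (hU x).mp) n).app V
        ((refPow F n).presheaf.map i.op t₀) = 0 := by
      rw [← e]
      exact congr($((cmpMap hF s (U := U) (fun x => (hU x).mp) n).mapPresheaf.naturality i.op) t₀)
    by_cases hη : η X ∈ cut U V
    · have e2 := sPow_cmpMap hF s (U := U) (fun x => (hU x).mp) n V
        ((refPow F n).presheaf.map i.op t₀)
      rw [e1, map_zero] at e2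
      have e3 : (refPow F n).presheaf.map i.op t₀ = 0 := by
        refine section_ext (inj_of_isReflexive hP.1 hP.2.1) (fun hη' => ?_)
        have e4 := congrArg ((refPow F n).presheaf.germ (cut U V) (η X) hη) e2
        rw [map_zero, TopCat.Presheaf.germ_res_apply] at e4
        rw [map_zero]
        exact e4.symm
      refine ⟨n, 𝟙 n, ?_⟩
      have e5 : (refPow F n).presheaf.germ V₀ x hx₀ t₀ = 0 := by
        rw [← TopCat.Presheaf.germ_res_apply (refPow F n).presheaf i x hxV t₀, e3, map_zero]
      exact (congrArg _ e5).trans (map_zero _)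
    · have hs : s = 0 := by
        by_contra hs
        apply hη
        rw [cut_eq]
        exact ⟨(hU _).mpr (eta_mem_isoLocus hF hs), mem_of_nonempty hxV⟩
      refine ⟨n + 1, homOfLE (Nat.le_succ n), ?_⟩
      rw [diagram_map]
      have h0 : secGerm s x = 0 := by
        rw [hs]
        have h2 : stalkMapₗ (0 : Coh.structureModule X ⟶ F) x = 0 := by
          have h3 := stalkMapₗ_add (0 : Coh.structureModule X ⟶ F) 0 x
          rw [add_zero] at h3
          exact left_eq_add.mp h3
        exact LinearMap.congr_fun h2 _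
      generalize (refPow F n).presheaf.germ V₀ x hx₀ t₀ = m
      cases n with
      | zero =>
        have h2 : stalkMapₗ s x = 0 := by
          rw [hs]
          have h3 := stalkMapₗ_add (0 : Coh.structureModule X ⟶ F) 0 x
          rw [add_zero] at h3
          exact left_eq_add.mp h3
        exact LinearMap.congr_fun h2 _
      | succ n =>
        refine (stalkMapₗ_mulBy_succ s n x m).trans ?_
        rw [h0, stmul_zero, map_zero]

end K476.RefPow4
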