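import Groth.Agent.SDiv.K476.RefPow2

/-!
# The isomorphism locus of a section is affine over `X` iff powers of the section lie in `m_x F^[n]`
-/

set_option autoImplicit false
set_option backward.isDefEq.respectTransparency false

universe u

noncomputable section

open CategoryTheory CategoryTheory.Limits AlgebraicGeometry TopologicalSpace Opposite
open RefHull K476.HomSh1 K476.HomSh3 K476.HomSh4 Groth.Agent.CycB.ModStalk K475.GenStalk
open K476.TensStalk K476.Ref1 K476.RefPow1 K476.Codim1Fin RefPow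

namespace K476.RefPow3

/-! ### Algebra -/

section algebra

variable {A : Type*} [CommRing A] (p : Ideal A) [p.IsPrime] {R : Type*} [CommRing R] [IsLocalRing R]
  [Algebra A R] [IsLocalization.AtPrime R p] {M N : Type*} [AddCommGroup M] [Module A M]
  [AddCommGroup N] [Module A N] [Module R N] [IsScalarTower A R N] (l : M →ₗ[A] N)
  [IsLocalizedModule p.primeCompl l]

theorem map_mem_smul_top {t : M} (ht : t ∈ p • (⊤ : Submodule A M)) :
    l t ∈ IsLocalRing.maximalIdeal R • (⊤ : Submodule R N) := by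
  refine Submodule.smul_induction_on ht (fun a ha m _ => ?_) (fun x y hx hy => ?_)
  · rw [map_smul, ← algebraMap_smul R a (l m)]
    refine Submodule.smul_mem_smul ?_ trivial
    have h := IsLocalization.AtPrime.under_maximalIdeal R p
    have h' : a ∈ Ideal.under A (IsLocalRing.maximalIdeal R) := by rw [h]; exact ha
    exact h'
  · rw [map_add]; exact Submodule.add_mem _ hx hy

theorem exists_smul_eq {z : N} (hz : z ∈ IsLocalRing.maximalIdeal R • (⊤ : Submodule R N)) :
    ∃ g ∉ p, ∃ y ∈ p • (⊤ : Submodule A M), g • z = l y := by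
  refine Submodule.smul_induction_on hz (fun r hr m _ => ?_) (fun x y hx hy => ?_)
  · obtain ⟨⟨a, s⟩, hs⟩ := IsLocalization.surj p.primeCompl r
    obtain ⟨⟨m', s'⟩, hs'⟩ := IsLocalizedModule.surj p.primeCompl l m
    have ha : a ∈ p := by
      rw [← IsLocalization.AtPrime.under_maximalIdeal R p]
      change algebraMap A R a ∈ IsLocalRing.maximalIdeal R
      rw [← hs]
      exact Ideal.mul_mem_right _ _ hr
    refine ⟨s * s', (s * s').2, a • m', Submodule.smul_mem_smul ha trivial, ?_⟩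
    have hs'' : (s' : A) • m = l m' := hs'
    rw [map_smul, ← hs'', smul_smul, ← algebraMap_smul R ((s : A) * s'), smul_smul, map_mul,
      mul_right_comm, mul_comm (algebraMap A R s) r, hs, ← map_mul, algebraMap_smul]
  · obtain ⟨g, hg, a, ha, e⟩ := hx
    obtain ⟨g', hg', a', ha', e'⟩ := hy
    refine ⟨g * g', (inferInstance : p.IsPrime).mul_notMem hg hg', g' • a + g • a',
      Submodule.add_mem _ (Submodule.smul_mem _ _ ha) (Submodule.smul_mem _ _ ha'), ?_⟩
    rw [map_add, map_smul, map_smul, ← e, ← e', smul_add, smul_smul, smul_smul, mul_comm g' g]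

theorem exists_smul_mem {σ : M} (hz : l σ ∈ IsLocalRing.maximalIdeal R • (⊤ : Submodule R N)) :
    ∃ g ∉ p, g • σ ∈ p • (⊤ : Submodule A M) := by
  obtain ⟨g, hg, y, hy, e⟩ := exists_smul_eq p l hz
  rw [← map_smul] at e
  obtain ⟨u, hu⟩ := (IsLocalizedModule.eq_iff_exists p.primeCompl l).mp e
  have hu' : (u : A) • g • σ = (u : A) • y := hu
  refine ⟨u * g, (inferInstance : p.IsPrime).mul_notMem u.2 hg, ?_⟩
  rw [mul_smul, hu']
  exact Submodule.smul_mem _ _ hy

end algebra

variable {X : Scheme.{u}}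

theorem germ_mem_smul_top {M : X.Modules} (hM : Coh.IsQCoh M) {V : X.Opens} (hV : IsAffineOpen V)
    {x : X} (hx : x ∈ V) {t : Γ(M, V)}
    (ht : t ∈ (hV.primeIdealOf ⟨x, hx⟩).asIdeal • (⊤ : Submodule Γ(X, V) Γ(M, V))) :
    M.presheaf.germ V x hx t ∈ IsLocalRing.maximalIdeal (X.presheaf.stalk x) •
      (⊤ : Submodule (X.presheaf.stalk x) (M.presheaf.stalk x)) := by
  refine Groth.Agent.Divis.StalkMod.stalk_elim M hM hV x hx (fun _ _ _ _ l hl _ _ => ?_)
  rw [← hl]
  exact map_mem_smul_top _ l ht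

theorem exists_smul_mem_of_germ {M : X.Modules} (hM : Coh.IsQCoh M) {V : X.Opens}
    (hV : IsAffineOpen V) {x : X} (hx : x ∈ V) {t : Γ(M, V)}
    (ht : M.presheaf.germ V x hx t ∈ IsLocalRing.maximalIdeal (X.presheaf.stalk x) •
      (⊤ : Submodule (X.presheaf.stalk x) (M.presheaf.stalk x))) :
    ∃ g ∉ (hV.primeIdealOf ⟨x, hx⟩).asIdeal,
      g • t ∈ (hV.primeIdealOf ⟨x, hx⟩).asIdeal • (⊤ : Submodule Γ(X, V) Γ(M, V)) := by
  refine Groth.Agent.Divis.StalkMod.stalk_elim M hM hV x hx (fun _ _ _ _ l hl _ _ => ?_)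
  rw [← hl] at ht
  exact exists_smul_mem _ l ht

theorem isUnit_germ_of_notMem {V : X.Opens} (hV : IsAffineOpen V) {x : X} (hx : x ∈ V)
    {g : Γ(X, V)} (hg : g ∉ (hV.primeIdealOf ⟨x, hx⟩).asIdeal) :
    IsUnit (X.presheaf.germ V x hx g) := by
  let := TopCat.Presheaf.algebra_section_stalk X.presheaf (⟨x, hx⟩ : V)
  have := hV.isLocalization_stalk ⟨x, hx⟩
  exact IsLocalization.map_units (X.presheaf.stalk x)
    (⟨g, hg⟩ : (hV.primeIdealOf ⟨x, hx⟩).asIdeal.primeCompl)

theorem notMem_iff_mem_basicOpen {V : X.Opens} (hV : IsAffineOpen V) {x : X} (hx : x ∈ V)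
    {g : Γ(X, V)} : g ∉ (hV.primeIdealOf ⟨x, hx⟩).asIdeal ↔ x ∈ X.basicOpen g := by
  rw [Scheme.mem_basicOpen _ _ _ hx]
  let := TopCat.Presheaf.algebra_section_stalk X.presheaf (⟨x, hx⟩ : V)
  have := hV.isLocalization_stalk ⟨x, hx⟩
  exact (IsLocalization.AtPrime.isUnit_to_map_iff (X.presheaf.stalk x)
    (hV.primeIdealOf ⟨x, hx⟩).asIdeal g).symm

/-- The restriction map of functions. -/
abbrev rm {V W : X.Opens} (hW : W ≤ V) : Γ(X, V) →+* Γ(X, W) :=
  (X.presheaf.map (homOfLE hW).op).hom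

/-- If `W ≤ V` are affine opens and `x ∈ V` is not in `W`, some function `g` with `g x ≠ 0` lies in the ideal of `Γ(X, W)`
generated by the prime of `x`. -/
theorem exists_mem_map {V : X.Opens} (hV : IsAffineOpen V) {W : X.Opens} (hW : W ≤ V)
    (hWa : IsAffineOpen W) {x : X} (hx : x ∈ V) (hxW : x ∉ W) :
    ∃ g ∉ (hV.primeIdealOf ⟨x, hx⟩).asIdeal,
      rm hW g ∈ (hV.primeIdealOf ⟨x, hx⟩).asIdeal.map (rm hW) := by
  by_contra H
  push Not at H
  set P := hV.primeIdealOf ⟨x, hx⟩ with hP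
  have hle : (P.asIdeal.map (rm hW)).comap (rm hW) ≤ P.asIdeal := by
    intro g hg
    by_contra hgP
    exact H g hgP hg
  obtain ⟨Q, hQ, hQp, hQP⟩ := Ideal.exists_ideal_comap_le_prime P.asIdeal _ hle
  have hQ2 : Q.comap (rm hW) = P.asIdeal :=
    le_antisymm hQP (Ideal.map_le_iff_le_comap.mp hQ)
  have h1 : hWa.fromSpec ⟨Q, hQp⟩ ∈ W := by
    have := hWa.range_fromSpec
    have h2 : hWa.fromSpec ⟨Q, hQp⟩ ∈ Set.range hWa.fromSpec := ⟨_, rfl⟩
    rw [this] at h2
    exact h2
  have h3 : hWa.fromSpec ⟨Q, hQp⟩ = x := by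
    rw [← hV.map_fromSpec hWa (homOfLE hW).op, Scheme.Hom.comp_apply]
    have h4 : Spec.map (X.presheaf.map (homOfLE hW).op) ⟨Q, hQp⟩ = P :=
      PrimeSpectrum.ext hQ2
    rw [h4, hP, hV.fromSpec_primeIdealOf]
  rw [h3] at h1
  exact hxW h1

section

variable {F : X.Modules} [IsIntegral X] [IsLocallyNoetherian X]

/-- If the isomorphism locus of `s` is affine over `V`, then powers of `s` vanish at points of `V` outside it. -/
theorem exists_sPowGerm_mem (hX : Pi1.IsNormalScheme X) (hF : IsRef1 F)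
    (s : Coh.structureModule X ⟶ F) {V : X.Opens} (hV : IsAffineOpen V) {W : X.Opens}
    (hW : W ≤ V) (hWa : IsAffineOpen W) (hη : η X ∈ W)
    (hWU : ∀ y ∈ V, y ∈ isoLocus s → y ∈ W) {x : X} (hx : x ∈ V) (hxW : x ∉ W) :
    ∃ n : ℕ, 0 < n ∧ sPowGerm s n x ∈ IsLocalRing.maximalIdeal (X.presheaf.stalk x) •
      (⊤ : Submodule (X.presheaf.stalk x) ((refPow F n).presheaf.stalk x)) := by
  obtain ⟨g, hg, hgp⟩ := exists_mem_map hV hW hWa hx hxW
  set p := (hV.primeIdealOf ⟨x, hx⟩).asIdeal with hp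
  let : Algebra Γ(X, V) Γ(X, W) := (rm hW).toAlgebra
  have key : ∀ b ∈ p • (⊤ : Submodule Γ(X, V) Γ(X, W)), ∃ N : ℕ, ∀ n ≥ N,
      ∃ t ∈ p • (⊤ : Submodule Γ(X, V) Γ(refPow F n, V)),
        (refPow F n).presheaf.germ V (η X) (hW hη) t =
          (X.presheaf.germ W (η X) hη b) • secGerm (sPow s n) (η X) := by
    intro b hb
    refine Submodule.smul_induction_on hb (fun a ha f _ => ?_) (fun b b' hb hb' => ?_)
    · obtain ⟨N, hN⟩ := K476.RefPow2.exists_section_sPow hX hF s hV hW hη hWU f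
      refine ⟨N, fun n hn => ?_⟩
      obtain ⟨t, ht⟩ := hN n hn
      refine ⟨a • t, Submodule.smul_mem_smul ha trivial, ?_⟩
      have h1 : a • f = rm hW a * f := rfl
      have h2 : X.presheaf.germ W (η X) hη (rm hW a) = X.presheaf.germ V (η X) (hW hη) a :=
        TopCat.Presheaf.germ_res_apply _ _ _ _ _
      rw [germ_smul, ht, h1, map_mul, h2, mul_smul]
    · obtain ⟨N, hN⟩ := hb
      obtain ⟨N', hN'⟩ := hb'
      refine ⟨max N N', fun n hn => ?_⟩
      obtain ⟨t, ht, e⟩ := hN n ((le_max_left _ _).trans hn)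
      obtain ⟨t', ht', e'⟩ := hN' n ((le_max_right _ _).trans hn)
      exact ⟨t + t', Submodule.add_mem _ ht ht', by rw [map_add, map_add, add_smul, e, e']⟩
  have hgp' : rm hW g ∈ p • (⊤ : Submodule Γ(X, V) Γ(X, W)) := by
    rw [Ideal.smul_top_eq_map]
    exact hgp
  obtain ⟨N, hN⟩ := key _ hgp'
  obtain ⟨t, ht, e⟩ := hN (N + 1) (by omega)
  refine ⟨N + 1, by omega, ?_⟩
  have hP := isRef1_refPow hF (N + 1)
  have h2 : X.presheaf.germ W (η X) hη (rm hW g) = X.presheaf.germ V (η X) (hW hη) g :=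
    TopCat.Presheaf.germ_res_apply _ _ _ _ _
  have h3 : t = g • (SecTwist.val (sPow s (N + 1)) V : Γ(refPow F (N + 1), V)) := by
    refine section_ext (inj_of_isReflexive hP.1 hP.2.1) (fun _ => ?_)
    rw [germ_smul, e, h2, secGerm_eq (sPow s (N + 1)) (hW hη)]
  rw [h3] at ht
  have h4 := germ_mem_smul_top hP.1.1 hV hx ht
  rw [germ_smul, secGerm_eq (sPow s (N + 1)) hx] at h4
  rw [sPowGerm_eq]
  obtain ⟨u, hu⟩ := isUnit_germ_of_notMem hV hx hg
  have h5 := Submodule.smul_mem _ (↑u⁻¹ : X.presheaf.stalk x) h4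
  rw [← hu, smul_smul, Units.inv_mul, one_smul] at h5
  exact h5

/-- If powers of `s` vanish at the points of an affine open `V` outside `W`, and `s` generates on `W`, then `W` is
affine. -/
theorem isAffineOpen_of_sPowGerm_mem (hF : IsRef1 F)
    (s : Coh.structureModule X ⟶ F) {V : X.Opens} (hV : IsAffineOpen V) {W : X.Opens}
    (hW : W ≤ V) (hWU : ∀ y ∈ W, y ∈ isoLocus s)
    (H : ∀ x ∈ V, x ∉ W → ∃ n : ℕ, sPowGerm s n x ∈
      IsLocalRing.maximalIdeal (X.presheaf.stalk x) •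
      (⊤ : Submodule (X.presheaf.stalk x) ((refPow F n).presheaf.stalk x))) :
    IsAffineOpen W := by
  refine isAffineOpen_of_isAffineOpen_basicOpen W (rm hW '' {a | X.basicOpen a ≤ W}) ?_ ?_
  · by_contra hne
    obtain ⟨m, hm, hle⟩ := Ideal.exists_le_maximal _ hne
    have hmp := hm.isPrime
    let P : PrimeSpectrum Γ(X, V) := ⟨m.comap (rm hW), inferInstance⟩
    have hxV : hV.fromSpec P ∈ V := by
      have := hV.range_fromSpec
      have h2 : hV.fromSpec P ∈ Set.range hV.fromSpec := ⟨_, rfl⟩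
      rw [this] at h2
      exact h2
    have hP : hV.primeIdealOf ⟨hV.fromSpec P, hxV⟩ = P :=
      hV.fromSpec.isOpenEmbedding.injective (hV.fromSpec_primeIdealOf _)
    have hxW : hV.fromSpec P ∉ W := by
      intro hxW
      obtain ⟨a, haW, hxa⟩ := hV.exists_basicOpen_le ⟨hV.fromSpec P, hxW⟩ hxV
      have h1 := (notMem_iff_mem_basicOpen hV hxV).mpr hxa
      rw [hP] at h1
      exact h1 (hle (Ideal.subset_span ⟨a, haW, rfl⟩))
    obtain ⟨n, hn⟩ := H _ hxV hxW
    have hPn := isRef1_refPow hF n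
    rw [sPowGerm_eq, ← secGerm_eq (sPow s n) hxV] at hn
    obtain ⟨g, hg, hgm⟩ := exists_smul_mem_of_germ hPn.1.1 hV hxV hn
    rw [hP] at hg hgm
    -- the generator over `W`
    have hgen : Groth.Agent.CurvesC.Gen.IsGen (refPow F n) W
        (SecTwist.val (sPow s n) W : Γ(refPow F n, W)) := by
      refine Groth.Agent.CurvesC.DualInvGen.isGen_of_germ _ W _ (fun y hy => ?_)
      have h1 := isGen_sPow hF s (hWU y hy) n
      rw [← secGerm_eq (sPow s n) hy] at h1
      exact h1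
    have key : ∀ y ∈ P.asIdeal • (⊤ : Submodule Γ(X, V) Γ(refPow F n, V)),
        ∃ b ∈ m, (refPow F n).presheaf.map (homOfLE hW).op y =
          b • (SecTwist.val (sPow s n) W : Γ(refPow F n, W)) := by
      intro y hy
      refine Submodule.smul_induction_on hy (fun a ha f _ => ?_) (fun b b' hb hb' => ?_)
      · obtain ⟨c, hc⟩ := hgen.exists_eq ((refPow F n).presheaf.map (homOfLE hW).op f)
        refine ⟨rm hW a * c, Ideal.mul_mem_right _ _ ha, ?_⟩
        rw [Groth.Agent.CurvesC.Gen.map_smul_section, mul_smul, hc]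
      · obtain ⟨c, hc, e⟩ := hb
        obtain ⟨c', hc', e'⟩ := hb'
        exact ⟨c + c', m.add_mem hc hc', by rw [map_add, add_smul, e, e']⟩
    obtain ⟨b, hb, e⟩ := key _ hgm
    rw [Groth.Agent.CurvesC.Gen.map_smul_section] at e
    have e2 : (refPow F n).presheaf.map (homOfLE hW).op
        (SecTwist.val (sPow s n) V : Γ(refPow F n, V)) =
        (SecTwist.val (sPow s n) W : Γ(refPow F n, W)) :=
      SecTwist.map_val (sPow s n) (homOfLE hW)
    rw [e2] at e
    have h6 : rm hW g = b := hgen.injective e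
    apply hg
    change rm hW g ∈ m
    rw [h6]
    exact hb
  · rintro _ ⟨a, ha, rfl⟩
    have h1 : X.basicOpen (rm hW a) = X.basicOpen a := by
      refine (Scheme.basicOpen_res X a (homOfLE hW).op).trans (inf_eq_right.mpr ha)
    rw [h1]
    exact hV.basicOpen a

end

end K476.RefPow3
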