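import Mathlib.RingTheory.Unramified.LocalStructure
import Mathlib.RingTheory.LocalRing.Module
import Mathlib.RingTheory.Etale.StandardEtale
import Mathlib.RingTheory.Smooth.StandardSmooth

/-!
# Algebras whose differentials are generated by `p` elements

If `dim κ(Q) ⊗ Ω[B⁄A] ≤ p` then, near `Q`, `B` is a quotient of an étale algebra over
`A[T_1, …, T_p]`.
-/

set_option autoImplicit false

universe u

noncomputable section

open TensorProduct

namespace K476.UnramSurj

variable {A B : Type u} [CommRing A] [CommRing B] [Algebra A B]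

theorem span_range_tmul (Q : Ideal B) [Q.IsPrime] :
    Submodule.span Q.ResidueField (Set.range fun b : B =>
      (1 : Q.ResidueField) ⊗ₜ[B] KaehlerDifferential.D A B b) = ⊤ := by
  rw [Submodule.eq_top_iff']
  intro z
  induction z using TensorProduct.induction_on with
  | zero => exact Submodule.zero_mem _
  | add a b ha hb => exact Submodule.add_mem _ ha hb
  | tmul c w =>
    have hw : w ∈ Submodule.span B (Set.range (KaehlerDifferential.D A B)) := by
      rw [KaehlerDifferential.span_range_derivation]; trivial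
    induction hw using Submodule.span_induction with
    | zero => rw [TensorProduct.tmul_zero]; exact Submodule.zero_mem _
    | add a b _ _ ha hb => rw [TensorProduct.tmul_add]; exact Submodule.add_mem _ ha hb
    | mem a ha =>
      obtain ⟨b, rfl⟩ := ha
      have h1 : c ⊗ₜ[B] KaehlerDifferential.D A B b =
          c • ((1 : Q.ResidueField) ⊗ₜ[B] KaehlerDifferential.D A B b) := by
        rw [TensorProduct.smul_tmul', smul_eq_mul, mul_one]
      rw [h1]
      exact Submodule.smul_mem _ _ (Submodule.subset_span ⟨b, rfl⟩)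
    | smul b a _ ha =>
      rw [TensorProduct.tmul_smul, TensorProduct.smul_tmul', Algebra.smul_def]
      have h1 : ((algebraMap B Q.ResidueField b) * c) ⊗ₜ[B] a =
          (algebraMap B Q.ResidueField b) • (c ⊗ₜ[B] a) := by
        rw [TensorProduct.smul_tmul', smul_eq_mul]
      rw [h1]
      exact Submodule.smul_mem _ _ ha

/-- Differentials of `p` elements generate at `Q`. -/
theorem exists_fin_span [Algebra.FiniteType A B] (Q : Ideal B) [Q.IsPrime] (p : ℕ)
    (h : Module.finrank Q.ResidueField (Q.ResidueField ⊗[B] Ω[B⁄A]) ≤ p) :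
    ∃ g : Fin p → B, Submodule.span Q.ResidueField (Set.range fun i =>
      (1 : Q.ResidueField) ⊗ₜ[B] KaehlerDifferential.D A B (g i)) = ⊤ := by
  obtain ⟨b, hb, hspan, hli⟩ := exists_linearIndependent Q.ResidueField
    (Set.range fun b : B => (1 : Q.ResidueField) ⊗ₜ[B] KaehlerDifferential.D A B b)
  rw [span_range_tmul] at hspan
  have hfin : Module.Finite Q.ResidueField (Q.ResidueField ⊗[B] Ω[B⁄A]) := inferInstance
  have hbf : Finite b := hli.finite
  let β := Module.Basis.mk hli (by rw [Subtype.range_coe, hspan])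
  have hcard : Nat.card b ≤ p := by
    rw [← Module.finrank_eq_nat_card_basis β]
    exact h
  choose g hg using fun z : b => hb z.2
  let e : Fin (Nat.card b) ≃ b := (Finite.equivFin b).symm
  refine ⟨fun i => if hi : i.1 < Nat.card b then g (e ⟨i.1, hi⟩) else 0, ?_⟩
  rw [eq_top_iff, ← hspan, Submodule.span_le]
  intro z hz
  refine Submodule.subset_span ⟨⟨(e.symm ⟨z, hz⟩).1, (e.symm ⟨z, hz⟩).2.trans_le hcard⟩, ?_⟩
  have h1 : (e.symm ⟨z, hz⟩).1 < Nat.card b := (e.symm ⟨z, hz⟩).2
  simp only [dif_pos h1]
  have h2 : (⟨(e.symm ⟨z, hz⟩).1, h1⟩ : Fin (Nat.card b)) = e.symm ⟨z, hz⟩ := rfl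
  rw [h2, e.apply_symm_apply]
  exact hg ⟨z, hz⟩

/-- Unramifiedness over `A[T_1, …, T_p]`. -/
theorem isUnramifiedAt (Q : Ideal B) [Q.IsPrime] {C : Type u} [CommRing C] [Algebra A C]
    [Algebra C B] [IsScalarTower A C B] [Algebra.FiniteType C B] {ι : Type*} (t : ι → C)
    (h : Submodule.span Q.ResidueField (Set.range fun i =>
      (1 : Q.ResidueField) ⊗ₜ[B] KaehlerDifferential.D A B (algebraMap C B (t i))) = ⊤) :
    Algebra.IsUnramifiedAt C Q := by
  have h1 : (⟨Q, inferInstance⟩ : PrimeSpectrum B) ∈ Algebra.unramifiedLocus C B := by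
    rw [Algebra.unramifiedLocus_eq_compl_support, Set.mem_compl_iff,
      Module.mem_support_iff_nontrivial_residueField_tensorProduct, not_nontrivial_iff_subsingleton]
    let φ : Q.ResidueField ⊗[B] Ω[B⁄A] →ₗ[Q.ResidueField] Q.ResidueField ⊗[B] Ω[B⁄C] :=
      (KaehlerDifferential.map A C B B).baseChange Q.ResidueField
    have hφ : Function.Surjective φ :=
      LinearMap.lTensor_surjective _ (KaehlerDifferential.map_surjective A C B)
    have h2 : φ = 0 := by
      refine LinearMap.ext_on_range h (fun i => ?_)
      have h3 : KaehlerDifferential.map A C B B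
          (KaehlerDifferential.D A B (algebraMap C B (t i))) = 0 := by
        rw [KaehlerDifferential.map_D]
        exact (KaehlerDifferential.D C B).map_algebraMap (t i)
      change (1 : Q.ResidueField) ⊗ₜ[B] (KaehlerDifferential.map A C B B _) = 0
      rw [h3, TensorProduct.tmul_zero]
    change Subsingleton (Q.ResidueField ⊗[B] Ω[B⁄C])
    refine subsingleton_of_forall_eq 0 (fun z => ?_)
    obtain ⟨y, rfl⟩ := hφ z
    rw [h2]; rfl
  exact h1

/-- **Local structure**: `B` is near `Q` a quotient of an étale algebra over `A[T_1, …, T_p]`. -/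
theorem exists_etale_surjection [Algebra.FiniteType A B] (Q : Ideal B) [Q.IsPrime] (p : ℕ)
    (h : Module.finrank Q.ResidueField (Q.ResidueField ⊗[B] Ω[B⁄A]) ≤ p) :
    ∃ f ∉ Q, ∃ (E : Type u) (_ : CommRing E) (_ : Algebra (MvPolynomial (Fin p) A) E)
      (φ : E →+* Localization.Away f), Algebra.Etale (MvPolynomial (Fin p) A) E ∧
        Function.Surjective φ ∧
        φ.comp ((algebraMap (MvPolynomial (Fin p) A) E).comp MvPolynomial.C) =
          algebraMap A (Localization.Away f) := by
  obtain ⟨g, hg⟩ := exists_fin_span Q p h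
  let ψ : MvPolynomial (Fin p) A →ₐ[A] B := MvPolynomial.aeval g
  let i1 : Algebra (MvPolynomial (Fin p) A) B := ψ.toAlgebra
  have i2 : IsScalarTower A (MvPolynomial (Fin p) A) B := IsScalarTower.of_algHom ψ
  have i3 : Algebra.FiniteType (MvPolynomial (Fin p) A) B :=
    Algebra.FiniteType.of_restrictScalars_finiteType A (MvPolynomial (Fin p) A) B
  have i4 : Algebra.IsUnramifiedAt (MvPolynomial (Fin p) A) Q := by
    refine isUnramifiedAt (A := A) Q (fun i : Fin p => MvPolynomial.X i) ?_
    have h1 : ∀ i, algebraMap (MvPolynomial (Fin p) A) B (MvPolynomial.X i) = g i :=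
      fun i => MvPolynomial.aeval_X g i
    simp only [h1]
    exact hg
  obtain ⟨f, hf, P, φ, hφ⟩ :=
    Algebra.IsUnramifiedAt.exists_hasStandardEtaleSurjectionOn (R := MvPolynomial (Fin p) A) Q
  refine ⟨f, hf, P.Ring, inferInstance, inferInstance, φ.toRingHom, inferInstance, hφ, ?_⟩
  ext a
  have h2 : φ (algebraMap (MvPolynomial (Fin p) A) P.Ring (MvPolynomial.C a)) =
      algebraMap (MvPolynomial (Fin p) A) (Localization.Away f) (MvPolynomial.C a) :=
    φ.commutes _
  refine Eq.trans h2 ?_
  rw [IsScalarTower.algebraMap_apply (MvPolynomial (Fin p) A) B (Localization.Away f),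
    IsScalarTower.algebraMap_apply A B (Localization.Away f)]
  congr 1
  exact MvPolynomial.aeval_C g a

theorem exists_etale_surjection' [Algebra.FiniteType A B] (Q : Ideal B) [Q.IsPrime] (p : ℕ)
    (h : Module.finrank Q.ResidueField (Q.ResidueField ⊗[B] Ω[B⁄A]) ≤ p) :
    ∃ f ∉ Q, ∃ (E : Type u) (_ : CommRing E) (_ : Algebra (MvPolynomial (Fin p) A) E),
      Algebra.Etale (MvPolynomial (Fin p) A) E ∧ ∀ (Bf : Type u) [CommRing Bf] [Algebra B Bf]
      [IsLocalization.Away f Bf], ∃ φ : E →+* Bf, Function.Surjective φ ∧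
        φ.comp ((algebraMap (MvPolynomial (Fin p) A) E).comp MvPolynomial.C) =
          (algebraMap B Bf).comp (algebraMap A B) := by
  obtain ⟨f, hf, E, i1, i2, φ, h1, h2, h3⟩ := exists_etale_surjection Q p h
  refine ⟨f, hf, E, i1, i2, h1, fun Bf _ _ _ => ?_⟩
  let e : Localization.Away f ≃ₐ[B] Bf := IsLocalization.algEquiv (.powers f) _ _
  refine ⟨(e : Localization.Away f ≃+* Bf).toRingHom.comp φ, e.surjective.comp h2, ?_⟩
  rw [RingHom.comp_assoc, h3, IsScalarTower.algebraMap_eq A B (Localization.Away f),
    ← RingHom.comp_assoc]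
  congr 1
  exact e.toAlgHom.comp_algebraMap

/-- The fibre of `Ω` of a quotient of an algebra whose differentials are generated by `p`
elements. -/
theorem finrank_le (Q : Ideal B) [Q.IsPrime] {C : Type u} [CommRing C] [Algebra A C]
    [Algebra C B] [IsScalarTower A C B] (hs : Function.Surjective (algebraMap C B)) {p : ℕ}
    (ω : Fin p → Ω[C⁄A]) (hω : Submodule.span C (Set.range ω) = ⊤) :
    Module.finrank Q.ResidueField (Q.ResidueField ⊗[B] Ω[B⁄A]) ≤ p := by
  let ω' : Fin p → Ω[B⁄A] := fun i => KaehlerDifferential.map A A C B (ω i)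
  have h1 : Submodule.span B (Set.range ω') = ⊤ := by
    have h2 := KaehlerDifferential.map_surjective_of_surjective A A C B hs
    rw [Submodule.eq_top_iff']
    intro z
    obtain ⟨y, rfl⟩ := h2 z
    have hy : y ∈ Submodule.span C (Set.range ω) := by rw [hω]; trivial
    induction hy using Submodule.span_induction with
    | zero => rw [map_zero]; exact Submodule.zero_mem _
    | mem a ha =>
      obtain ⟨i, rfl⟩ := ha
      exact Submodule.subset_span ⟨i, rfl⟩
    | add a b _ _ ha hb => rw [map_add]; exact Submodule.add_mem _ ha hb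
    | smul c a _ ha =>
      rw [map_smul, ← algebraMap_smul B c]
      exact Submodule.smul_mem _ _ ha
  let v : Fin p → Q.ResidueField ⊗[B] Ω[B⁄A] := fun i => 1 ⊗ₜ ω' i
  have h3 : Submodule.span Q.ResidueField (Set.range v) = ⊤ := by
    rw [Submodule.eq_top_iff']
    intro z
    induction z using TensorProduct.induction_on with
    | zero => exact Submodule.zero_mem _
    | add a b ha hb => exact Submodule.add_mem _ ha hb
    | tmul c w =>
      have hw : w ∈ Submodule.span B (Set.range ω') := by rw [h1]; trivial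
      induction hw using Submodule.span_induction with
      | zero => rw [TensorProduct.tmul_zero]; exact Submodule.zero_mem _
      | add a b _ _ ha hb => rw [TensorProduct.tmul_add]; exact Submodule.add_mem _ ha hb
      | mem a ha =>
        obtain ⟨b, rfl⟩ := ha
        have h1 : c ⊗ₜ[B] ω' b = c • v b := by
          rw [TensorProduct.smul_tmul', smul_eq_mul, mul_one]
        rw [h1]
        exact Submodule.smul_mem _ _ (Submodule.subset_span ⟨b, rfl⟩)
      | smul b a _ ha =>
        rw [TensorProduct.tmul_smul, TensorProduct.smul_tmul', Algebra.smul_def]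
        have h1 : ((algebraMap B Q.ResidueField b) * c) ⊗ₜ[B] a =
            (algebraMap B Q.ResidueField b) • (c ⊗ₜ[B] a) := by
          rw [TensorProduct.smul_tmul', smul_eq_mul]
        rw [h1]
        exact Submodule.smul_mem _ _ ha
  have h4 := finrank_range_le_card (R := Q.ResidueField) v
  rw [Set.finrank, h3, finrank_top, Fintype.card_fin] at h4
  exact h4

end K476.UnramSurj
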