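import Groth.Agent.SDiv.K474.FittOmega2
import Groth.Agent.FlatB.AffSpaceSmooth
import Groth.Agent.SDiv.K476.UnramSurj

/-!
# The Jacobian loci and embeddings into smooth schemes
-/

set_option autoImplicit false
universe u

open CategoryTheory CategoryTheory.Limits AlgebraicGeometry TopologicalSpace Opposite

noncomputable section

namespace K476.JacEmb

open Groth.Agent Groth.Agent.SDiv.K474.FittSheaf Groth.Agent.SDiv.K474.FittLoc
open Groth.Agent.SDiv.K474.FittOmega Groth.Agent.CurvesB.OmegaDer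
open Groth.Agent.CohqB.FiniteType2 Groth.Agent.Vancyc.H878.OmegaRank
open scoped TensorProduct

variable {X Y : Scheme.{u}}

/-- The Jacobian locus in terms of the fibre of `Ω`. -/
theorem notMem_support_iff_finrank (f : X ⟶ Y) [LocallyOfFiniteType f]
    [QuasiCompact (pullback.diagonal f)] (p : ℕ) {U : Y.Opens} {V : X.Opens} (e : V ≤ f ⁻¹ᵁ U)
    (hU : IsAffineOpen U) (hV : IsAffineOpen V) (x : X) (hx : x ∈ V) :
    letI := algX f e
    x ∉ (Fitt.sheafIdeal (Omega.sheaf f) p).support ↔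
      Module.finrank (hV.primeIdealOf ⟨x, hx⟩).asIdeal.ResidueField
        ((hV.primeIdealOf ⟨x, hx⟩).asIdeal.ResidueField ⊗[Γ(X, V)] Ω[Γ(X, V)⁄Γ(Y, U)]) ≤ p := by
  let := algX f e
  have hft := isFT_omega f
  have hq : Coh.IsQCoh (Omega.sheaf f) := isQCoh_omega f
  have h1 : Algebra.FiniteType Γ(Y, U) Γ(X, V) :=
    LocallyOfFiniteType.finiteType_appLE f hU hV e
  have h3 := finite_sections_of_isFT (Omega.sheaf f) hft hV
  obtain ⟨E⟩ := nonempty_equiv f e hU hV
  have h4 : Module.Finite Γ(X, V) Ω[Γ(X, V)⁄Γ(Y, U)] := Module.Finite.equiv E.symm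
  rw [mem_support_iff_le _ hV hx, sheafIdeal_ideal _ hq hft,
    ← K360.FittBasic.ideal_congr E p, K360.FittFiber.not_le_prime_iff_finrank]

/-- In an affine open `U`, `t` does not vanish at `x` iff `t` is not in the prime ideal of `x`. -/
theorem mem_basicOpen_iff {U : X.Opens} (hU : IsAffineOpen U) (x : X) (hx : x ∈ U)
    (t : Γ(X, U)) : x ∈ X.basicOpen t ↔ t ∉ (hU.primeIdealOf ⟨x, hx⟩).asIdeal := by
  rw [← PrimeSpectrum.mem_basicOpen, ← hU.fromSpec_preimage_basicOpen]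
  change _ ↔ hU.fromSpec (hU.primeIdealOf ⟨x, hx⟩) ∈ X.basicOpen t
  rw [hU.fromSpec_primeIdealOf]

theorem exists_embedding (f : X ⟶ Y) [LocallyOfFiniteType f]
    [QuasiCompact (pullback.diagonal f)] (p : ℕ) (x : X)
    (h : x ∉ (Fitt.sheafIdeal (Omega.sheaf f) p).support) :
    ∃ (U : X.Opens) (U' : Scheme.{u}) (i : (U : Scheme.{u}) ⟶ U') (g : U' ⟶ Y),
        x ∈ U ∧ IsClosedImmersion i ∧ SmoothOfRelativeDimension p g ∧ i ≫ g = U.ι ≫ f := by
  obtain ⟨V, hV, hxV, -⟩ := exists_isAffineOpen_mem_and_subset (x := f x) (U := ⊤) trivial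
  obtain ⟨W, hW, hxW, hWV⟩ := exists_isAffineOpen_mem_and_subset (x := x) (U := f ⁻¹ᵁ V) hxV
  have e : W ≤ f ⁻¹ᵁ V := hWV
  let := algX f e
  have h1 : Algebra.FiniteType Γ(Y, V) Γ(X, W) :=
    LocallyOfFiniteType.finiteType_appLE f hV hW e
  obtain ⟨b, hb, E, i1, i2, hE, H⟩ := K476.UnramSurj.exists_etale_surjection' _ p
    ((notMem_support_iff_finrank f p e hV hW x hxW).mp h)
  have hxb : x ∈ X.basicOpen b := (mem_basicOpen_iff hW x hxW b).mpr hb
  have hWb : X.basicOpen b ≤ W := X.basicOpen_le b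
  have hbA := hW.basicOpen b
  let i3 : Algebra Γ(X, W) Γ(X, X.basicOpen b) := (X.presheaf.map (homOfLE hWb).op).hom.toAlgebra
  have i4 : IsLocalization.Away b Γ(X, X.basicOpen b) := hW.isLocalization_basicOpen b
  obtain ⟨φ, hφ, hφ'⟩ := H Γ(X, X.basicOpen b)
  let π : Spec (CommRingCat.of E) ⟶ Y :=
    Spec.map (CommRingCat.ofHom (algebraMap (MvPolynomial (Fin p) Γ(Y, V)) E)) ≫
      Spec.map (CommRingCat.ofHom (algebraMap Γ(Y, V) (MvPolynomial (Fin p) Γ(Y, V)))) ≫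
        hV.fromSpec
  refine ⟨X.basicOpen b, Spec (CommRingCat.of E), hbA.isoSpec.hom ≫
    Spec.map (CommRingCat.ofHom φ), π, hxb, ?_, ?_, ?_⟩
  · have : IsClosedImmersion (Spec.map (CommRingCat.ofHom φ)) :=
      IsClosedImmersion.spec_of_surjective _ hφ
    infer_instance
  · have h2 : Etale (Spec.map (CommRingCat.ofHom (algebraMap (MvPolynomial (Fin p) Γ(Y, V)) E))) := by
      rw [HasRingHomProperty.Spec_iff (P := @Etale)]
      exact (RingHom.etale_algebraMap).mpr hE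
    have h3 := FlatB.AffSpaceSmooth.smoothOfRelativeDimension_SpecMap Γ(Y, V) p
    have h4 : SmoothOfRelativeDimension (p + 0)
      (Spec.map (CommRingCat.ofHom (algebraMap Γ(Y, V) (MvPolynomial (Fin p) Γ(Y, V)))) ≫
        hV.fromSpec) := inferInstance
    have h5 : SmoothOfRelativeDimension (0 + (p + 0)) π := inferInstance
    rwa [add_zero, zero_add] at h5
  · have e' : X.basicOpen b ≤ f ⁻¹ᵁ V := hWb.trans e
    have h2 : Spec.map (CommRingCat.ofHom φ) ≫
        Spec.map (CommRingCat.ofHom (algebraMap (MvPolynomial (Fin p) Γ(Y, V)) E)) ≫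
        Spec.map (CommRingCat.ofHom (algebraMap Γ(Y, V) (MvPolynomial (Fin p) Γ(Y, V)))) =
        Spec.map (f.appLE V (X.basicOpen b) e') := by
      rw [← Spec.map_comp, ← Spec.map_comp]
      congr 1
      ext1
      refine Eq.trans (b := φ.comp ((algebraMap (MvPolynomial (Fin p) Γ(Y, V)) E).comp
        MvPolynomial.C)) rfl ?_
      rw [hφ']
      change (f.appLE V W e ≫ X.presheaf.map (homOfLE hWb).op).hom = _
      rw [Scheme.Hom.appLE_map]
    change (hbA.isoSpec.hom ≫ Spec.map (CommRingCat.ofHom φ)) ≫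
      Spec.map (CommRingCat.ofHom (algebraMap (MvPolynomial (Fin p) Γ(Y, V)) E)) ≫
      Spec.map (CommRingCat.ofHom (algebraMap Γ(Y, V) (MvPolynomial (Fin p) Γ(Y, V)))) ≫
        hV.fromSpec = _
    rw [Category.assoc, ← Category.assoc (Spec.map (CommRingCat.ofHom (algebraMap
      (MvPolynomial (Fin p) Γ(Y, V)) E))), ← Category.assoc (Spec.map (CommRingCat.ofHom φ)), h2,
      hV.SpecMap_appLE_fromSpec f hbA e', hbA.isoSpec_hom_fromSpec_assoc]

/-- Conversely. -/
theorem notMem_support_of_embedding (f : X ⟶ Y) [LocallyOfFiniteType f]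
    [QuasiCompact (pullback.diagonal f)] (p : ℕ) (x : X) (U : X.Opens) (U' : Scheme.{u})
    (i : (U : Scheme.{u}) ⟶ U') (g : U' ⟶ Y) (hx : x ∈ U) [IsClosedImmersion i]
    [SmoothOfRelativeDimension p g] (hi : i ≫ g = U.ι ≫ f) :
    x ∉ (Fitt.sheafIdeal (Omega.sheaf f) p).support := by
  obtain ⟨V, hV, W', hW', hxW', e, hs⟩ :=
    SmoothOfRelativeDimension.exists_isStandardSmoothOfRelativeDimension (n := p) (f := g)
      (i (⟨x, hx⟩ : U))
  let W₀ : (U : Scheme.{u}).Opens := i ⁻¹ᵁ W'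
  have hW₀ : IsAffineOpen W₀ := hW'.preimage i
  let W : X.Opens := U.ι ''ᵁ W₀
  have hW : IsAffineOpen W := hW₀.image_of_isOpenImmersion U.ι
  have hxW : x ∈ W := ⟨⟨x, hx⟩, hxW', rfl⟩
  have e1 : W₀ ≤ (i ≫ g) ⁻¹ᵁ V := fun z hz => e hz
  have e2 : W₀ ≤ (U.ι ≫ f) ⁻¹ᵁ V := hi ▸ e1
  have eW : W ≤ f ⁻¹ᵁ V := by
    rintro _ ⟨z, hz, rfl⟩
    exact e2 hz
  let ψ : Γ(U', W') ⟶ Γ(X, W) := i.appLE W' W₀ le_rfl ≫ (U.ι.appIso W₀).inv
  have hψ : g.appLE V W' e ≫ ψ = f.appLE V W eW := by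
    have h1 : g.appLE V W' e ≫ i.appLE W' W₀ le_rfl = (U.ι ≫ f).appLE V W₀ e2 := by
      rw [Scheme.Hom.appLE_comp_appLE]
      simp only [hi]
    rw [← Category.assoc, h1, Iso.comp_inv_eq, Scheme.Hom.appIso_hom',
      Scheme.Hom.appLE_comp_appLE]
  have hs1 : Function.Surjective (i.appLE W' W₀ le_rfl) := by
    rw [← Scheme.Hom.app_eq_appLE]
    exact Scheme.Hom.app_surjective i W' hW'
  have hs2 : Function.Surjective ψ.hom := by
    have h2 : Function.Surjective (U.ι.appIso W₀).inv :=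
      (ConcreteCategory.bijective_of_isIso _).2
    have h3 : (ψ.hom : Γ(U', W') → Γ(X, W)) = (U.ι.appIso W₀).inv ∘ (i.appLE W' W₀ le_rfl) := by
      funext a
      exact ConcreteCategory.comp_apply _ _ a
    rw [h3]
    exact h2.comp hs1
  rw [notMem_support_iff_finrank f p eW hV hW x hxW]
  let := algX f eW
  let i1 : Algebra Γ(Y, V) Γ(U', W') := (g.appLE V W' e).hom.toAlgebra
  let i2 : Algebra Γ(U', W') Γ(X, W) := ψ.hom.toAlgebra
  have i3 : IsScalarTower Γ(Y, V) Γ(U', W') Γ(X, W) := IsScalarTower.of_algebraMap_eq' (by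
    change (f.appLE V W eW).hom = ψ.hom.comp (g.appLE V W' e).hom
    rw [← hψ]
    rfl)
  have i4 : Algebra.IsStandardSmoothOfRelativeDimension p Γ(Y, V) Γ(U', W') := hs
  have i5 : Algebra.IsStandardSmooth Γ(Y, V) Γ(U', W') := i4.isStandardSmooth
  have i6 : Nontrivial Γ(U', W') := by
    have : Nonempty W' := ⟨⟨_, hxW'⟩⟩
    infer_instance
  have h7 : Module.finrank Γ(U', W') Ω[Γ(U', W')⁄Γ(Y, V)] = p := by
    rw [Module.finrank, Algebra.IsStandardSmoothOfRelativeDimension.rank_kaehlerDifferential p]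
    exact Cardinal.toNat_natCast p
  have h8 : Module.Finite Γ(U', W') Ω[Γ(U', W')⁄Γ(Y, V)] := inferInstance
  let β := Module.finBasisOfFinrankEq Γ(U', W') _ h7
  exact K476.UnramSurj.finrank_le _ hs2 β β.span_eq

end K476.JacEmb
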