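import Mathlib.RingTheory.Smooth.Fiber
import Mathlib.RingTheory.Smooth.StandardSmoothCotangent

/-!
# The Jacobian criterion for complete intersections

`C → B` surjective with kernel generated by `c` elements whose relations have coefficients in the
kernel, `C` smooth of relative dimension `m + c` over `A`: `B` is smooth over `A` at `Q` iff
`dim κ(Q) ⊗ Ω[B⁄A] ≤ m`.
-/

set_option autoImplicit false

universe u

noncomputable section

open TensorProduct Algebra IsLocalRing

namespace K476.JacAlg

/-- `κ ⊗ J` has dimension `c` for an ideal `J` generated by `c` elements whose relations have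
coefficients in `J`. -/
theorem finrank_ker {P S κ : Type u} [CommRing P] [CommRing S] [Algebra P S] [Field κ]
    [Algebra S κ] [Algebra P κ] [IsScalarTower P S κ]
    {c : ℕ} (f : Fin c → P) (hker : RingHom.ker (algebraMap P S) = Ideal.span (Set.range f))
    (hW : ∀ a : Fin c → P, ∑ i, a i * f i = 0 → ∀ i, algebraMap P S (a i) = 0) :
    Module.finrank κ (κ ⊗[P] RingHom.ker (algebraMap P S)) = c := by
  let J := RingHom.ker (algebraMap P S)
  have hJ : J = Ideal.span (Set.range f) := hker
  have hfJ : ∀ i, f i ∈ J := fun i => by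
    rw [hJ]
    exact Ideal.subset_span ⟨i, rfl⟩
  let F : Fin c → J := fun i => ⟨f i, hfJ i⟩
  let Φ : (Fin c → P) →ₗ[P] J := Fintype.linearCombination P F
  have hΦ : Function.Surjective Φ := by
    rintro ⟨j, hj⟩
    have hj' : j ∈ Ideal.span (Set.range f) := hker ▸ hj
    obtain ⟨a, ha⟩ := (Ideal.mem_span_range_iff_exists_fun).mp hj'
    refine ⟨a, Subtype.ext ?_⟩
    refine Eq.trans ?_ ha
    simp [Φ, Fintype.linearCombination_apply, F]
  let Ψ : (Fin c → P) →ₗ[P] (Fin c → κ) := LinearMap.pi fun i =>
    (Algebra.linearMap P κ) ∘ₗ LinearMap.proj i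
  have hΨ : ∀ a i, Ψ a i = algebraMap P κ (a i) := fun a i => rfl
  have hle : LinearMap.ker Φ ≤ LinearMap.ker Ψ := by
    intro a ha
    have h1 : ∑ i, a i * f i = 0 := by
      have h2 := congrArg Subtype.val (LinearMap.mem_ker.mp ha)
      simpa [Φ, Fintype.linearCombination_apply, F] using h2
    rw [LinearMap.mem_ker]
    funext i
    rw [hΨ, IsScalarTower.algebraMap_apply P S κ, hW a h1 i, map_zero]
    rfl
  let θ : J →ₗ[P] (Fin c → κ) :=
    (LinearMap.ker Φ).liftQ Ψ hle ∘ₗ (Φ.quotKerEquivOfSurjective hΦ).symm.toLinearMap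
  have hθ : ∀ a, θ (Φ a) = Ψ a := by
    intro a
    have h1 : (Φ.quotKerEquivOfSurjective hΦ).symm (Φ a) = (LinearMap.ker Φ).mkQ a := by
      rw [LinearEquiv.symm_apply_eq]
      rfl
    change (LinearMap.ker Φ).liftQ Ψ hle ((Φ.quotKerEquivOfSurjective hΦ).symm (Φ a)) = _
    rw [h1]
    exact Submodule.liftQ_apply _ _ _
  let v : Fin c → κ ⊗[P] J := fun i => 1 ⊗ₜ F i
  have hspan : Submodule.span κ (Set.range v) = ⊤ := by
    rw [Submodule.eq_top_iff']
    intro z
    induction z using TensorProduct.induction_on with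
    | zero => exact Submodule.zero_mem _
    | add a b ha hb => exact Submodule.add_mem _ ha hb
    | tmul k j =>
      obtain ⟨a, rfl⟩ := hΦ j
      rw [Fintype.linearCombination_apply, TensorProduct.tmul_sum]
      refine Submodule.sum_mem _ (fun i _ => ?_)
      have h1 : k ⊗ₜ[P] (a i • F i) = (a i • k) • v i := by
        rw [TensorProduct.tmul_smul, TensorProduct.smul_tmul', TensorProduct.smul_tmul',
          smul_eq_mul, mul_one]
      rw [h1]
      exact Submodule.smul_mem _ _ (Submodule.subset_span ⟨i, rfl⟩)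
  have hfin : Module.Finite κ (κ ⊗[P] J) := ⟨⟨(Set.finite_range v).toFinset, by simpa using hspan⟩⟩
  refine le_antisymm ?_ ?_
  · have h4 := finrank_range_le_card (R := κ) v
    rw [Set.finrank, hspan, finrank_top, Fintype.card_fin] at h4
    exact h4
  · let Θ : κ ⊗[P] J →ₗ[κ] (Fin c → κ) := θ.liftBaseChange κ
    have hΘ : Function.Surjective Θ := by
      rw [← LinearMap.range_eq_top, _root_.eq_top_iff, ← (Pi.basisFun κ (Fin c)).span_eq,
        Submodule.span_le]
      rintro _ ⟨i, rfl⟩
      refine ⟨v i, ?_⟩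
      have h1 : Θ (v i) = (1 : κ) • θ (F i) := LinearMap.liftBaseChange_tmul _ _ _ _
      have h2 : F i = Φ (Pi.single i 1) := by
        simp [Φ, Fintype.linearCombination_apply, Pi.single_apply]
      rw [h1, one_smul, h2, hθ]
      funext j
      rw [hΨ, Pi.basisFun_apply]
      by_cases hij : j = i
      · subst hij; simp
      · simp [hij]
    have h5 := LinearMap.finrank_le_finrank_of_surjective hΘ
    rwa [Module.finrank_fintype_fun_eq_card, Fintype.card_fin] at h5

/-- The local form of the criterion. -/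
theorem formallySmooth_iff {A P S : Type u} [CommRing A] [CommRing P] [CommRing S] [IsLocalRing S]
    [Algebra A P] [Algebra P S] [Algebra A S] [IsScalarTower A P S] [FormallySmooth A P]
    [Module.Free P Ω[P⁄A]] [Module.Finite P Ω[P⁄A]] {n c m : ℕ}
    (hn : Module.finrank P Ω[P⁄A] = n) (hs : Function.Surjective (algebraMap P S))
    (f : Fin c → P) (hker : RingHom.ker (algebraMap P S) = Ideal.span (Set.range f))
    (hW : ∀ a : Fin c → P, ∑ i, a i * f i = 0 → ∀ i, algebraMap P S (a i) = 0)
    (hnm : n = m + c) : FormallySmooth A S ↔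
      Module.finrank (ResidueField S) (ResidueField S ⊗[S] Ω[S⁄A]) ≤ m := by
  have : Nontrivial P := (algebraMap P S).domain_nontrivial
  let E : Algebra.Extension.{u} A S := { Ring := P, σ := _, algebraMap_σ := Function.surjInv_eq hs }
  have hfg : E.ker.FG := by
    refine ⟨(Set.finite_range f).toFinset, ?_⟩
    rw [Set.Finite.coe_toFinset]
    exact hker.symm
  rw [Algebra.FormallySmooth.iff_injective_lTensor_residueField E hfg]
  let κ := ResidueField S
  let φ : κ ⊗[S] E.Cotangent →ₗ[κ] κ ⊗[S] E.CotangentSpace := E.cotangentComplex.baseChange κ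
  let ψ : κ ⊗[S] E.CotangentSpace →ₗ[κ] κ ⊗[S] Ω[S⁄A] := E.toKaehler.baseChange κ
  have hφψ : Function.Exact φ ψ := lTensor_exact κ E.exact_cotangentComplex_toKaehler
    E.toKaehler_surjective
  have hψ : Function.Surjective ψ := LinearMap.lTensor_surjective κ E.toKaehler_surjective
  have d1 : Module.finrank κ (κ ⊗[S] E.Cotangent) = c := by
    have e1 : κ ⊗[S] E.Cotangent ≃ₗ[κ] κ ⊗[P] RingHom.ker (algebraMap P S) :=
      ((AlgebraTensorModule.cancelBaseChange E.Ring S κ κ E.ker).symm ≪≫ₗ
        E.cotangentEquiv.baseChange (A := κ)).symm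
    rw [e1.finrank_eq]
    exact finrank_ker f hker hW
  have hfin2 : Module.Finite S E.CotangentSpace := by
    change Module.Finite S (S ⊗[P] Ω[P⁄A])
    infer_instance
  have d2 : Module.finrank κ (κ ⊗[S] E.CotangentSpace) = n := by
    rw [Module.finrank_baseChange]
    change Module.finrank S (S ⊗[P] Ω[P⁄A]) = n
    rw [Module.finrank_baseChange, hn]
  have hfin1 : Module.Finite κ (κ ⊗[S] E.Cotangent) := by
    have h1 : Module.Finite E.Ring E.Cotangent :=
      have : Module.Finite E.Ring E.ker := .of_fg hfg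
      .of_surjective _ Extension.Cotangent.mk_surjective
    have h2 : Module.Finite S E.Cotangent :=
      Module.Finite.of_restrictScalars_finite E.Ring _ _
    infer_instance
  have hfin3 : Module.Finite κ (κ ⊗[S] E.CotangentSpace) := inferInstance
  have d3 := LinearMap.finrank_range_add_finrank_ker ψ
  have d4 := LinearMap.finrank_range_add_finrank_ker φ
  have d5 : Module.finrank κ (LinearMap.range ψ) = Module.finrank κ (κ ⊗[S] Ω[S⁄A]) := by
    rw [LinearMap.range_eq_top.mpr hψ, finrank_top]
  have d6 : LinearMap.ker ψ = LinearMap.range φ := LinearMap.exact_iff.mp hφψ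
  rw [d5, d6, d2] at d3
  rw [d1] at d4
  have d7 : Function.Injective (E.cotangentComplex.lTensor (ResidueField S)) ↔
      Module.finrank κ (LinearMap.ker φ) = 0 := by
    rw [Submodule.finrank_eq_zero, LinearMap.ker_eq_bot]
    exact Iff.rfl
  rw [d7]
  change Module.finrank κ (LinearMap.ker φ) = 0 ↔ Module.finrank κ (κ ⊗[S] Ω[S⁄A]) ≤ m
  omega

/-- **The Jacobian criterion for complete intersections.** -/
theorem isSmoothAt_iff {A C B : Type u} [CommRing A] [CommRing C] [CommRing B] [Algebra A C]
    [Algebra C B] [Algebra A B] [IsScalarTower A C B] {n c m : ℕ}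
    [Algebra.IsStandardSmoothOfRelativeDimension n A C] (hs : Function.Surjective (algebraMap C B))
    (f : Fin c → C) (hker : RingHom.ker (algebraMap C B) = Ideal.span (Set.range f))
    (hW : ∀ a : Fin c → C, ∑ i, a i * f i = 0 → ∀ i, algebraMap C B (a i) = 0)
    (hnm : n = m + c) (Q : Ideal B) [Q.IsPrime] : Algebra.IsSmoothAt A Q ↔
      Module.finrank Q.ResidueField (Q.ResidueField ⊗[B] Ω[B⁄A]) ≤ m := by
  let M := Q.primeCompl
  let M' := M.comap (algebraMap C B)
  let P := Localization M'
  let S := Localization.AtPrime Q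
  have hSM : IsLocalization M S := inferInstance
  let fP : P →ₐ[A] S := IsLocalization.liftAlgHom (M := M')
      (f := (IsScalarTower.toAlgHom A B S).comp (IsScalarTower.toAlgHom A C B)) fun x ↦ by
    have := IsLocalization.map_units S (⟨algebraMap C B x.1, x.2⟩ : M)
    simpa using this
  have hfP0 : ∀ a : C, fP (algebraMap C P a) = algebraMap B S (algebraMap C B a) := by
    intro a
    exact IsLocalization.lift_eq _ a
  have hf₁ : Function.Surjective fP := by
    intro x
    obtain ⟨x, ⟨s, hs'⟩, rfl⟩ := IsLocalization.exists_mk'_eq M x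
    obtain ⟨x, rfl⟩ := hs x
    obtain ⟨s, rfl⟩ := hs s
    refine ⟨IsLocalization.mk' (M := M') _ x ⟨s, hs'⟩, ?_⟩
    rw [IsLocalization.eq_mk'_iff_mul_eq]
    change fP _ * algebraMap B S (algebraMap C B s) = algebraMap B S (algebraMap C B x)
    rw [← hfP0, ← hfP0, ← map_mul]
    congr 1
    exact IsLocalization.mk'_spec (M := M') P x ⟨s, hs'⟩
  let i1 : Algebra P S := fP.toRingHom.toAlgebra
  have i2 : IsScalarTower A P S := IsScalarTower.of_algebraMap_eq' (fP.comp_algebraMap).symm
  have i3 : FormallyEtale C P := .of_isLocalization M'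
  have i8 : Algebra.IsStandardSmooth A C :=
    Algebra.IsStandardSmoothOfRelativeDimension.isStandardSmooth n
  have i9 : Algebra.Smooth A C := inferInstance
  have i4 : FormallySmooth A P := .comp _ C _
  let e1 := KaehlerDifferential.tensorKaehlerEquivOfFormallyEtale A C P
  have i5 : Module.Free P Ω[P⁄A] := .of_equiv e1
  have i6 : Module.Finite P Ω[P⁄A] := .equiv e1
  have i7 : Nontrivial P := (algebraMap P S).domain_nontrivial
  have i10 : Nontrivial C := (algebraMap C P).domain_nontrivial
  have hn : Module.finrank P Ω[P⁄A] = n := by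
    rw [← e1.finrank_eq, Module.finrank_baseChange, Module.finrank,
      Algebra.IsStandardSmoothOfRelativeDimension.rank_kaehlerDifferential n]
    exact Cardinal.toNat_natCast n
  have hker' : RingHom.ker (algebraMap P S) =
      Ideal.span (Set.range fun i => algebraMap C P (f i)) := by
    have h1 : Ideal.span (Set.range fun i => algebraMap C P (f i)) =
        (RingHom.ker (algebraMap C B)).map (algebraMap C P) := by
      rw [hker, Ideal.map_span, ← Set.range_comp]
      rfl
    rw [h1]
    refine le_antisymm ?_ (Ideal.map_le_iff_le_comap.mpr fun x hx ↦ ?_)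
    · intro x hx
      obtain ⟨x, s, rfl⟩ := IsLocalization.exists_mk'_eq M' x
      have h2 : fP (algebraMap C P x) = 0 := by
        have h3 : algebraMap P S (algebraMap C P s.1 * IsLocalization.mk' P x s) = 0 := by
          rw [map_mul, RingHom.mem_ker.mp hx, mul_zero]
        rwa [mul_comm, IsLocalization.mk'_spec] at h3
      rw [hfP0] at h2
      obtain ⟨⟨a, ha⟩, e⟩ := (IsLocalization.map_eq_zero_iff M S _).mp h2
      obtain ⟨a, rfl⟩ := hs a
      rw [IsLocalization.mk'_mem_map_algebraMap_iff]
      refine ⟨a, ha, ?_⟩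
      rw [RingHom.mem_ker, map_mul]
      exact e
    · rw [Ideal.mem_comap, RingHom.mem_ker]
      change fP _ = 0
      rw [hfP0, RingHom.mem_ker.mp hx, map_zero]
  have hW' : ∀ a : Fin c → P, ∑ i, a i * algebraMap C P (f i) = 0 →
      ∀ i, algebraMap P S (a i) = 0 := by
    intro a ha i
    obtain ⟨s, hs'⟩ := IsLocalization.exist_integer_multiples_of_finite M' a
    choose b hb using hs'
    have h1 : algebraMap C P (∑ i, b i * f i) = 0 := by
      rw [map_sum]
      have h2 : ∑ i, algebraMap C P (b i * f i) =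
          (s : C) • ∑ i, a i * algebraMap C P (f i) := by
        rw [Finset.smul_sum]
        refine Finset.sum_congr rfl (fun i _ => ?_)
        rw [map_mul, hb, smul_mul_assoc]
      rw [h2, ha, smul_zero]
    obtain ⟨t, ht⟩ := (IsLocalization.map_eq_zero_iff M' P _).mp h1
    have h3 : ∑ i, ((t : C) * b i) * f i = 0 := by
      rw [← ht, Finset.mul_sum]
      exact Finset.sum_congr rfl (fun i _ => mul_assoc _ _ _)
    have h4 := hW _ h3 i
    have h5 : fP (algebraMap C P (t * b i)) = 0 := by rw [hfP0, h4, map_zero]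
    rw [map_mul, hb, Algebra.smul_def, map_mul, map_mul] at h5
    have h6 : ∀ t : M', IsUnit (fP (algebraMap C P t)) := fun t =>
      (IsLocalization.map_units P t).map fP
    rw [(h6 t).mul_right_eq_zero, (h6 s).mul_right_eq_zero] at h5
    exact h5
  have key := formallySmooth_iff (S := S) hn hf₁ _ hker' hW' hnm
  refine key.trans ?_
  have i11 : FormallyEtale B S := .of_isLocalization M
  let e2 := KaehlerDifferential.tensorKaehlerEquivOfFormallyEtale A B S
  have e3 : ResidueField S ⊗[S] Ω[S⁄A] ≃ₗ[ResidueField S] ResidueField S ⊗[B] Ω[B⁄A] :=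
    (e2.symm.baseChange (A := ResidueField S)) ≪≫ₗ
      AlgebraTensorModule.cancelBaseChange B S (ResidueField S) (ResidueField S) Ω[B⁄A]
  rw [e3.finrank_eq]

end K476.JacAlg
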