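import Groth.Agent.SDiv.K476.JacEmb
import Groth.Agent.SDiv.K476.JacAlg
import Groth.Agent.AlgSp.K637.RegImmKinds
import Groth.Agent.RegImm.K559.Basic

/-!
# Smoothness of local complete intersections through the Jacobian locus
-/

set_option autoImplicit false
universe u

open CategoryTheory CategoryTheory.Limits AlgebraicGeometry TopologicalSpace Opposite

noncomputable section

namespace K476.JacLci

open Groth.Agent Groth.Agent.SDiv.K474.FittSheaf Groth.Agent.SDiv.K474.FittLoc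
open Groth.Agent.SDiv.K474.FittOmega Groth.Agent.CurvesB.OmegaDer
open Groth.Agent.CohqB.FiniteType2 Groth.Agent.Vancyc.H878.OmegaRank
open K476.JacEmb
open scoped TensorProduct

variable {X Y : Scheme.{u}}

/-- Relations of an `H_1`-regular sequence have coefficients in the ideal. -/
theorem coeff_mem {R : Type u} [CommRing R] {c : ℕ} (f : Fin c → R) (h : CAlgX.IsH1Regular f)
    (a : Fin c → R) (ha : ∑ i, a i * f i = 0) (i : Fin c) : a i ∈ Ideal.span (Set.range f) := by
  have h1 := h a ha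
  clear ha
  induction h1 using Submodule.span_induction generalizing i with
  | zero => exact Ideal.zero_mem _
  | mem v hv =>
    obtain ⟨j, k, rfl⟩ := hv
    rw [Pi.sub_apply]
    refine Ideal.sub_mem _ ?_ ?_
    · by_cases hij : i = j
      · subst hij
        rw [Pi.single_eq_same]
        exact Ideal.subset_span ⟨k, rfl⟩
      · rw [Pi.single_eq_of_ne hij]
        exact Ideal.zero_mem _
    · by_cases hij : i = k
      · subst hij
        rw [Pi.single_eq_same]
        exact Ideal.subset_span ⟨j, rfl⟩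
      · rw [Pi.single_eq_of_ne hij]
        exact Ideal.zero_mem _
  | add u v _ _ hu hv => exact Ideal.add_mem _ (hu i) (hv i)
  | smul r v _ hv => exact Ideal.mul_mem_left _ _ (hv i)

/-- The weak form of `H_1`-regularity localizes. -/
theorem weak_loc {R R' B' : Type u} [CommRing R] [CommRing R'] [CommRing B'] [Algebra R R']
    (M : Submonoid R) [IsLocalization M R'] (φ : R' →+* B') {c : ℕ} (f : Fin c → R)
    (hW : ∀ a : Fin c → R, ∑ i, a i * f i = 0 → ∀ i, φ (algebraMap R R' (a i)) = 0) :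
    ∀ a : Fin c → R', ∑ i, a i * algebraMap R R' (f i) = 0 → ∀ i, φ (a i) = 0 := by
  intro a ha i
  obtain ⟨s, hs'⟩ := IsLocalization.exist_integer_multiples_of_finite M a
  choose b hb using hs'
  have h1 : algebraMap R R' (∑ i, b i * f i) = 0 := by
    rw [map_sum]
    have h2 : ∑ i, algebraMap R R' (b i * f i) =
        (s : R) • ∑ i, a i * algebraMap R R' (f i) := by
      rw [Finset.smul_sum]
      refine Finset.sum_congr rfl (fun i _ => ?_)
      rw [map_mul, hb, smul_mul_assoc]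
    rw [h2, ha, smul_zero]
  obtain ⟨t, ht⟩ := (IsLocalization.map_eq_zero_iff M R' _).mp h1
  have h3 : ∑ i, ((t : R) * b i) * f i = 0 := by
    rw [← ht, Finset.mul_sum]
    exact Finset.sum_congr rfl (fun i _ => mul_assoc _ _ _)
  have h5 := hW _ h3 i
  rw [map_mul, hb, Algebra.smul_def, map_mul, map_mul] at h5
  have h6 : ∀ t : M, IsUnit (φ (algebraMap R R' t)) := fun t =>
    (IsLocalization.map_units R' t).map φ
  rw [(h6 t).mul_right_eq_zero, (h6 s).mul_right_eq_zero] at h5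
  exact h5

/-- Standard smoothness restricts to basic opens. -/
theorem isStandardSmooth_res {P : Scheme.{u}} (π : P ⟶ X) {V : X.Opens} {W D : P.Opens} {n : ℕ}
    (e : W ≤ π ⁻¹ᵁ V) (hs : (π.appLE V W e).hom.IsStandardSmoothOfRelativeDimension n)
    (hW : IsAffineOpen W) (g : Γ(P, W)) (hD : D = P.basicOpen g) (eD : D ≤ π ⁻¹ᵁ V) :
    (π.appLE V D eD).hom.IsStandardSmoothOfRelativeDimension n := by
  have hDW : D ≤ W := hD ▸ P.basicOpen_le g
  let i1 : Algebra Γ(X, V) Γ(P, W) := (π.appLE V W e).hom.toAlgebra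
  let i2 : Algebra Γ(P, W) Γ(P, D) := (P.presheaf.map (homOfLE hDW).op).hom.toAlgebra
  let i3 : Algebra Γ(X, V) Γ(P, D) := (π.appLE V D eD).hom.toAlgebra
  have i4 : IsScalarTower Γ(X, V) Γ(P, W) Γ(P, D) := IsScalarTower.of_algebraMap_eq' (by
    change (π.appLE V D eD).hom = (P.presheaf.map (homOfLE hDW).op).hom.comp (π.appLE V W e).hom
    rw [← Scheme.Hom.appLE_map π e (homOfLE hDW).op]
    rfl)
  have i5 : IsLocalization.Away g Γ(P, D) := hW.isLocalization_of_eq_basicOpen g (homOfLE hDW) hD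
  have i6 : Algebra.IsStandardSmoothOfRelativeDimension 0 Γ(P, W) Γ(P, D) :=
    Algebra.IsStandardSmoothOfRelativeDimension.localization_away g
  have i7 : Algebra.IsStandardSmoothOfRelativeDimension n Γ(X, V) Γ(P, W) := hs
  have i8 := Algebra.IsStandardSmoothOfRelativeDimension.trans n 0 Γ(X, V) Γ(P, W) Γ(P, D)
  rwa [zero_add] at i8

/-- Smoothness of a local complete intersection through the Jacobian locus. -/
theorem mem_smoothLocus_iff (f : Y ⟶ X) [LocallyOfFinitePresentation f]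
    [QuasiCompact (pullback.diagonal f)] (m : ℕ) (y : Y) (U : Y.Opens) (P : Scheme.{u})
    (i : (U : Scheme.{u}) ⟶ P) (π : P ⟶ X) (c : ℕ) (hy : y ∈ U)
    (hi : RegImm.IsRegularImmersionOfCodim RegImm.Kind.koszul c i)
    [SmoothOfRelativeDimension (m + c) π] (h : i ≫ π = U.ι ≫ f) :
    y ∈ f.smoothLocus ↔ y ∉ (Fitt.sheafIdeal (Omega.sheaf f) m).support := by
  obtain ⟨⟨T, hT⟩, hyT, hcl, rs, rfl, hseq, hker⟩ := hi.2 ⟨y, hy⟩
  obtain ⟨V, hV, W', hW', hyW', e, hs⟩ :=
    SmoothOfRelativeDimension.exists_isStandardSmoothOfRelativeDimension (n := m + rs.length)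
      (f := π) (i (⟨y, hy⟩ : U))
  obtain ⟨g, g', hgg, hyg⟩ := exists_basicOpen_le_affine_inter hT hW' (i (⟨y, hy⟩ : U))
    ⟨hyT, hyW'⟩
  let D := P.basicOpen g
  have hD : IsAffineOpen D := hT.basicOpen g
  have hDT : D ≤ T := P.basicOpen_le g
  have hDW : D ≤ W' := by
    change P.basicOpen g ≤ W'
    rw [hgg]
    exact P.basicOpen_le g'
  have eD : D ≤ π ⁻¹ᵁ V := hDW.trans e
  have hsD := isStandardSmooth_res π e hs hW' g' hgg eD
  -- the affine open of `Y`
  let W₀ : (U : Scheme.{u}).Opens := i ⁻¹ᵁ D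
  have hclD : IsClosedImmersion (i ∣_ D) :=
    K559.Basic.isClosedImmersion_restrict_of_le hDT hcl
  have hW₀ : IsAffineOpen W₀ := K559.Basic.isAffineOpen_preimage hD hclD
  let W : Y.Opens := U.ι ''ᵁ W₀
  have hW : IsAffineOpen W := hW₀.image_of_isOpenImmersion U.ι
  have hyW : y ∈ W := ⟨⟨y, hy⟩, hyg, rfl⟩
  have e1 : W₀ ≤ (i ≫ π) ⁻¹ᵁ V := fun z hz => eD hz
  have e2 : W₀ ≤ (U.ι ≫ f) ⁻¹ᵁ V := h ▸ e1
  have eW : W ≤ f ⁻¹ᵁ V := by
    rintro _ ⟨z, hz, rfl⟩
    exact e2 hz
  let ψ : Γ(P, D) ⟶ Γ(Y, W) := i.appLE D W₀ le_rfl ≫ (U.ι.appIso W₀).inv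
  have hψ : π.appLE V D eD ≫ ψ = f.appLE V W eW := by
    have h1 : π.appLE V D eD ≫ i.appLE D W₀ le_rfl = (U.ι ≫ f).appLE V W₀ e2 := by
      rw [Scheme.Hom.appLE_comp_appLE]
      simp only [h]
    rw [← Category.assoc, h1, Iso.comp_inv_eq, Scheme.Hom.appIso_hom',
      Scheme.Hom.appLE_comp_appLE]
  have hinv : Function.Bijective (U.ι.appIso W₀).inv.hom :=
    ConcreteCategory.bijective_of_isIso (U.ι.appIso W₀).inv
  have hψ' : ψ.hom = (U.ι.appIso W₀).inv.hom.comp (i.app D).hom := by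
    rw [Scheme.Hom.app_eq_appLE]
    rfl
  have hs2 : Function.Surjective ψ.hom := by
    rw [hψ']
    exact hinv.2.comp (K559.Basic.app_surjective hD hclD)
  have hkerψ : RingHom.ker ψ.hom = RingHom.ker (i.app D).hom := by
    rw [hψ']
    ext a
    rw [RingHom.mem_ker, RingHom.mem_ker, RingHom.comp_apply]
    exact map_eq_zero_iff _ hinv.1
  -- the generators
  let ρ : Γ(P, T) →+* Γ(P, D) := (P.presheaf.map (homOfLE hDT).op).hom
  let fs : Fin rs.length → Γ(P, T) := rs.get
  have hsp : Ideal.ofList rs = Ideal.span (Set.range fs) := by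
    rw [Ideal.ofList]
    congr 1
    ext a
    rw [Set.mem_ofPred_eq, List.mem_iff_get]
    rfl
  have hkerD : RingHom.ker ψ.hom = Ideal.span (Set.range fun j => ρ (fs j)) := by
    rw [hkerψ, K559.Basic.ker_app_of_le hT hD hDT hcl, hker, hsp, Ideal.map_span,
      ← Set.range_comp]
    rfl
  have hWT : ∀ a : Fin rs.length → Γ(P, T), ∑ j, a j * fs j = 0 → ∀ j, ψ.hom (ρ (a j)) = 0 := by
    intro a ha j
    have h1 := coeff_mem fs (K637.RegImmKinds.seq_h1_of_koszul hseq) a ha j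
    rw [← RingHom.mem_ker, hkerψ, K559.Basic.ker_app_of_le hT hD hDT hcl, hker, hsp]
    exact Ideal.mem_map_of_mem _ h1
  let j1 : Algebra Γ(P, T) Γ(P, D) := ρ.toAlgebra
  have j2 : IsLocalization.Away g Γ(P, D) := hT.isLocalization_basicOpen g
  have hWD := weak_loc (.powers g) ψ.hom fs hWT
  rw [notMem_support_iff_finrank f m eW hV hW y hyW, Scheme.Hom.mem_smoothLocus,
    formallySmooth_stalkMap_iff V hV W hW eW hyW]
  let := algX f eW
  let i1 : Algebra Γ(X, V) Γ(P, D) := (π.appLE V D eD).hom.toAlgebra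
  let i2 : Algebra Γ(P, D) Γ(Y, W) := ψ.hom.toAlgebra
  have i3 : IsScalarTower Γ(X, V) Γ(P, D) Γ(Y, W) := IsScalarTower.of_algebraMap_eq' (by
    change (f.appLE V W eW).hom = ψ.hom.comp (π.appLE V D eD).hom
    rw [← hψ]
    rfl)
  have i4 : Algebra.IsStandardSmoothOfRelativeDimension (m + rs.length) Γ(X, V) Γ(P, D) := hsD
  exact K476.JacAlg.isSmoothAt_iff hs2 _ hkerD hWD rfl (hW.primeIdealOf ⟨y, hyW⟩).asIdeal

end K476.JacLci
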