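import Groth.Agent.SDiv.K476.Ref1

/-!
# Codimension one points outside a nonempty open; extension of rational sections with poles

* `finite_codim_one`: in an affine open `V` of a locally Noetherian integral scheme, only finitely many points of
  codimension one lie outside a given nonempty open;
* `exists_section_of_codim_one`: a rational section of a reflexive coherent module on a normal scheme which is
  defined at all points of codimension one of `V` is a section over `V`;
* `exists_pow_mul_mem`: clearing denominators in a discrete valuation ring.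
-/

set_option autoImplicit false
set_option backward.isDefEq.respectTransparency false

universe u

noncomputable section

open CategoryTheory CategoryTheory.Limits AlgebraicGeometry TopologicalSpace Opposite
open RefHull K476.HomSh1 K476.HomSh3 K476.HomSh4 Groth.Agent.CycB.ModStalk K475.GenStalk
open K476.TensStalk K476.Ref1

namespace K476.Codim1Fin

/-! ### Algebra -/

theorem exists_pow_mul_mem {R K : Type*} [CommRing R] [IsDomain R] [IsDiscreteValuationRing R]
    [Field K] [Algebra R K] [IsFractionRing R K] {c : R} (hc : c ∈ IsLocalRing.maximalIdeal R)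
    (f : K) : ∃ N : ℕ, ∀ n ≥ N, ∃ g : R, algebraMap R K g = algebraMap R K (c ^ n) * f := by
  obtain ⟨a, b, hb, rfl⟩ := IsFractionRing.div_surjective (A := R) f
  have hb0 : b ≠ 0 := nonZeroDivisors.ne_zero hb
  have hbot : Ideal.span {b} ≠ ⊥ := by rwa [ne_eq, Ideal.span_singleton_eq_bot]
  obtain ⟨N, hN⟩ : ∃ N : ℕ, Ideal.span {b} = IsLocalRing.maximalIdeal R ^ N := by
    obtain ⟨ϖ, hϖ⟩ := IsDiscreteValuationRing.exists_irreducible R
    obtain ⟨n, hn⟩ := IsDiscreteValuationRing.ideal_eq_span_pow_irreducible hbot hϖ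
    refine ⟨n, ?_⟩
    rw [hn, (IsDiscreteValuationRing.irreducible_iff_uniformizer ϖ).mp hϖ,
      Ideal.span_singleton_pow]
  refine ⟨N, fun n hn => ?_⟩
  have h1 : c ^ n ∈ Ideal.span {b} := by
    rw [hN]
    exact Ideal.pow_le_pow_right hn (Ideal.pow_mem_pow hc n)
  obtain ⟨d, hd⟩ := Ideal.mem_span_singleton.mp h1
  refine ⟨d * a, ?_⟩
  have hb' : algebraMap R K b ≠ 0 := by
    rwa [ne_eq, IsFractionRing.to_map_eq_zero_iff]
  rw [hd, map_mul, map_mul]
  field_simp

theorem finite_height_one {A : Type*} [CommRing A] [IsDomain A] [IsNoetherianRing A] {g : A}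
    (hg : g ≠ 0) : {p : PrimeSpectrum A | p.asIdeal.height = 1 ∧ g ∈ p.asIdeal}.Finite := by
  have h1 := Ideal.finite_minimalPrimes_of_isNoetherianRing A (Ideal.span {g})
  refine Set.Finite.of_finite_image (f := PrimeSpectrum.asIdeal) (h1.subset ?_)
    (fun p _ q _ h => PrimeSpectrum.ext h)
  rintro _ ⟨p, ⟨hp, hgp⟩, rfl⟩
  refine ⟨⟨p.2, (Ideal.span_singleton_le_iff_mem _).mpr hgp⟩, ?_⟩
  rintro q ⟨hq, hgq⟩ hqp
  by_contra hne
  have hlt : q < p.asIdeal := lt_of_le_not_ge hqp hne
  have hq0 : q ≠ ⊥ := by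
    rintro rfl
    exact hg ((Ideal.span_singleton_le_iff_mem _).mp hgq)
  have h2 : (⊥ : Ideal A) < q := bot_lt_iff_ne_bot.mpr hq0
  have hpp := p.2
  have : (⊥ : Ideal A).IsPrime := Ideal.isPrime_bot
  have h3 := Ideal.height_strict_mono_of_isPrime hlt
  have h4 := Ideal.height_strict_mono_of_isPrime h2
  rw [hp] at h3
  have h5 : q.height = 0 := Order.lt_one_iff.mp h3
  rw [h5] at h4
  exact not_lt_zero h4

variable {X : Scheme.{u}}

/-- Only finitely many points of codimension one of an affine open lie outside a nonempty open. -/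
theorem finite_codim_one [IsIntegral X] [IsLocallyNoetherian X] {V : X.Opens} (hV : IsAffineOpen V)
    {W : X.Opens} (hW : W ≤ V) (hη : η X ∈ W) :
    {y : X | y ∈ V ∧ y ∉ W ∧ ringKrullDim (X.presheaf.stalk y) = 1}.Finite := by
  have hN : IsNoetherianRing Γ(X, V) := IsLocallyNoetherian.component_noetherian ⟨V, hV⟩
  have : Nonempty V := ⟨⟨η X, hW hη⟩⟩
  obtain ⟨g, hgW, hgη⟩ := hV.exists_basicOpen_le ⟨η X, hη⟩ (hW hη)
  have hg0 : g ≠ 0 := by
    rintro rfl
    rw [Scheme.basicOpen_zero] at hgη
    exact hgη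
  have h1 := finite_height_one hg0
  classical
  let f : X → PrimeSpectrum Γ(X, V) := fun y =>
    if h : y ∈ V then hV.primeIdealOf ⟨y, h⟩ else ⊥
  refine Set.Finite.of_finite_image (f := f) (h1.subset ?_) ?_
  · rintro _ ⟨y, ⟨hyV, hyW, hdim⟩, rfl⟩
    have e : f y = hV.primeIdealOf ⟨y, hyV⟩ := dif_pos hyV
    rw [e]
    let := TopCat.Presheaf.algebra_section_stalk X.presheaf (⟨y, hyV⟩ : V)
    have hloc := hV.isLocalization_stalk ⟨y, hyV⟩
    have h2 := IsLocalization.AtPrime.ringKrullDim_eq_height
      (hV.primeIdealOf ⟨y, hyV⟩).asIdeal (X.presheaf.stalk y)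
    refine ⟨?_, ?_⟩
    · rw [hdim] at h2
      exact (WithBot.coe_eq_coe.mp h2).symm
    · by_contra hg
      apply hyW
      apply hgW
      rw [Scheme.mem_basicOpen _ _ _ hyV]
      exact IsLocalization.map_units (X.presheaf.stalk y)
        (⟨g, hg⟩ : (hV.primeIdealOf ⟨y, hyV⟩).asIdeal.primeCompl)
  · rintro y ⟨hyV, -, -⟩ z ⟨hzV, -, -⟩ h
    have e : f y = hV.primeIdealOf ⟨y, hyV⟩ := dif_pos hyV
    have e' : f z = hV.primeIdealOf ⟨z, hzV⟩ := dif_pos hzV
    rw [e, e'] at h
    have h3 := congrArg hV.fromSpec h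
    rw [hV.fromSpec_primeIdealOf, hV.fromSpec_primeIdealOf] at h3
    exact h3

/-- A rational section of a reflexive coherent module on a normal scheme defined at all codimension one points of `V` is
a section over `V`. -/
theorem exists_section_of_codim_one [IsIntegral X] [IsLocallyNoetherian X]
    (hX : Pi1.IsNormalScheme X) {F : X.Modules} (hF : Coh.IsCoh F) (hr : IsReflexive F)
    (V : X.Opens) (v : F.presheaf.stalk (η X))
    (hv : ∀ y ∈ V, ringKrullDim (X.presheaf.stalk y) = 1 →
      v ∈ Set.range (F.presheaf.stalkSpecializes (spec y))) :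
    ∃ t : Γ(F, V), ∀ hη : η X ∈ V, F.presheaf.germ V (η X) hη t = v := by
  refine exists_section (inj_of_isReflexive hF hr) V v (fun x hx => ?_)
  exact K475.Codim1.mem_range_of_codim_one hX hF x ((isReflexive_iff_isReflexiveAt hF).mp hr x) v
    (fun y hy hdim => hv y (hy.mem_open V.2 hx) hdim)

end K476.Codim1Fin
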