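import Groth.Agent.Dual.H366.ExtLoc
import Mathlib.RingTheory.Localization.Module

/-!
# Localization of exterior powers, as a linear equivalence
-/

set_option autoImplicit false

open Groth.Agent.Krr.H495.ExtSemi Groth.Agent.Dual.H366

namespace K476.ExtAlg

variable {A B : Type*} [CommRing A] [CommRing B] [Algebra A B] (S : Submonoid A)
  [IsLocalization S B]

include S in
/-- A semilinear map to a module over the localization which inverts `S` in the obvious sense identifies its target with
any other localization. -/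
theorem exists_equiv_of_semilinear {P Q Y : Type*} [AddCommGroup P] [Module A P] [AddCommGroup Q]
    [Module A Q] [Module B Q] [IsScalarTower A B Q] (g : P →ₗ[A] Q) [IsLocalizedModule S g]
    [AddCommGroup Y] [Module B Y] (μ₀ : P →ₛₗ[algebraMap A B] Y)
    (hs : ∀ y : Y, ∃ (s : S) (x : P), algebraMap A B s • y = μ₀ x)
    (hi : ∀ x : P, μ₀ x = 0 → ∃ s : S, (s : A) • x = 0) :
    ∃ Ψ : Y ≃ₗ[B] Q, ∀ p : P, Ψ (μ₀ p) = g p := by
  let iA : Module A Y := Module.compHom _ (algebraMap A B)
  have hA : ∀ (a : A) (y : Y), a • y = algebraMap A B a • y := fun _ _ => rfl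
  have iT : IsScalarTower A B Y := ⟨fun a b y => by
    rw [hA, Algebra.smul_def, mul_smul]⟩
  let μ : P →ₗ[A] Y :=
    { toFun := μ₀
      map_add' := map_add μ₀
      map_smul' := fun a p => LinearMap.map_smulₛₗ μ₀ a p }
  have hμ : IsLocalizedModule S μ := by
    refine ⟨fun s => ?_, fun y => ?_, fun {p q} h => ?_⟩
    · rw [Module.End.isUnit_iff]
      obtain ⟨u, hu⟩ := IsLocalization.map_units B s
      constructor
      · intro y y' h
        have h' : algebraMap A B s • y = algebraMap A B s • y' := h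
        rw [← hu] at h'
        exact (Units.isUnit u).smul_left_cancel.mp h'
      · intro y
        refine ⟨(↑u⁻¹ : B) • y, ?_⟩
        change algebraMap A B s • (↑u⁻¹ : B) • y = y
        rw [← hu, smul_smul, Units.mul_inv, one_smul]
    · obtain ⟨s, x, hx⟩ := hs y
      exact ⟨⟨x, s⟩, hx⟩
    · have h1 : μ₀ (p - q) = 0 := by
        rw [map_sub, sub_eq_zero]
        exact h
      obtain ⟨s, hs⟩ := hi _ h1
      refine ⟨s, ?_⟩
      rw [← sub_eq_zero]
      change (s : A) • p - (s : A) • q = 0
      rw [← smul_sub]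
      exact hs
  let Ψ₀ : Y ≃ₗ[A] Q := IsLocalizedModule.linearEquiv S μ g
  exact ⟨Ψ₀.extendScalarsOfIsLocalization S B, fun p => IsLocalizedModule.linearEquiv_apply S μ g p⟩

variable {M N : Type*} [AddCommGroup M] [Module A M] [AddCommGroup N] [Module A N]
  [Module B N] [IsScalarTower A B N] (f : M →ₗ[A] N) [IsLocalizedModule S f]
  {P Q : Type*} [AddCommGroup P] [Module A P] [AddCommGroup Q] [Module A Q] [Module B Q]
  [IsScalarTower A B Q] (g : P →ₗ[A] Q) [IsLocalizedModule S g] (i : ℕ)
  (e : P ≃ₗ[A] ⋀[A]^i M)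

include S in
/-- The exterior power of a localization of `M` is the localization of the exterior power of `M`. -/
theorem exists_equiv : ∃ Ψ : ⋀[B]^i N ≃ₗ[B] Q, ∀ m : Fin i → M,
    Ψ (exteriorPower.ιMulti B i (fun j => f (m j))) = g (e.symm (exteriorPower.ιMulti A i m)) := by
  obtain ⟨Ψ, hΨ⟩ := exists_equiv_of_semilinear S g
    ((extS i (ExtLoc.semi (B := B) f)).comp e.toLinearMap)
    (fun y => by
      obtain ⟨s, x, hx⟩ := ExtLoc.exists_smul_eq_extS (B := B) S f i y
      refine ⟨s, e.symm x, ?_⟩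
      rw [LinearMap.comp_apply, LinearEquiv.coe_coe, e.apply_symm_apply, hx])
    (fun x hx => by
      obtain ⟨s, hs⟩ := ExtLoc.exists_smul_eq_zero (B := B) S f i (e x) hx
      refine ⟨s, ?_⟩
      rwa [← map_smul, LinearEquiv.map_eq_zero_iff] at hs)
  refine ⟨Ψ, fun m => ?_⟩
  rw [← hΨ, LinearMap.comp_apply, LinearEquiv.coe_coe, e.apply_symm_apply, extS_ιMulti]
  rfl

end K476.ExtAlg
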