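import Groth.Agent.SDiv.K476.ExtAlg
import Groth.Agent.Krr.H495.ExtPre
import Groth.Agent.Ega1.QCohLoc
import Groth.Agent.SDiv.K476.HomSh3
import Groth.Agent.CycB.ModStalk

/-!
# Stalks of exterior powers

For `L` an `i`-th exterior power of a quasi-coherent `E` (`ExtPow.IsExtPow i E L`):
* `isQCoh_of_isExtPow`, `isCoh_of_isExtPow`;
* `dec hL U e ∈ Γ(L, U)`: the section `e_1 ∧ ⋯ ∧ e_i` over an affine open `U`;
* `wedge hE hL x : E_x [⋀^Fin i]→ L_x`, universal (`span_wedge`, `wedgeEquiv`), with `wedge_germ` and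
  `stalkSpecializes_wedge`.
-/

set_option autoImplicit false
set_option backward.isDefEq.respectTransparency false

universe u

noncomputable section

open CategoryTheory CategoryTheory.Limits AlgebraicGeometry TopologicalSpace Opposite
open Groth.Agent.Sga67.Sec Groth.Agent.Fdesc
open Groth.Agent.Krr.H495.ExtSemi Groth.Agent.Krr.H495.ExtPre Groth.Agent.Dual.H366

namespace K476.ExtStalk

variable {X : Scheme.{u}} {i : ℕ} {E L : X.Modules}

/-- The identification of the sections of an exterior power over an affine open. -/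
def phi (hL : ExtPow.IsExtPow i E L) (U : X.affineOpens) :
    (Sec L U.1) ≃ₗ[Γ(X, U.1)] ⋀[Γ(X, U.1)]^i (Sec E U.1) := hL.choose U

/-- The section `e_1 ∧ ⋯ ∧ e_i`. -/
def dec (hL : ExtPow.IsExtPow i E L) (U : X.affineOpens) (e : Fin i → Sec E U.1) : Sec L U.1 :=
  (phi hL U).symm (exteriorPower.ιMulti _ i e)

theorem res_dec (hL : ExtPow.IsExtPow i E L) {U V : X.affineOpens} (h : V.1 ≤ U.1)
    (e : Fin i → Sec E U.1) : res L h (dec hL U e) = dec hL V (fun j => res E h (e j)) :=
  hL.choose_spec U V h e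

theorem res_phi_symm (hL : ExtPow.IsExtPow i E L) {U V : X.affineOpens} (h : V.1 ≤ U.1)
    (y : ⋀[Γ(X, U.1)]^i (Sec E U.1)) :
    res L h ((phi hL U).symm y) = (phi hL V).symm (eres i E h y) := by
  have hy : y ∈ Submodule.span Γ(X, U.1)
      (Set.range (exteriorPower.ιMulti Γ(X, U.1) i (M := Sec E U.1))) := by
    rw [exteriorPower.ιMulti_span]; trivial
  induction hy using Submodule.span_induction with
  | mem y hy =>
    obtain ⟨e, rfl⟩ := hy
    rw [eres_ιMulti]
    exact res_dec hL h e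
  | zero => rw [map_zero, map_zero, map_zero, map_zero]
  | add x y _ _ hx hy => rw [map_add, map_add, map_add, map_add, hx, hy]
  | smul a x _ hx => rw [map_smul, res_smul, hx, LinearMap.map_smulₛₗ, map_smul]

theorem phi_res (hL : ExtPow.IsExtPow i E L) {U V : X.affineOpens} (h : V.1 ≤ U.1)
    (s : Sec L U.1) : phi hL V (res L h s) = eres i E h (phi hL U s) := by
  have h1 := res_phi_symm hL h (phi hL U s)
  rw [LinearEquiv.symm_apply_apply] at h1
  rw [h1, LinearEquiv.apply_symm_apply]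

/-- An exterior power of a quasi-coherent module is quasi-coherent. -/
theorem isQCoh_of_isExtPow (hE : Coh.IsQCoh E) (hL : ExtPow.IsExtPow i E L) : Coh.IsQCoh L := by
  refine Groth.Agent.Ega1.QCohLoc.isQCoh_of_isLocOnAffines _ (fun U hU g => ?_)
  let i1 := QCohStalk.resModule E (X.basicOpen_le g)
  let i2 : Algebra Γ(X, U) Γ(X, X.basicOpen g) := (resO X (X.basicOpen_le g)).toAlgebra
  have i3 : IsScalarTower Γ(X, U) Γ(X, X.basicOpen g) Γ(E, X.basicOpen g) :=
    ⟨fun a b c => by rw [Algebra.smul_def, mul_smul]; rfl⟩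
  have i4 : IsLocalization (.powers g) Γ(X, X.basicOpen g) := hU.isLocalization_basicOpen g
  have i5 := QCohStalk.isLocalizedModule_res E hU hE g
  let U' : X.affineOpens := ⟨U, hU⟩
  let V' : X.affineOpens := ⟨X.basicOpen g, hU.basicOpen g⟩
  constructor
  · intro s
    obtain ⟨⟨_, k, rfl⟩, x, hx⟩ := ExtLoc.exists_smul_eq_extS (B := Γ(X, X.basicOpen g))
      (.powers g) (QCohStalk.resₗ E (X.basicOpen_le g)) i (phi hL V' s)
    refine ⟨k, (phi hL U').symm x, ?_⟩
    have h1 := res_phi_symm hL (U := U') (V := V') (X.basicOpen_le g) x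
    refine Eq.trans h1 ((LinearEquiv.symm_apply_eq (phi hL V')).mpr ?_)
    refine Eq.trans hx.symm ?_
    have h2 : (Groth.Agent.Ega1.QCohLoc.resO (X.basicOpen_le g)) g ^ k =
      resO X (X.basicOpen_le g) (g ^ k) := (map_pow _ g k).symm
    rw [h2]
    exact (map_smul (phi hL V') (resO X (X.basicOpen_le g) (g ^ k)) s).symm
  · intro t ht
    have h1 := phi_res hL (U := U') (V := V') (X.basicOpen_le g) t
    have ht' : res L (X.basicOpen_le g) t = 0 := ht
    have h2 : eres i E (X.basicOpen_le g) (phi hL U' t) = 0 := by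
      rw [← h1]
      exact (congrArg (phi hL V') ht').trans (map_zero _)
    obtain ⟨⟨_, k, rfl⟩, hk⟩ := ExtLoc.exists_smul_eq_zero (B := Γ(X, X.basicOpen g)) (.powers g)
      (QCohStalk.resₗ E (X.basicOpen_le g)) i (phi hL U' t) h2
    refine ⟨k, (phi hL U').injective ?_⟩
    rw [map_zero]
    exact (map_smul (phi hL U') (g ^ k) t).trans hk

/-- An exterior power of a coherent module on a locally Noetherian scheme is coherent. -/
theorem isCoh_of_isExtPow [IsLocallyNoetherian X] (hE : Coh.IsCoh E)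
    (hL : ExtPow.IsExtPow i E L) : Coh.IsCoh L := by
  have hq := isQCoh_of_isExtPow hE.1 hL
  refine K476.HomSh3.isCoh_of_isFP
    ((Groth.Agent.Desc.FPSections.isFP_iff_sections hq).mpr (fun V hV => ?_))
  have : IsNoetherianRing Γ(X, V) := IsLocallyNoetherian.component_noetherian ⟨V, hV⟩
  have h1 : Module.Finite Γ(X, V) (Sec E V) := Groth.Agent.Divis.StalkMod.finite_sections hE hV
  have h2 : Module.Finite Γ(X, V) (Sec L V) := Module.Finite.equiv (phi hL ⟨V, hV⟩).symm
  have h3 : Module.Finite Γ(X, V) Γ(L, V) := h2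
  exact Module.finitePresentation_of_finite _ _

/-! ### Stalks -/

/-- The stalk of an exterior power, computed on one affine open. -/
theorem exists_equiv_affine (hE : Coh.IsQCoh E) (hL : ExtPow.IsExtPow i E L) {x : X}
    (U : X.affineOpens) (hx : x ∈ U.1) :
    ∃ Ψ : ⋀[X.presheaf.stalk x]^i (E.presheaf.stalk x) ≃ₗ[X.presheaf.stalk x]
      L.presheaf.stalk x, ∀ e : Fin i → Sec E U.1,
      Ψ (exteriorPower.ιMulti _ i (fun j => E.presheaf.germ U.1 x hx (e j))) =
        L.presheaf.germ U.1 x hx (dec hL U e) := by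
  have hLq := isQCoh_of_isExtPow hE hL
  let i1 : Algebra Γ(X, U.1) (X.presheaf.stalk x) :=
    TopCat.Presheaf.algebra_section_stalk X.presheaf (⟨x, hx⟩ : U.1)
  let i2 := QCohStalk.stalkModule E x hx
  let i3 := QCohStalk.stalkModule L x hx
  have i4 : IsScalarTower Γ(X, U.1) (X.presheaf.stalk x) (E.presheaf.stalk x) :=
    Groth.Agent.Divis.StalkMod.isScalarTower_stalk E x hx
  have i5 : IsScalarTower Γ(X, U.1) (X.presheaf.stalk x) (L.presheaf.stalk x) :=
    Groth.Agent.Divis.StalkMod.isScalarTower_stalk L x hx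
  have i6 := U.2.isLocalization_stalk ⟨x, hx⟩
  have i7 := QCohStalk.isLocalizedModule_germ E U.2 hE x hx
  have i8 := QCohStalk.isLocalizedModule_germ L U.2 hLq x hx
  obtain ⟨Ψ, hΨ⟩ := K476.ExtAlg.exists_equiv (B := X.presheaf.stalk x)
    (U.2.primeIdealOf ⟨x, hx⟩).asIdeal.primeCompl (QCohStalk.germₗ E x hx)
    (QCohStalk.germₗ L x hx) i (phi hL U)
  exact ⟨Ψ, hΨ⟩

theorem exists_chart (x : X) : ∃ U : X.affineOpens, x ∈ U.1 := by
  obtain ⟨U, hU, hx, -⟩ := exists_isAffineOpen_mem_and_subset (x := x) (U := ⊤) trivial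
  exact ⟨⟨U, hU⟩, hx⟩

/-- The stalk of an exterior power is the exterior power of the stalk. -/
def wedgeEquiv (hE : Coh.IsQCoh E) (hL : ExtPow.IsExtPow i E L) (x : X) :
    ⋀[X.presheaf.stalk x]^i (E.presheaf.stalk x) ≃ₗ[X.presheaf.stalk x] L.presheaf.stalk x :=
  (exists_equiv_affine hE hL (exists_chart x).choose (exists_chart x).choose_spec).choose

theorem germ_res (M : X.Modules) {U V : X.Opens} (h : V ≤ U) {x : X} (hx : x ∈ V) (s : Sec M U) :
    M.presheaf.germ V x hx (res M h s) = M.presheaf.germ U x (h hx) s :=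
  TopCat.Presheaf.germ_res_apply M.presheaf (homOfLE h) x hx s

theorem germ_resO {U V : X.Opens} (h : V ≤ U) {x : X} (hx : x ∈ V) (s : Γ(X, U)) :
    X.presheaf.germ V x hx (resO X h s) = X.presheaf.germ U x (h hx) s :=
  TopCat.Presheaf.germ_res_apply X.presheaf (homOfLE h) x hx s

theorem germ_smul (M : X.Modules) {U : X.Opens} {x : X} (hx : x ∈ U) (r : Γ(X, U)) (s : Sec M U) :
    M.presheaf.germ U x hx (r • s : Sec M U) =
      X.presheaf.germ U x hx r • M.presheaf.germ U x hx s :=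
  Groth.Agent.CycB.ModStalk.germ_smul (L := M) U x hx r s

theorem dec_smul (hL : ExtPow.IsExtPow i E L) (U : X.affineOpens) (g : Fin i → Γ(X, U.1))
    (e : Fin i → Sec E U.1) : dec hL U (fun j => g j • e j) = (∏ j, g j) • dec hL U e := by
  rw [dec, AlternatingMap.map_smul_univ, map_smul]
  rfl

theorem wedgeEquiv_germ (hE : Coh.IsQCoh E) (hL : ExtPow.IsExtPow i E L) {x : X}
    (U : X.affineOpens) (hx : x ∈ U.1) (e : Fin i → Sec E U.1) :
    wedgeEquiv hE hL x (exteriorPower.ιMulti _ i (fun j => E.presheaf.germ U.1 x hx (e j))) =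
      L.presheaf.germ U.1 x hx (dec hL U e) := by
  set U₀ := (exists_chart x).choose with hU₀
  have hx₀ : x ∈ U₀.1 := (exists_chart x).choose_spec
  have hΨ := (exists_equiv_affine hE hL (exists_chart x).choose
    (exists_chart x).choose_spec).choose_spec
  change ∀ e : Fin i → Sec E U₀.1, wedgeEquiv hE hL x (exteriorPower.ιMulti _ i
    (fun j => E.presheaf.germ U₀.1 x hx₀ (e j))) = L.presheaf.germ U₀.1 x hx₀ (dec hL U₀ e) at hΨ
  -- clear denominators
  choose g s hg hs using fun j => QCohStalk.exists_germ_eq_smul E U₀.2 hE x hx₀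
    (E.presheaf.germ U.1 x hx (e j))
  have hunit : ∀ j, IsUnit (X.presheaf.germ U₀.1 x hx₀ (g j)) := fun j =>
    (X.mem_basicOpen (g j) x hx₀).mp (hg j)
  have hV : ∀ j, ∃ (V : X.Opens) (h₁ : V ≤ U.1) (h₀ : V ≤ U₀.1), x ∈ V ∧
      res E h₀ (s j) = resO X h₀ (g j) • res E h₁ (e j) := by
    intro j
    have hxx : x ∈ U.1 ⊓ U₀.1 := ⟨hx, hx₀⟩
    have hl : U.1 ⊓ U₀.1 ≤ U.1 := inf_le_left
    have hr : U.1 ⊓ U₀.1 ≤ U₀.1 := inf_le_right
    have h1 : E.presheaf.germ (U.1 ⊓ U₀.1) x hxx (res E hr (s j)) =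
        E.presheaf.germ (U.1 ⊓ U₀.1) x hxx (resO X hr (g j) • res E hl (e j)) := by
      rw [germ_smul, germ_res, germ_res, germ_resO]
      exact hs j
    obtain ⟨V, hxV, k, l, h2⟩ := E.presheaf.germ_eq x hxx hxx _ _ h1
    refine ⟨V, k.le.trans hl, k.le.trans hr, hxV, ?_⟩
    have h3 : res E k.le (res E hr (s j)) = res E k.le (resO X hr (g j) • res E hl (e j)) := h2
    rw [res_smul, res_res, res_res, resO_resO] at h3
    exact h3
  choose W h₁ h₀ hxW hW using hV
  obtain ⟨Z, hxZ, hZU, hZW⟩ := K476.HomSh3.exists_common W (U.1 ⊓ U₀.1) ⟨hx, hx₀⟩ hxW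
  obtain ⟨V, hVa, hxV, hVZ⟩ := exists_isAffineOpen_mem_and_subset (x := x) (U := Z) hxZ
  let V' : X.affineOpens := ⟨V, hVa⟩
  have hVZ' : V ≤ Z := hVZ
  have hVU : V ≤ U.1 := hVZ'.trans (hZU.trans inf_le_left)
  have hVU₀ : V ≤ U₀.1 := hVZ'.trans (hZU.trans inf_le_right)
  have key : ∀ j, res E hVU₀ (s j) = resO X hVU₀ (g j) • res E hVU (e j) := by
    intro j
    have h3 := congrArg (res E (hVZ'.trans (hZW j))) (hW j)
    rw [res_smul, res_res, res_res, resO_resO] at h3
    exact h3
  -- compare the decomposable sections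
  have h5 : L.presheaf.germ U₀.1 x hx₀ (dec hL U₀ s) =
      (∏ j, X.presheaf.germ U₀.1 x hx₀ (g j)) • L.presheaf.germ U.1 x hx (dec hL U e) := by
    rw [← germ_res L hVU₀ hxV, ← germ_res L hVU hxV]
    have h6 : res L hVU₀ (dec hL U₀ s) = dec hL V' (fun j => res E hVU₀ (s j)) :=
      res_dec hL (V := V') hVU₀ s
    have h7 : res L hVU (dec hL U e) = dec hL V' (fun j => res E hVU (e j)) :=
      res_dec hL (V := V') hVU e
    rw [h6, h7]
    have h8 : (fun j => res E hVU₀ (s j)) = fun j => resO X hVU₀ (g j) • res E hVU (e j) :=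
      funext key
    rw [h8]
    have h9 := dec_smul hL V' (fun j => resO X hVU₀ (g j)) (fun j => res E hVU (e j))
    rw [h9, germ_smul, map_prod]
    congr 1
    exact Finset.prod_congr rfl (fun j _ => germ_resO hVU₀ hxV (g j))
  have h10 := hΨ s
  have h11 : (fun j => E.presheaf.germ U₀.1 x hx₀ (s j)) =
      fun j => X.presheaf.germ U₀.1 x hx₀ (g j) • E.presheaf.germ U.1 x hx (e j) := funext hs
  rw [h11, AlternatingMap.map_smul_univ, map_smul, h5] at h10
  have hprod : IsUnit (∏ j, X.presheaf.germ U₀.1 x hx₀ (g j)) :=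
    Finset.prod_induction _ IsUnit (fun _ _ => IsUnit.mul) isUnit_one (fun j _ => hunit j)
  exact hprod.smul_left_cancel.mp h10

/-- The wedge product on stalks. -/
def wedge (hE : Coh.IsQCoh E) (hL : ExtPow.IsExtPow i E L) (x : X) :
    (E.presheaf.stalk x) [⋀^Fin i]→ₗ[X.presheaf.stalk x] L.presheaf.stalk x :=
  (wedgeEquiv hE hL x).toLinearMap.compAlternatingMap (exteriorPower.ιMulti _ i)

theorem wedge_apply (hE : Coh.IsQCoh E) (hL : ExtPow.IsExtPow i E L) (x : X)
    (v : Fin i → E.presheaf.stalk x) :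
    wedge hE hL x v = wedgeEquiv hE hL x (exteriorPower.ιMulti _ i v) := rfl

theorem wedge_germ (hE : Coh.IsQCoh E) (hL : ExtPow.IsExtPow i E L) {x : X}
    (U : X.affineOpens) (hx : x ∈ U.1) (e : Fin i → Sec E U.1) :
    wedge hE hL x (fun j => E.presheaf.germ U.1 x hx (e j)) =
      L.presheaf.germ U.1 x hx (dec hL U e) := wedgeEquiv_germ hE hL U hx e

/-- Decomposable elements span the stalk. -/
theorem span_wedge (hE : Coh.IsQCoh E) (hL : ExtPow.IsExtPow i E L) (x : X) :
    Submodule.span (X.presheaf.stalk x) (Set.range (wedge hE hL x)) = ⊤ := by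
  have h1 : Set.range (wedge hE hL x) = (wedgeEquiv hE hL x) ''
      (Set.range (exteriorPower.ιMulti (X.presheaf.stalk x) i (M := E.presheaf.stalk x))) := by
    rw [← Set.range_comp]
    rfl
  rw [h1]
  have h2 := Submodule.span_image (wedgeEquiv hE hL x).toLinearMap (s := Set.range
    (exteriorPower.ιMulti (X.presheaf.stalk x) i (M := E.presheaf.stalk x)))
  rw [exteriorPower.ιMulti_span, Submodule.map_top, LinearEquiv.range] at h2
  exact h2

/-- Every finite family of stalk elements consists of germs over a common affine open. -/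
theorem exists_common_affine {x : X} {κ : Type*} [Finite κ] (v : κ → E.presheaf.stalk x) :
    ∃ (U : X.affineOpens) (hx : x ∈ U.1) (e : κ → Sec E U.1),
      ∀ j, E.presheaf.germ U.1 x hx (e j) = v j := by
  choose W hW s hs using fun j => E.presheaf.exists_germ_eq (v j)
  obtain ⟨Z, hxZ, -, hZW⟩ := K476.HomSh3.exists_common W ⊤ (x := x) trivial hW
  obtain ⟨V, hVa, hxV, hVZ⟩ := exists_isAffineOpen_mem_and_subset (x := x) (U := Z) hxZ
  have hVZ' : V ≤ Z := hVZ
  refine ⟨⟨V, hVa⟩, hxV, fun j => res E (hVZ'.trans (hZW j)) (s j), fun j => ?_⟩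
  exact (germ_res E (hVZ'.trans (hZW j)) hxV (s j)).trans (hs j)

/-- Wedge products specialize. -/
theorem stalkSpecializes_wedge (hE : Coh.IsQCoh E) (hL : ExtPow.IsExtPow i E L) {x y : X}
    (h : y ⤳ x) (v : Fin i → E.presheaf.stalk x) :
    L.presheaf.stalkSpecializes h (wedge hE hL x v) =
      wedge hE hL y (fun j => E.presheaf.stalkSpecializes h (v j)) := by
  obtain ⟨U, hx, e, he⟩ := exists_common_affine v
  obtain rfl : (fun j => E.presheaf.germ U.1 x hx (e j)) = v := funext he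
  have hy : y ∈ U.1 := h.mem_open U.1.2 hx
  have h1 : (fun j => E.presheaf.stalkSpecializes h (E.presheaf.germ U.1 x hx (e j))) =
      fun j => E.presheaf.germ U.1 y hy (e j) :=
    funext fun j => TopCat.Presheaf.germ_stalkSpecializes_apply E.presheaf hx h (e j)
  rw [h1, wedge_germ, wedge_germ]
  exact TopCat.Presheaf.germ_stalkSpecializes_apply L.presheaf hx h _

end K476.ExtStalk
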