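import Groth.Agent.SDiv.K476.Ref1

/-!
# Isomorphisms of reflexive modules from generators in codimension one

`nonempty_iso_of_codim_one`: an isomorphism of generic stalks matching generators at all points of
codimension one comes from an isomorphism of coherent reflexive modules (normal integral locally
Noetherian scheme).
-/

set_option autoImplicit false
set_option backward.isDefEq.respectTransparency false

universe u

noncomputable section

open CategoryTheory CategoryTheory.Limits AlgebraicGeometry TopologicalSpace Opposite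
open RefHull K475.GenStalk K476.TensStalk Groth.Agent.CycB.ModStalk

namespace K476.RefIso

variable {X : Scheme.{u}} [IsIntegral X] [IsLocallyNoetherian X] {M N : X.Modules}

theorem mem_range_of_gen (hX : Pi1.IsNormalScheme X) (hN : Coh.IsCoh N) (hNr : IsReflexive N)
    (T : M.presheaf.stalk (η X) →ₗ[X.presheaf.stalk (η X)] N.presheaf.stalk (η X))
    (h : ∀ x : X, ringKrullDim (X.presheaf.stalk x) = 1 →
      ∃ (t : M.presheaf.stalk x) (t' : N.presheaf.stalk x), IsGen M x t ∧
        T (M.presheaf.stalkSpecializes (spec x) t) = N.presheaf.stalkSpecializes (spec x) t')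
    (x : X) (m : M.presheaf.stalk x) :
    T (M.presheaf.stalkSpecializes (spec x) m) ∈
      Set.range (N.presheaf.stalkSpecializes (spec x)) := by
  refine K475.Codim1.mem_range_of_codim_one hX hN x
    ((K476.HomSh4.isReflexive_iff_isReflexiveAt hN).mp hNr x) _ (fun y hy hdim => ?_)
  obtain ⟨t, t', ht, htt⟩ := h y hdim
  rw [← spec_spec M hy]
  obtain ⟨a, ha⟩ := ht.2 (M.presheaf.stalkSpecializes hy m)
  have ha' : a • t = M.presheaf.stalkSpecializes hy m := ha
  rw [← ha']
  refine ⟨a • t', ?_⟩
  rw [stalkSpecializes_smul, stalkSpecializes_smul, map_smul, htt]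

theorem nonempty_iso_of_codim_one (hX : Pi1.IsNormalScheme X) (hM : Coh.IsCoh M)
    (hMr : IsReflexive M) (hN : Coh.IsCoh N) (hNr : IsReflexive N)
    (T : M.presheaf.stalk (η X) ≃ₗ[X.presheaf.stalk (η X)] N.presheaf.stalk (η X))
    (h : ∀ x : X, ringKrullDim (X.presheaf.stalk x) = 1 →
      ∃ (t : M.presheaf.stalk x) (t' : N.presheaf.stalk x), IsGen M x t ∧ IsGen N x t' ∧
        T (M.presheaf.stalkSpecializes (spec x) t) = N.presheaf.stalkSpecializes (spec x) t') :
    Nonempty (M ≅ N) := by
  have hMI : Inj M := K476.Ref1.inj_of_isReflexive hM hMr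
  have hNI : Inj N := K476.Ref1.inj_of_isReflexive hN hNr
  have h1 := mem_range_of_gen hX hN hNr T.toLinearMap (fun x hx => by
    obtain ⟨t, t', ht, -, h⟩ := h x hx
    exact ⟨t, t', ht, h⟩)
  have h2 := mem_range_of_gen hX hM hMr T.symm.toLinearMap (fun x hx => by
    obtain ⟨t, t', -, ht, h⟩ := h x hx
    exact ⟨t', t, ht, (LinearEquiv.symm_apply_eq T).mpr h.symm⟩)
  refine ⟨⟨homOf hNI T.toLinearMap h1, homOf hMI T.symm.toLinearMap h2, ?_, ?_⟩⟩
  · refine hom_ext hMI ?_
    ext m
    rw [K476.HomSh1.stalkMapₗ_comp, stalkMapₗ_homOf, stalkMapₗ_homOf, K476.HomSh1.stalkMapₗ_id]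
    exact T.symm_apply_apply m
  · refine hom_ext hNI ?_
    ext m
    rw [K476.HomSh1.stalkMapₗ_comp, stalkMapₗ_homOf, stalkMapₗ_homOf, K476.HomSh1.stalkMapₗ_id]
    exact T.apply_symm_apply m

end K476.RefIso
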