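import Groth.Agent.SDiv.K476.WedgeD
import Groth.Agent.SDiv.K476.RefIso
import Groth.Agent.SDiv.K476.DivSec
import Groth.Agent.SDiv.K476.RegRef

/-!
# Determinants of modifications along a divisor

`nonempty_iso`: if at all points of codimension one the elementary divisors of `F ⟶ F'` multiply to
the `k`-th power of a local equation of `D`, then `(det F')** ≅ (det F)** ⊗ O_X(D)^{⊗ k}`.
-/

set_option autoImplicit false
set_option backward.isDefEq.respectTransparency false

universe u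

noncomputable section

open CategoryTheory CategoryTheory.Limits AlgebraicGeometry TopologicalSpace Opposite
open RefHull K475.GenStalk K476.ExtStalk K476.TensStalk Groth.Agent.CycB.ModStalk K476.WedgeD
open K476.DivSec K476.RegRef

namespace K476.ModTwist

variable {X : Scheme.{u}} [IsIntegral X] [IsLocallyNoetherian X] {r : ℕ} {F F' L L' : X.Modules}

/-- The elementary divisors of `a : F ⟶ F'` at `x` multiply to the `k`-th power of an equation of
`D`. -/
def TwistAt (a : F ⟶ F') (𝓓 : X.IdealSheafData) (r k : ℕ) (x : X) : Prop :=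
  ∃ (e : Fin r → F.presheaf.stalk x) (e' : Fin r → F'.presheaf.stalk x)
    (c : Fin r → X.presheaf.stalk x) (f : X.presheaf.stalk x)
    (δ : (dual (ClSub.idealMod 𝓓)).presheaf.stalk x),
    SpansAt F x e ∧ SpansAt F' x e' ∧ (∀ j, c j ≠ 0) ∧
    (∀ j, F'.presheaf.stalkSpecializes (spec x) (stalkMapₗ a x (e j)) =
      F'.presheaf.stalkSpecializes (spec x) (c j • e' j)) ∧
    IsGen (dual (ClSub.idealMod 𝓓)) x δ ∧ sGerm 𝓓 x = f • δ ∧ Associated (∏ j, c j) (f ^ k)

omit [IsLocallyNoetherian X] in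
theorem spec_ne_zero {x : X} {c : X.presheaf.stalk x} (hc : c ≠ 0) :
    IsUnit ((X.presheaf.stalkSpecializes (spec x)).hom c) := by
  have h1 : (X.presheaf.stalkSpecializes (spec x)).hom c ≠ 0 := by
    intro h2
    apply hc
    have hinj : Function.Injective (algebraMap (X.presheaf.stalk x) X.functionField) :=
      IsFractionRing.injective _ _
    exact hinj (h2.trans (map_zero _).symm)
  exact IsUnit.mk0 (G₀ := X.functionField) _ h1

/-- The canonical section of `O_X(D)` generates at the generic point. -/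
theorem isGen_sGerm_eta {𝓓 : X.IdealSheafData} (hD : BlowUp.IsEffCartierIdeal 𝓓) :
    IsGen (dual (ClSub.idealMod 𝓓)) (η X) (sGerm 𝓓 (η X)) := by
  obtain ⟨U, hx, f, δ, hf, -, hδ, h⟩ := exists_local hD (η X)
  have hU : Nonempty U.1 := ⟨⟨_, hx⟩⟩
  have h1 : IsUnit (X.presheaf.germ U.1 (η X) hx f) := by
    refine IsUnit.mk0 (G₀ := X.functionField) _ ?_
    have hne : f ≠ 0 := nonZeroDivisors.ne_zero hf
    intro h0
    exact hne ((map_eq_zero_iff _ (X.germToFunctionField_injective U.1)).mp h0)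
  rw [h]
  exact K476.Ref1.isGen_of_span hδ (by
    obtain ⟨u, hu⟩ := h1
    rw [eq_top_iff]
    intro m _
    obtain ⟨b, rfl⟩ := hδ.2 m
    rw [← hu]
    refine Submodule.mem_span_singleton.mpr ⟨b * ↑u⁻¹, ?_⟩
    rw [smul_smul, mul_assoc, Units.inv_mul, mul_one])

theorem isGen_smul_unit {M : X.Modules} {x : X} {t : M.presheaf.stalk x} (ht : IsGen M x t)
    (u : (X.presheaf.stalk x)ˣ) : IsGen M x ((u : X.presheaf.stalk x) • t) :=
  K476.Ref1.isGen_of_span ht (by
    rw [eq_top_iff]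
    intro m _
    obtain ⟨b, rfl⟩ := ht.2 m
    refine Submodule.mem_span_singleton.mpr ⟨b * ↑u⁻¹, ?_⟩
    rw [smul_smul, mul_assoc, Units.inv_mul, mul_one])

theorem nonempty_iso (hX : Pi1.IsNormalScheme X) (hF : Coh.IsCoh F) (hF' : Coh.IsCoh F')
    (a : F ⟶ F') (hα : Function.Bijective (stalkMapₗ a (η X)))
    (b : Module.Basis (Fin r) (X.presheaf.stalk (η X)) (F.presheaf.stalk (η X)))
    {𝓓 : X.IdealSheafData} (hD : BlowUp.IsEffCartierIdeal 𝓓)
    (hL : ExtPow.IsExtPow r F L) (hL' : ExtPow.IsExtPow r F' L') {k : ℕ}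
    (hR : IsReflexive (CohB1.tensorMod (ddual L)
      (CohB1.tensorPow (dual (ClSub.idealMod 𝓓)) k)))
    (h : ∀ x : X, ringKrullDim (X.presheaf.stalk x) = 1 → TwistAt a 𝓓 r k x) :
    Nonempty (ddual L' ≅ CohB1.tensorMod (ddual L)
      (CohB1.tensorPow (dual (ClSub.idealMod 𝓓)) k)) := by
  have hLc := isCoh_of_isExtPow hF hL
  have hLc' := isCoh_of_isExtPow hF' hL'
  have hRc : Coh.IsCoh (CohB1.tensorMod (ddual L)
      (CohB1.tensorPow (dual (ClSub.idealMod 𝓓)) k)) :=
    K476.Ref1.isCoh_tensorMod (K476.HomSh4.isCoh_ddual hLc)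
      (isCoh_tensorPow (K476.HomSh4.isCoh_dual (isCoh_idealMod 𝓓)) k)
  let A : F.presheaf.stalk (η X) ≃ₗ[X.presheaf.stalk (η X)] F'.presheaf.stalk (η X) :=
    LinearEquiv.ofBijective (stalkMapₗ a (η X)) hα
  let b' := b.map A
  have hb' : ∀ j, b' j = stalkMapₗ a (η X) (b j) := fun j => rfl
  have g1 : IsGen (ddual L) (η X) (wd hF.1 hL (η X) b) := isGen_wd_eta hF hL b
  have g2 : IsGen (ddual L') (η X) (wd hF'.1 hL' (η X) b') := isGen_wd_eta hF' hL' b'
  have g3 := isGen_stmul g1 (isGen_tpow (isGen_sGerm_eta hD) k)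
  let E1 : X.presheaf.stalk (η X) ≃ₗ[X.presheaf.stalk (η X)] (ddual L').presheaf.stalk (η X) :=
    LinearEquiv.ofBijective (LinearMap.toSpanSingleton _ _ _) g2
  let E2 : X.presheaf.stalk (η X) ≃ₗ[X.presheaf.stalk (η X)] (CohB1.tensorMod (ddual L)
      (CohB1.tensorPow (dual (ClSub.idealMod 𝓓)) k)).presheaf.stalk (η X) :=
    LinearEquiv.ofBijective (LinearMap.toSpanSingleton _ _ _) g3
  have hE1 : ∀ c, E1 c = c • wd hF'.1 hL' (η X) b' := fun c => rfl
  have hE2 : ∀ c, E2 c = c • stmul (wd hF.1 hL (η X) b) (tpow (sGerm 𝓓 (η X)) k) := fun c => rfl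
  let T := E1.symm.trans E2
  have hT0 : T (wd hF'.1 hL' (η X) b') =
      stmul (wd hF.1 hL (η X) b) (tpow (sGerm 𝓓 (η X)) k) := by
    have h1 : E1.symm (wd hF'.1 hL' (η X) b') = 1 := by
      rw [LinearEquiv.symm_apply_eq, hE1, one_smul]
    change E2 (E1.symm _) = _
    rw [h1, hE2, one_smul]
  have hT : ∀ v : Fin r → F.presheaf.stalk (η X),
      T (wd hF'.1 hL' (η X) (fun j => stalkMapₗ a (η X) (v j))) =
        stmul (wd hF.1 hL (η X) v) (tpow (sGerm 𝓓 (η X)) k) := by
    intro v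
    have h2 : v = fun j => ∑ k, (b.repr (v j) k) • b k := funext fun j => (b.sum_repr (v j)).symm
    have h3 : (fun j => stalkMapₗ a (η X) (v j)) = fun j => ∑ k, (b.repr (v j) k) • b' k := by
      funext j
      conv_lhs => rw [← b.sum_repr (v j)]
      rw [map_sum]
      exact Finset.sum_congr rfl (fun k _ => by rw [map_smul, hb'])
    rw [h3, K476.DetAlg.alt_comp (wd hF'.1 hL' (η X)) b' (fun j k => b.repr (v j) k), map_smul,
      hT0]
    conv_rhs => rw [h2]
    rw [K476.DetAlg.alt_comp (wd hF.1 hL (η X)) b (fun j k => b.repr (v j) k), smul_stmul]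
  refine K476.RefIso.nonempty_iso_of_codim_one hX (K476.HomSh4.isCoh_ddual hLc')
    (K476.Ref1.isReflexive_ddual hLc') hRc hR T (fun x hx => ?_)
  obtain ⟨e, e', c, f, δ, he, he', hc0, hc, hδ, hf, u, hu⟩ := h x hx
  have hdvr := K476.Ref1.isDVR_of_dim_one hX x hx
  have hp : IsPrincipalIdealRing (X.presheaf.stalk x) := inferInstance
  refine ⟨wd hF'.1 hL' x e', (u : X.presheaf.stalk x) • stmul (wd hF.1 hL x e) (tpow δ k),
    isGen_wd hF' hL' b' x hp he', isGen_smul_unit
      (isGen_stmul (isGen_wd hF hL b x hp he) (isGen_tpow hδ k)) u, ?_⟩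
  have hcp : ∏ j, c j ≠ 0 := Finset.prod_ne_zero_iff.mpr (fun j _ => hc0 j)
  refine (spec_ne_zero hcp).smul_left_cancel.mp ?_
  have h4 : (X.presheaf.stalkSpecializes (spec x)).hom (∏ j, c j) •
      (ddual L').presheaf.stalkSpecializes (spec x) (wd hF'.1 hL' x e') =
      wd hF'.1 hL' (η X) (fun j => stalkMapₗ a (η X) (F.presheaf.stalkSpecializes (spec x) (e j))) := by
    rw [← stalkSpecializes_smul, ← K476.DetAlg.alt_smul, stalkSpecializes_wd]
    congr 1
    funext j
    rw [stalkMapₗ_spec, hc]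
  rw [← map_smul T, h4, hT, ← stalkSpecializes_smul, smul_smul, hu, ← stalkSpecializes_sGerm 𝓓
    (spec x), ← stalkSpecializes_tpow, ← stalkSpecializes_wd, ← stalkSpecializes_stmul, hf,
    tpow_smul, stmul_smul]

end K476.ModTwist
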