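import Groth.Agent.SDiv.K476.RefPow1
import Groth.Agent.SDiv.K476.Codim1Fin

/-!
# Functions on the isomorphism locus of a section extend to sections of reflexive powers
-/

set_option autoImplicit false
set_option backward.isDefEq.respectTransparency false

universe u

noncomputable section

open CategoryTheory CategoryTheory.Limits AlgebraicGeometry TopologicalSpace Opposite
open RefHull K476.HomSh1 K476.HomSh3 K476.HomSh4 Groth.Agent.CycB.ModStalk K475.GenStalk
open K476.TensStalk K476.Ref1 K476.RefPow1 K476.Codim1Fin RefPow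

namespace K476.RefPow2

variable {X : Scheme.{u}} {F : X.Modules} [IsIntegral X] [IsLocallyNoetherian X]

/-- At a codimension one point outside the isomorphism locus, `f s^n` is defined for large `n`. -/
theorem exists_mem_range (hX : Pi1.IsNormalScheme X) (hF : IsRef1 F)
    (s : Coh.structureModule X ⟶ F) {y : X} (hy : ringKrullDim (X.presheaf.stalk y) = 1)
    (hys : y ∉ isoLocus s) (f : X.presheaf.stalk (η X)) :
    ∃ N : ℕ, ∀ n ≥ N, f • secGerm (sPow s n) (η X) ∈
      Set.range ((refPow F n).presheaf.stalkSpecializes (spec y)) := by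
  obtain ⟨e, he⟩ := exists_isGen_of_isRef1 hX hF y hy
  obtain ⟨c, hc⟩ := he.2 (secGerm s y)
  dsimp only at hc
  have hcm : c ∈ IsLocalRing.maximalIdeal (X.presheaf.stalk y) := by
    rw [IsLocalRing.mem_maximalIdeal, mem_nonunits_iff]
    intro hu
    apply hys
    refine (bijective_iff_isGen s y).mpr (isGen_of_span he ?_)
    rw [← hc, Submodule.span_singleton_smul_eq hu]
    exact he.span_eq_top
  have hdvr := isDVR_of_dim_one hX y hy
  obtain ⟨N, hN⟩ := exists_pow_mul_mem (K := X.functionField) hcm f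
  refine ⟨N, fun n hn => ?_⟩
  obtain ⟨g, hg⟩ := hN n hn
  refine ⟨g • powGerm e n, ?_⟩
  have h1 : secGerm (sPow s n) y = c ^ n • powGerm e n := secGerm_sPow s hc.symm n
  rw [← stalkSpecializes_secGerm (sPow s n) (spec y), h1, stalkSpecializes_smul,
    stalkSpecializes_smul, smul_smul]
  congr 1
  refine Eq.trans hg ?_
  exact mul_comm _ _

/-- A function `f` on the part `W` of an affine open `V` where `s` generates extends, after multiplication by `s^n`, to
a section of `F^[n]` over `V`. -/
theorem exists_section_sPow (hX : Pi1.IsNormalScheme X) (hF : IsRef1 F)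
    (s : Coh.structureModule X ⟶ F) {V : X.Opens} (hV : IsAffineOpen V) {W : X.Opens}
    (hW : W ≤ V) (hη : η X ∈ W) (hWU : ∀ y ∈ V, y ∈ isoLocus s → y ∈ W) (f : Γ(X, W)) :
    ∃ N : ℕ, ∀ n ≥ N, ∃ t : Γ(refPow F n, V), (refPow F n).presheaf.germ V (η X) (hW hη) t =
      (X.presheaf.germ W (η X) hη f) • secGerm (sPow s n) (η X) := by
  have hfin := finite_codim_one hV hW hη
  have h1 : ∀ y : X, ∃ N : ℕ, y ∈ V ∧ y ∉ W ∧ ringKrullDim (X.presheaf.stalk y) = 1 →
      ∀ n ≥ N, (X.presheaf.germ W (η X) hη f) • secGerm (sPow s n) (η X) ∈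
      Set.range ((refPow F n).presheaf.stalkSpecializes (spec y)) := by
    intro y
    by_cases h : y ∈ V ∧ y ∉ W ∧ ringKrullDim (X.presheaf.stalk y) = 1
    · obtain ⟨N, hN⟩ := exists_mem_range hX hF s h.2.2 (fun h' => h.2.1 (hWU y h.1 h'))
        (X.presheaf.germ W (η X) hη f)
      exact ⟨N, fun _ => hN⟩
    · exact ⟨0, fun h' => absurd h' h⟩
  choose N hN using h1
  refine ⟨hfin.toFinset.sup N, fun n hn => ?_⟩
  have hP := isRef1_refPow hF n
  have key : ∀ y ∈ V, ringKrullDim (X.presheaf.stalk y) = 1 →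
      (X.presheaf.germ W (η X) hη f) • secGerm (sPow s n) (η X) ∈
        Set.range ((refPow F n).presheaf.stalkSpecializes (spec y)) := by
    intro y hyV hdim
    by_cases hyW : y ∈ W
    · refine ⟨X.presheaf.germ W y hyW f • secGerm (sPow s n) y, ?_⟩
      rw [stalkSpecializes_smul, stalkSpecializes_secGerm]
      congr 1
      exact TopCat.Presheaf.germ_stalkSpecializes_apply X.presheaf hyW (spec y) f
    · have hmem : y ∈ hfin.toFinset := by
        rw [Set.Finite.mem_toFinset]
        exact ⟨hyV, hyW, hdim⟩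
      exact hN y ⟨hyV, hyW, hdim⟩ n ((Finset.le_sup hmem).trans hn)
  obtain ⟨t, ht⟩ := exists_section_of_codim_one hX hP.1 hP.2.1 V _ key
  exact ⟨t, ht _⟩

end K476.RefPow2
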